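import Mathlib
import Cfsg.Agent.Lib.NormalAbelian

section


/-!
# Type `U4(q)`, `q ≥ 4`: the local data and the structure of the second parabolic

`V` is the natural `O4^-(q)`-module of `L1/V = L2(q^2)`, `U` a common Sylow `2`-subgroup of `L1`
and `L2`, `Z = C_V(U)`, `Y = [V, U]`, `A0` the torus of order `q + 1` of `C_{L1}(Z)`.
-/

set_option autoImplicit false

namespace Cfsg.Agent.RankTwoClose.UFour

variable {G : Type*} [Group G]

/-- `g X g⁻¹`. -/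
def cj (g : G) (X : Subgroup G) : Subgroup G := X.map (MulAut.conj g).toMonoidHom

theorem mem_cj {g x : G} {X : Subgroup G} : x ∈ cj g X ↔ g⁻¹ * x * g ∈ X := by
  constructor
  · rintro ⟨y, hy, rfl⟩
    have : g⁻¹ * (MulAut.conj g).toMonoidHom y * g = y := by
      show g⁻¹ * (g * y * g⁻¹) * g = y
      group
    rw [this]; exact hy
  · intro h
    exact ⟨_, h, by show g * (g⁻¹ * x * g) * g⁻¹ = x; group⟩

theorem conj_mem_cj {g x : G} {X : Subgroup G} (hx : x ∈ X) : g * x * g⁻¹ ∈ cj g X :=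
  ⟨x, hx, rfl⟩

theorem cj_mul (g h : G) (X : Subgroup G) : cj (g * h) X = cj g (cj h X) := by
  ext x
  rw [mem_cj, mem_cj, mem_cj]
  have : (g * h)⁻¹ * x * (g * h) = h⁻¹ * (g⁻¹ * x * g) * h := by group
  rw [this]

@[simp] theorem cj_one (X : Subgroup G) : cj 1 X = X := by
  ext x
  rw [mem_cj]
  simp

theorem cj_mono {g : G} {X X' : Subgroup G} (h : X ≤ X') : cj g X ≤ cj g X' := by
  intro x hx
  rw [mem_cj] at hx ⊢
  exact h hx

theorem mem_norm_iff {g : G} {X : Subgroup G} :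
    g ∈ Subgroup.normalizer (X : Set G) ↔ cj g X = X := by
  rw [Subgroup.mem_normalizer_iff]
  constructor
  · intro h
    ext x
    rw [mem_cj]
    have := h (g⁻¹ * x * g)
    rw [show g * (g⁻¹ * x * g) * g⁻¹ = x by group] at this
    exact this
  · intro h x
    constructor
    · intro hx
      rw [← h]
      exact conj_mem_cj hx
    · intro hx
      rw [← h, mem_cj] at hx
      rwa [show g⁻¹ * (g * x * g⁻¹) * g = x by group] at hx

theorem cj_eq_of_mem {g : G} {X : Subgroup G} (h : g ∈ X) : cj g X = X :=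
  mem_norm_iff.mp (Subgroup.le_normalizer h)

theorem conj_mem {g x : G} {X : Subgroup G} (h : g ∈ Subgroup.normalizer (X : Set G))
    (hx : x ∈ X) : g * x * g⁻¹ ∈ X :=
  (Subgroup.mem_normalizer_iff.mp h x).mp hx

theorem conj_mem' {g x : G} {X : Subgroup G} (h : g ∈ Subgroup.normalizer (X : Set G))
    (hx : x ∈ X) : g⁻¹ * x * g ∈ X := by
  have := conj_mem (inv_mem h) hx
  rwa [inv_inv] at this

/-- `[g, x] ∈ X` for `g` normalising `X ∋ x`. -/
theorem comm_mem {g x : G} {X : Subgroup G} (h : g ∈ Subgroup.normalizer (X : Set G))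
    (hx : x ∈ X) : g * x * g⁻¹ * x⁻¹ ∈ X :=
  mul_mem (conj_mem h hx) (inv_mem hx)

/-- Rank one data: `U` acts transitively on the other conjugates of `U` in `L`, `Q` is the kernel. -/
structure RankOne (L U Q : Subgroup G) (n : G) : Prop where
  UL : U ≤ L
  QU : Q ≤ U
  norm : L ≤ Subgroup.normalizer (Q : Set G)
  nL : n ∈ L
  trans : ∀ g ∈ L, cj g U = U ∨ ∃ u ∈ U, cj g U = cj (u * n) U
  inter : U ⊓ cj n U ≤ Q
  ker : ∀ x ∈ L, (∀ g ∈ L, cj x (cj g U) = cj g U) → x ∈ Q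
  gen : L ≤ U ⊔ cj n U
  ab : ∀ a ∈ U, ∀ b ∈ U, a * b * a⁻¹ * b⁻¹ ∈ Q

namespace RankOne

variable {L U Q : Subgroup G} {n : G}

/-- An element normalising `L`, `U`, `U^n` and centralising `U/Q` centralises `L/Q`. -/
theorem comm_of (h : RankOne L U Q n) {g : G} (hL : g ∈ Subgroup.normalizer (L : Set G))
    (hU : g ∈ Subgroup.normalizer (U : Set G))
    (hn : cj g (cj n U) = cj n U) (hc : ∀ u ∈ U, g * u * g⁻¹ * u⁻¹ ∈ Q) :
    ∀ x ∈ L, g * x * g⁻¹ * x⁻¹ ∈ Q := by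
  -- `g` normalises every conjugate
  have key : ∀ x ∈ L, cj g (cj x U) = cj x U := by
    intro x hx
    rcases h.trans x hx with h1 | ⟨u, hu, h1⟩
    · rw [h1]; exact mem_norm_iff.mp hU
    · rw [h1, cj_mul u n, ← cj_mul g u]
      have e1 : g * u = (g * u * g⁻¹ * u⁻¹) * u * g := by group
      rw [e1, cj_mul _ g, hn, cj_mul _ u]
      -- now `cj q (cj u (cj n U)) = cj u (cj n U)` for `q ∈ Q`
      have hq := hc u hu
      set q := g * u * g⁻¹ * u⁻¹ with hqdef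
      have e2 : q * (u * n) = (u * n) * ((u * n)⁻¹ * q * (u * n)) := by group
      have hun : u * n ∈ L := mul_mem (h.UL hu) h.nL
      have hq' : (u * n)⁻¹ * q * (u * n) ∈ Q := conj_mem' (h.norm hun) hq
      have e3 : cj q (cj (u * n) U) = cj (u * n) U := by
        rw [← cj_mul, e2, cj_mul, cj_eq_of_mem (h.QU hq')]
      rw [cj_mul u n] at e3
      exact e3
  intro x hx
  refine h.ker _ (mul_mem (conj_mem hL hx) (inv_mem hx)) ?_
  intro y hy
  have e : g * x * g⁻¹ * x⁻¹ = g * (x * (g⁻¹ * x⁻¹)) := by group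
  rw [e, cj_mul, cj_mul x, cj_mul g⁻¹, ← cj_mul x⁻¹ y]
  have hxy : x⁻¹ * y ∈ L := mul_mem (inv_mem hx) hy
  have h1 : cj g⁻¹ (cj (x⁻¹ * y) U) = cj (x⁻¹ * y) U := by
    conv_lhs => rw [← key _ hxy]
    rw [← cj_mul g⁻¹ g, inv_mul_cancel, cj_one]
  rw [h1, ← cj_mul x, mul_inv_cancel_left]
  exact key y hy

end RankOne

/-- The local data of type `U4(q)`. -/
structure Data (S V U Z Y L1 L2 Q H A0 : Subgroup G) (n1 n2 : G) : Prop where
  -- the Sylow group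
  twoS : IsPGroup 2 S
  US : U ≤ S
  SV : S ≤ Subgroup.normalizer (V : Set G)
  SU : S ≤ Subgroup.normalizer (U : Set G)
  SL1 : S ≤ Subgroup.normalizer (L1 : Set G)
  SL2 : S ≤ Subgroup.normalizer (L2 : Set G)
  cSV : ∀ s ∈ S, (∀ v ∈ V, s * v = v * s) → s ∈ V
  -- the first parabolic
  P1 : RankOne L1 U V n1
  commV : ∀ a ∈ V, ∀ b ∈ V, a * b = b * a
  sqV : ∀ a ∈ V, a * a = 1
  memZ : ∀ v, v ∈ Z ↔ v ∈ V ∧ ∀ u ∈ U, v * u = u * v
  Ydef : Y = ⁅V, U⁆
  YU : ∀ y ∈ Y, ∀ u ∈ U, y * u * y⁻¹ * u⁻¹ ∈ Z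
  Zle : Z ≤ ⁅Y, U⁆
  Yup : ∀ v ∈ V, (∀ u ∈ U, v * u * v⁻¹ * u⁻¹ ∈ Z) → v ∈ Y
  cUVZ : ∀ u ∈ U, (∀ v ∈ V, v * u * v⁻¹ * u⁻¹ ∈ Z) → u ∈ V
  cUY : ∀ u ∈ U, (∀ y ∈ Y, y * u = u * y) → u ∈ V
  Vgen : ∀ R : Subgroup G, R ≤ V → Z ≤ R → L1 ≤ Subgroup.normalizer (R : Set G) → V ≤ R
  Vdec : V ≤ Y ⊔ cj n1 Z
  Edis : Y ⊓ cj n1 Z = ⊥
  Ydec : Y ≤ Z ⊔ (Y ⊓ cj n1 Y)
  n1n1 : n1 * n1 ∈ H
  borel1 : ∀ g ∈ L1, cj g U = U → g ∈ U ⊔ H
  Zbig : ∃ a ∈ Z, ∃ b ∈ Z, a ≠ 1 ∧ b ≠ 1 ∧ a ≠ b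
  -- the torus
  odd : Odd (Nat.card H)
  HV : H ≤ Subgroup.normalizer (V : Set G)
  HU : H ≤ Subgroup.normalizer (U : Set G)
  HL1 : H ≤ Subgroup.normalizer (L1 : Set G)
  HL2 : H ≤ Subgroup.normalizer (L2 : Set G)
  n1H : cj n1 H = H
  n2H : cj n2 H = H
  AH : A0 ≤ H
  AL1 : A0 ≤ L1
  Acomm : ∀ a ∈ A0, ∀ b ∈ A0, a * b = b * a
  n1A : cj n1 A0 = A0
  HA : H ≤ Subgroup.normalizer (A0 : Set G)
  AZ : ∀ a ∈ A0, ∀ z ∈ Z, a * z = z * a
  AE : ∀ a ∈ A0, ∀ v ∈ V, a * v * a⁻¹ * v⁻¹ ∈ Y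
  irrY : ∀ R : Subgroup G, Z ≤ R → R ≤ Y → A0 ≤ Subgroup.normalizer (R : Set G) → R = Z ∨ R = Y
  irrU : ∀ R : Subgroup G, V ≤ R → R ≤ U → A0 ≤ Subgroup.normalizer (R : Set G) → R = V ∨ R = U
  irrE : ∀ R : Subgroup G, Y ≤ R → R ≤ V → H ≤ Subgroup.normalizer (R : Set G) → R = Y ∨ R = V
  fixY : ∀ y ∈ Y, (∀ a ∈ A0, a * y = y * a) → y ∈ Z
  fixU : ∀ u ∈ U, (∀ h ∈ H, h * u * h⁻¹ * u⁻¹ ∈ V) → u ∈ V
  transZ : ∀ z ∈ Z, ∀ z' ∈ Z, z ≠ 1 → z' ≠ 1 → ∃ h ∈ H, h * z * h⁻¹ = z'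
  -- the second parabolic
  P2 : RankOne L2 U Q n2
  ZL2 : ∀ z ∈ Z, ∀ x ∈ L2, z * x = x * z
  Qmax : ∀ R : Subgroup G, IsPGroup 2 R → R ≤ L2 → L2 ≤ Subgroup.normalizer (R : Set G) → R ≤ Q
  cQ : ∀ x ∈ L2, (∀ q ∈ Q, x * q = q * x) → x ∈ Q
  ne : Q ≠ V
  n2n2 : n2 * n2 ∈ H
  borel2 : ∀ g ∈ L2, cj g U = U → g ∈ U ⊔ H
  H2ne : ∃ h ∈ H ⊓ L2, h ≠ 1
  H2inv : ∀ h ∈ H ⊓ L2, n2 * h * n2⁻¹ = h⁻¹
  fix2 : ∀ u ∈ U, (∀ h ∈ H ⊓ L2, h * u * h⁻¹ * u⁻¹ ∈ Q) → u ∈ Q

end Cfsg.Agent.RankTwoClose.UFour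

end

section


/-!
Small tools: products of subgroups, `2`-groups, the commuting algebra lemma.
-/

set_option autoImplicit false

namespace Cfsg.Agent.RankTwoClose.UFour

variable {G : Type*} [Group G]

theorem mem_sup_norm {X W : Subgroup G} (h : X ≤ Subgroup.normalizer (W : Set G)) {g : G}
    (hg : g ∈ X ⊔ W) : ∃ x ∈ X, ∃ w ∈ W, g = x * w := by
  have key : ∀ g ∈ X ⊔ W, ∃ x ∈ X, ∃ w ∈ W, g = x * w := by
    intro g hg
    rw [Subgroup.sup_eq_closure] at hg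
    induction hg using Subgroup.closure_induction with
    | mem y hy =>
      rcases hy with hy | hy
      · exact ⟨y, hy, 1, one_mem _, by rw [mul_one]⟩
      · exact ⟨1, one_mem _, y, hy, by rw [one_mul]⟩
    | one => exact ⟨1, one_mem _, 1, one_mem _, by rw [mul_one]⟩
    | mul a b _ _ ha hb =>
      obtain ⟨x, hx, w, hw, rfl⟩ := ha
      obtain ⟨x', hx', w', hw', rfl⟩ := hb
      refine ⟨x * x', mul_mem hx hx', (x'⁻¹ * w * x') * w', mul_mem (conj_mem' (h hx') hw) hw', ?_⟩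
      group
    | inv a _ ha =>
      obtain ⟨x, hx, w, hw, rfl⟩ := ha
      refine ⟨x⁻¹, inv_mem hx, x * w⁻¹ * x⁻¹, conj_mem (h hx) (inv_mem hw), ?_⟩
      group
  exact key g hg

theorem eq_one_of_odd_two {H Q : Subgroup G} (hH : Odd (Nat.card H)) (hQ : IsPGroup 2 Q) {x : G}
    (hx : x ∈ H) (hx' : x ∈ Q) : x = 1 := by
  obtain ⟨k, hk⟩ := hQ ⟨x, hx'⟩
  have hk' : x ^ 2 ^ k = 1 := congrArg Subtype.val hk
  have h1 : orderOf x ∣ 2 ^ k := orderOf_dvd_of_pow_eq_one hk'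
  have h2 : orderOf x ∣ Nat.card H := Subgroup.orderOf_dvd_natCard H hx
  have h3 : Nat.Coprime (2 ^ k) (Nat.card H) :=
    Nat.Coprime.pow_left k (Nat.coprime_two_left.mpr hH)
  have h4 : orderOf x = 1 := Nat.eq_one_of_dvd_coprimes h3 h1 h2
  exact orderOf_eq_one_iff.mp h4

/-- If `cj h Q ≤ Q` for all `h` in a subgroup then it normalises `Q`. -/
theorem le_normalizer_of {H Q : Subgroup G} (h : ∀ x ∈ H, cj x Q ≤ Q) :
    H ≤ Subgroup.normalizer (Q : Set G) := by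
  intro x hx
  rw [mem_norm_iff]
  refine le_antisymm (h x hx) ?_
  have h1 := cj_mono (g := x) (h x⁻¹ (inv_mem hx))
  rwa [← cj_mul, mul_inv_cancel, cj_one] at h1

theorem card_cj (g : G) (X : Subgroup G) : Nat.card (cj g X) = Nat.card X :=
  (Nat.card_congr (X.equivMapOfInjective (MulAut.conj g).toMonoidHom
    (MulAut.conj g).injective).toEquiv).symm

theorem isPGroup_cj {p : ℕ} {g : G} {X : Subgroup G} (h : IsPGroup p X) : IsPGroup p (cj g X) :=
  h.map _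

theorem cj_sup (g : G) (X W : Subgroup G) : cj g (X ⊔ W) = cj g X ⊔ cj g W :=
  Subgroup.map_sup _ _ _

theorem cj_inf (g : G) (X W : Subgroup G) : cj g (X ⊓ W) = cj g X ⊓ cj g W := by
  ext x
  simp only [Subgroup.mem_inf, mem_cj]

theorem cj_comm (g : G) (X W : Subgroup G) : cj g ⁅X, W⁆ = ⁅cj g X, cj g W⁆ :=
  Subgroup.map_commutator _ _ _

theorem cj_inv_cj (g : G) (X : Subgroup G) : cj g⁻¹ (cj g X) = X := by
  rw [← cj_mul, inv_mul_cancel, cj_one]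

theorem cj_cj_inv (g : G) (X : Subgroup G) : cj g (cj g⁻¹ X) = X := by
  rw [← cj_mul, mul_inv_cancel, cj_one]

theorem norm_cj {g x : G} {X : Subgroup G}
    (h : g⁻¹ * x * g ∈ Subgroup.normalizer (X : Set G)) :
    x ∈ Subgroup.normalizer ((cj g X : Subgroup G) : Set G) := by
  rw [mem_norm_iff] at h ⊢
  have : cj x (cj g X) = cj g (cj (g⁻¹ * x * g) X) := by
    rw [← cj_mul, ← cj_mul]; congr 1; group
  rw [this, h]

theorem norm_inf {X W : Subgroup G} {g : G} (hX : g ∈ Subgroup.normalizer (X : Set G))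
    (hW : g ∈ Subgroup.normalizer (W : Set G)) :
    g ∈ Subgroup.normalizer ((X ⊓ W : Subgroup G) : Set G) := by
  rw [mem_norm_iff] at *
  rw [cj_inf, hX, hW]

theorem norm_sup {X W : Subgroup G} {g : G} (hX : g ∈ Subgroup.normalizer (X : Set G))
    (hW : g ∈ Subgroup.normalizer (W : Set G)) :
    g ∈ Subgroup.normalizer ((X ⊔ W : Subgroup G) : Set G) := by
  rw [mem_norm_iff] at *
  rw [cj_sup, hX, hW]

/-- In a finite `2`-group `S` normalising `V` and `U`, with `U ≤ S` not inside `V`, some element of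
`U` outside `V` is central modulo `V`. -/
theorem exists_central_mod [Finite G] {S V U : Subgroup G} (hS : IsPGroup 2 S) (hUS : U ≤ S)
    (hVS : V ≤ S) (hV : S ≤ Subgroup.normalizer (V : Set G))
    (hU : S ≤ Subgroup.normalizer (U : Set G)) (h : ¬ U ≤ V) :
    ∃ u ∈ U, u ∉ V ∧ ∀ s ∈ S, s * u * s⁻¹ * u⁻¹ ∈ V := by
  have hn : Group.IsNilpotent S := by
    have : Fact (Nat.Prime 2) := ⟨Nat.prime_two⟩
    exact hS.isNilpotent
  have hV' : (V.subgroupOf S).Normal := by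
    rw [Subgroup.normal_subgroupOf_iff_le_normalizer hVS]; exact hV
  have hU' : (U.subgroupOf S).Normal := by
    rw [Subgroup.normal_subgroupOf_iff_le_normalizer hUS]; exact hU
  have hne : ¬ U.subgroupOf S ≤ V.subgroupOf S := by
    intro hle
    apply h
    intro u hu
    exact Subgroup.mem_subgroupOf.mp (hle (x := ⟨u, hUS hu⟩) (Subgroup.mem_subgroupOf.mpr hu))
  obtain ⟨⟨x, hxS⟩, hx, hxV, hc⟩ :=
    Lib.NormalAbelian.exists_mem_not_mem_central_mod hV' hU' hne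
  rw [Subgroup.mem_subgroupOf] at hx hxV
  refine ⟨x, hx, hxV, fun s hs => ?_⟩
  have h1 := Subgroup.mem_subgroupOf.mp (hc ⟨s, hs⟩)
  have h2 : x * s * x⁻¹ * s⁻¹ ∈ V := h1
  have h3 := inv_mem h2
  rwa [show (x * s * x⁻¹ * s⁻¹)⁻¹ = s * x * s⁻¹ * x⁻¹ by group] at h3

end Cfsg.Agent.RankTwoClose.UFour

end

section


/-!
# Fields of characteristic `2` with an involution

Trace, norm, Hilbert 90 and the irreducibility of the norm-one group, for the natural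
`O4^-(q)`-module.
-/

set_option autoImplicit false

namespace Cfsg.Agent.RankTwoClose.UFour.MField

variable {K : Type*} [Field K] [CharP K 2] {s : K ≃+* K}

theorem add_self (a : K) : a + a = 0 := CharTwo.add_self_eq_zero a

theorem neg_eq (a : K) : -a = a := CharTwo.neg_eq a

theorem sub_eq (a b : K) : a - b = a + b := CharTwo.sub_eq_add a b

theorem eq_of_add_eq_zero {a b : K} (h : a + b = 0) : a = b := by
  have := eq_neg_of_add_eq_zero_left h
  rwa [neg_eq] at this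

theorem exists_moved (hne : s ≠ RingEquiv.refl K) : ∃ k : K, s k ≠ k := by
  by_contra h
  push Not at h
  exact hne (RingEquiv.ext h)

/-- The trace is onto the fixed field. -/
theorem exists_trace (hs : ∀ k, s (s k) = k) (hne : s ≠ RingEquiv.refl K) {a : K} (ha : s a = a) :
    ∃ k, k + s k = a := by
  obtain ⟨k, hk⟩ := exists_moved hne
  have hd : k + s k ≠ 0 := fun h => hk (eq_of_add_eq_zero h).symm
  have hsd : s (k + s k) = k + s k := by rw [map_add, hs, add_comm]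
  refine ⟨a * (k + s k)⁻¹ * k, ?_⟩
  rw [map_mul, map_mul, ha, map_inv₀, hsd, ← mul_add, mul_assoc, inv_mul_cancel₀ hd, mul_one]

theorem trace_nondeg (hs : ∀ k, s (s k) = k) (hne : s ≠ RingEquiv.refl K) {b : K}
    (h : ∀ w, s w * b + w * s b = 0) : b = 0 := by
  by_contra hb
  obtain ⟨k, hk⟩ := exists_moved hne
  have h1 := h (s (k * b⁻¹))
  rw [hs, mul_assoc, inv_mul_cancel₀ hb, mul_one, ← map_mul, mul_assoc, inv_mul_cancel₀ hb,
    mul_one] at h1
  exact hk (eq_of_add_eq_zero h1).symm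

/-- The square root in a finite field of characteristic two. -/
theorem exists_sqrt [Finite K] (a : K) : ∃ b, b * b = a := by
  have h : Function.Surjective (frobenius K 2) :=
    Finite.surjective_of_injective (frobenius_inj K 2)
  obtain ⟨b, hb⟩ := h a
  rw [frobenius_def, pow_two] at hb
  exact ⟨b, hb⟩

theorem mul_self_inj {a b : K} (h : a * a = b * b) : a = b := by
  have h1 : (a + b) * (a + b) = 0 := by
    have : (a + b) * (a + b) = a * a + b * b + (a * b + a * b) := by ring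
    rw [this, add_self, h, add_self, add_zero]
  exact eq_of_add_eq_zero (mul_self_eq_zero.mp h1)

/-- The norm is onto the fixed field. -/
theorem exists_norm [Finite K] {a : K} (ha : s a = a) : ∃ k, k * s k = a := by
  obtain ⟨b, hb⟩ := exists_sqrt a
  refine ⟨b, ?_⟩
  have : s b = b := mul_self_inj (by rw [← map_mul, hb, ha])
  rw [this, hb]

/-- Every element of norm one is the square of one. -/
theorem exists_sqrt_norm_one [Finite K] {t : K} (ht : t * s t = 1) :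
    ∃ r, r * r = t ∧ r * s r = 1 := by
  obtain ⟨r, hr⟩ := exists_sqrt t
  refine ⟨r, hr, mul_self_inj ?_⟩
  rw [← hr, map_mul] at ht
  rw [mul_one]
  calc r * s r * (r * s r) = r * r * (s r * s r) := by ring
    _ = 1 := ht

/-- A nontrivial element of norm one. -/
theorem exists_norm_one (hs : ∀ k, s (s k) = k) (hne : s ≠ RingEquiv.refl K) :
    ∃ t, t * s t = 1 ∧ t ≠ 1 := by
  obtain ⟨k, hk⟩ := exists_moved hne
  have hk0 : k ≠ 0 := fun h => hk (by rw [h, map_zero])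
  have hsk0 : s k ≠ 0 := fun h => hk0 (s.injective (by rw [h, map_zero]))
  refine ⟨k * (s k)⁻¹, ?_, ?_⟩
  · rw [map_mul, map_inv₀, hs]
    field_simp
  · intro h
    exact hk ((mul_inv_eq_one₀ hsk0).mp h).symm

/-- A nonzero fixed element different from `1`. -/
theorem exists_fix [Finite K] (hs : ∀ k, s (s k) = k) (hne : s ≠ RingEquiv.refl K)
    (hK : 4 < Nat.card K) : ∃ f, s f = f ∧ f ≠ 0 ∧ f ≠ 1 := by
  by_contra hno
  push Not at hno
  have hF : ∀ f, s f = f → f = 0 ∨ f = 1 := fun f hf => by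
    by_cases h0 : f = 0
    · exact Or.inl h0
    · exact Or.inr (hno f hf h0)
  obtain ⟨k, hk⟩ := exists_moved hne
  have hd : k + s k ≠ 0 := fun h => hk (eq_of_add_eq_zero h).symm
  have hsd : s (k + s k) = k + s k := by rw [map_add, hs, add_comm]
  have hd1 : k + s k = 1 := (hF _ hsd).resolve_left hd
  have hcov : ∀ x : K, x = 0 ∨ x = 1 ∨ x = k ∨ x = 1 + k := by
    intro x
    have hy : s (x + s x) = x + s x := by rw [map_add, hs, add_comm]
    have hsk : s k = 1 + k := by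
      have : s k = (k + s k) + k := by
        rw [show k + s k + k = (k + k) + s k by ring, add_self, zero_add]
      rw [this, hd1]
    rcases hF _ hy with h0 | h0
    · have hx : s x = x := (eq_of_add_eq_zero h0).symm
      rcases hF x hx with h | h
      · exact Or.inl h
      · exact Or.inr (Or.inl h)
    · have hsx : s x = 1 + x := by
        have : s x = (x + s x) + x := by
          rw [show x + s x + x = (x + x) + s x by ring, add_self, zero_add]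
        rw [this, h0]
      have hx : s (x + k) = x + k := by
        rw [map_add, hsx, hsk, show (1 : K) + x + (1 + k) = x + k + (1 + 1) by ring, add_self,
          add_zero]
      rcases hF _ hx with h | h
      · exact Or.inr (Or.inr (Or.inl (eq_of_add_eq_zero h)))
      · refine Or.inr (Or.inr (Or.inr ?_))
        have : x = (x + k) + k := by
          rw [add_assoc, add_self, add_zero]
        rw [this, h]
  have hle : Nat.card K ≤ 4 := by
    classical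
    have hu : (Set.univ : Set K) ⊆ (({0, 1, k, 1 + k} : Finset K) : Set K) := by
      intro x _
      have := hcov x
      simpa using this
    have h2 : Nat.card K = (Set.univ : Set K).ncard := (Set.ncard_univ K).symm
    rw [h2]
    calc (Set.univ : Set K).ncard ≤ (({0, 1, k, 1 + k} : Finset K) : Set K).ncard :=
          Set.ncard_le_ncard hu
      _ = ({0, 1, k, 1 + k} : Finset K).card := Set.ncard_coe_finset _
      _ ≤ 4 := Finset.card_le_four
  omega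

/-- An additive subgroup stable under the elements of norm one is trivial. -/
theorem irr_norm_one [Finite K] (hs : ∀ k, s (s k) = k) (hne : s ≠ RingEquiv.refl K)
    (R : AddSubgroup K) (hR : ∀ t, t * s t = 1 → ∀ r ∈ R, t * r ∈ R) : R = ⊥ ∨ R = ⊤ := by
  classical
  haveI : Fintype K := Fintype.ofFinite K
  -- the stabiliser
  let E : Subring K :=
    { carrier := {e | ∀ r ∈ R, e * r ∈ R}
      mul_mem' := fun {a b} ha hb r hr => by
        rw [mul_assoc]; exact ha _ (hb r hr)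
      one_mem' := fun r hr => by rwa [one_mul]
      add_mem' := fun {a b} ha hb r hr => by
        rw [add_mul]; exact add_mem (ha r hr) (hb r hr)
      zero_mem' := fun r _ => by rw [zero_mul]; exact zero_mem _
      neg_mem' := fun {a} ha r hr => by rw [neg_mul]; exact neg_mem (ha r hr) }
  have hmem : ∀ e, e ∈ E ↔ ∀ r ∈ R, e * r ∈ R := fun e => Iff.rfl
  have hinv : ∀ e ∈ E, e⁻¹ ∈ E := by
    intro e he
    by_cases h0 : e = 0
    · rw [h0, inv_zero]; exact zero_mem _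
    · have h1 := FiniteField.pow_card_sub_one_eq_one e h0
      have h2 : e⁻¹ = e ^ (Fintype.card K - 2) := by
        have h3 : 2 ≤ Fintype.card K := Fintype.one_lt_card
        have h4 : e ^ (Fintype.card K - 2) * e = 1 := by
          rw [← pow_succ, show Fintype.card K - 2 + 1 = Fintype.card K - 1 by omega, h1]
        exact (eq_inv_of_mul_eq_one_left h4).symm
      rw [h2]
      exact pow_mem he _
  have hN : ∀ t, t * s t = 1 → t ∈ E := fun t ht => (hmem t).2 (hR t ht)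
  have h90 : ∀ k, k ≠ 0 → k * (s k)⁻¹ ∈ E := by
    intro k hk0
    have hsk0 : s k ≠ 0 := fun h => hk0 (s.injective (by rw [h, map_zero]))
    apply hN
    rw [map_mul, map_inv₀, hs]
    field_simp
  have hmoved : ∀ k, s k ≠ k → s k ∈ E := by
    intro k hk
    have hk0 : k ≠ 0 := fun h => hk (by rw [h, map_zero])
    have hk1 : k + 1 ≠ 0 := by
      intro h
      have h1 : k = 1 := eq_of_add_eq_zero h
      exact hk (by rw [h1, map_one])
    have hsk0 : s k ≠ 0 := fun h => hk0 (s.injective (by rw [h, map_zero]))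
    have hsk1 : s k + 1 ≠ 0 := by
      intro h
      have h1 : s k = 1 := eq_of_add_eq_zero h
      have h2 : k = 1 := s.injective (by rw [h1, map_one])
      exact hk1 (by rw [h2, add_self])
    have hx := h90 k hk0
    have hy := h90 (k + 1) hk1
    rw [map_add, map_one] at hy
    set x := k * (s k)⁻¹ with hxdef
    set y := (k + 1) * (s k + 1)⁻¹ with hydef
    have ex : x * s k = k := by rw [hxdef, mul_assoc, inv_mul_cancel₀ hsk0, mul_one]
    have ey : y * (s k + 1) = k + 1 := by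
      rw [hydef, mul_assoc, inv_mul_cancel₀ hsk1, mul_one]
    have e1 : (y - x) * s k = 1 - y := by
      have : y * s k + y = k + 1 := by rw [← ey]; ring
      calc (y - x) * s k = (y * s k + y) - y - x * s k := by ring
        _ = 1 - y := by rw [this, ex]; ring
    have hyx : y - x ≠ 0 := by
      intro h
      have h1 : y = x := sub_eq_zero.mp h
      rw [h, zero_mul] at e1
      have h2 : y = 1 := (sub_eq_zero.mp e1.symm).symm
      rw [← h1, h2, one_mul] at ex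
      exact hk ex
    have e2 : s k = (1 - y) * (y - x)⁻¹ := by
      rw [← e1]
      field_simp
    rw [e2]
    exact mul_mem (sub_mem (one_mem _) hy) (hinv _ (sub_mem hy hx))
  have hmoved' : ∀ k, s k ≠ k → k ∈ E := by
    intro k hk
    have := hmoved (s k) (fun h => hk (s.injective h))
    rwa [hs] at this
  have htop : ∀ k, k ∈ E := by
    intro k
    by_cases hk : s k = k
    · obtain ⟨w, hw⟩ := exists_moved hne
      have h1 : s (k + w) ≠ k + w := by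
        rw [map_add, hk]
        intro h
        exact hw (add_left_cancel h)
      have h2 : k = (k + w) - w := by ring
      rw [h2]
      exact sub_mem (hmoved' _ h1) (hmoved' _ hw)
    · exact hmoved' k hk
  by_cases hbot : R = ⊥
  · exact Or.inl hbot
  · refine Or.inr ?_
    obtain ⟨r, hr, hr0⟩ : ∃ r ∈ R, r ≠ 0 := by
      by_contra h
      push Not at h
      exact hbot ((AddSubgroup.eq_bot_iff_forall R).2 h)
    rw [eq_top_iff]
    intro k _
    have := (hmem (k * r⁻¹)).1 (htop _) r hr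
    rwa [mul_assoc, inv_mul_cancel₀ hr0, mul_one] at this

/-- An additive group of fixed elements stable under the norms is trivial. -/
theorem irr_fix (R : AddSubgroup K) (hF : ∀ r ∈ R, s r = r)
    (hR : ∀ f, s f = f → ∀ r ∈ R, f * r ∈ R) : (∀ r ∈ R, r = 0) ∨ ∀ f, s f = f → f ∈ R := by
  by_cases h : ∀ r ∈ R, r = 0
  · exact Or.inl h
  · right
    push Not at h
    obtain ⟨r, hr, hr0⟩ := h
    intro f hf
    have h1 : s (f * r⁻¹) = f * r⁻¹ := by rw [map_mul, map_inv₀, hf, hF r hr]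
    have := hR _ h1 r hr
    rwa [mul_assoc, inv_mul_cancel₀ hr0, mul_one] at this

end Cfsg.Agent.RankTwoClose.UFour.MField

end

section


/-!
# The natural `O4^-(q)`-module as the fields of `UFour.Data`

`V` is identified with the hermitian `2 × 2`-matrices over a finite field `K` of characteristic two
with involution `s`; `L1` acts through `π : L1 → SL(2, K)`, `h ↦ g h g^{*T}`.
-/

set_option autoImplicit false
set_option linter.unusedSectionVars false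

namespace Cfsg.Agent.RankTwoClose.UFour

open MField

/-- The natural `O4^-(q)`-module. -/
structure Model {G : Type*} [Group G] (K : Type*) [Field K] (s : K ≃+* K) (V L : Subgroup G) where
  le : V ≤ L
  /-- the action -/
  π : L →* Matrix.SpecialLinearGroup (Fin 2) K
  surj : Function.Surjective π
  ker : ∀ x : L, π x = 1 ↔ (x : G) ∈ V
  norm : L ≤ Subgroup.normalizer (V : Set G)
  /-- the module -/
  h : V → Matrix (Fin 2) (Fin 2) K
  mul : ∀ v w : V, h (v * w) = h v + h w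
  herm : ∀ v : V, (h v).transpose.map s = h v
  inj : ∀ v : V, h v = 0 → v = 1
  onto : ∀ M : Matrix (Fin 2) (Fin 2) K, M.transpose.map s = M → ∃ v, h v = M
  act : ∀ (x : L) (v : V), h ⟨(x : G) * v * (x : G)⁻¹, conj_mem (norm x.2) v.2⟩ =
    (π x : Matrix (Fin 2) (Fin 2) K) * h v * ((π x : Matrix (Fin 2) (Fin 2) K).transpose.map s)

namespace Model

variable {G : Type*} [Group G] {K : Type*} [Field K] [CharP K 2] {s : K ≃+* K}
  {V L : Subgroup G} (m : Model K s V L)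

/-! ### Coordinates -/

/-- The coordinates of the module. -/
def a (v : V) : K := m.h v 0 0
/-- The coordinates of the module. -/
def b (v : V) : K := m.h v 0 1
/-- The coordinates of the module. -/
def c (v : V) : K := m.h v 1 1

theorem s_a (v : V) : s (m.a v) = m.a v := congrFun (congrFun (m.herm v) 0) 0
theorem s_c (v : V) : s (m.c v) = m.c v := congrFun (congrFun (m.herm v) 1) 1
theorem h10 (v : V) : m.h v 1 0 = s (m.b v) := (congrFun (congrFun (m.herm v) 1) 0).symm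

theorem a_mul (v w : V) : m.a (v * w) = m.a v + m.a w := by
  unfold a; rw [m.mul]; rfl
theorem b_mul (v w : V) : m.b (v * w) = m.b v + m.b w := by
  unfold b; rw [m.mul]; rfl
theorem c_mul (v w : V) : m.c (v * w) = m.c v + m.c w := by
  unfold c; rw [m.mul]; rfl

theorem h_one : m.h 1 = 0 := by
  have := m.mul 1 1
  rw [mul_one] at this
  exact left_eq_add.mp this

theorem a_one : m.a 1 = 0 := by unfold a; rw [m.h_one]; rfl
theorem b_one : m.b 1 = 0 := by unfold b; rw [m.h_one]; rfl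
theorem c_one : m.c 1 = 0 := by unfold c; rw [m.h_one]; rfl

theorem eq_one {v : V} (h1 : m.a v = 0) (h2 : m.b v = 0) (h3 : m.c v = 0) : v = 1 := by
  apply m.inj
  ext i j
  fin_cases i <;> fin_cases j
  · exact h1
  · exact h2
  · show m.h v 1 0 = 0
    rw [m.h10, h2, map_zero]
  · exact h3

include m in
theorem mul_self (v : V) : v * v = 1 :=
  m.eq_one (by rw [m.a_mul, add_self]) (by rw [m.b_mul, add_self]) (by rw [m.c_mul, add_self])

include m in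
theorem inv_eq (v : V) : v⁻¹ = v := inv_eq_of_mul_eq_one_right (m.mul_self v)

theorem ext' {v w : V} (h1 : m.a v = m.a w) (h2 : m.b v = m.b w) (h3 : m.c v = m.c w) : v = w := by
  have : v * w = 1 := m.eq_one (by rw [m.a_mul, h1, add_self]) (by rw [m.b_mul, h2, add_self])
    (by rw [m.c_mul, h3, add_self])
  rw [← m.inv_eq v]
  exact inv_eq_of_mul_eq_one_right this

include m in
theorem comm (v w : V) : v * w = w * v :=
  m.ext' (by rw [m.a_mul, m.a_mul, add_comm]) (by rw [m.b_mul, m.b_mul, add_comm])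
    (by rw [m.c_mul, m.c_mul, add_comm])

theorem exists_v (hs : ∀ k, s (s k) = k) {x z : K} (y : K) (hx : s x = x) (hz : s z = z) :
    ∃ v, m.a v = x ∧ m.b v = y ∧ m.c v = z := by
  obtain ⟨v, hv⟩ := m.onto !![x, y; s y, z] (by
    ext i j
    fin_cases i <;> fin_cases j
    · exact hx
    · exact hs y
    · rfl
    · exact hz)
  refine ⟨v, ?_, ?_, ?_⟩
  · unfold a; rw [hv]; rfl
  · unfold b; rw [hv]; rfl
  · unfold c; rw [hv]; rfl

/-- Conjugation. -/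
def cg (x : L) (v : V) : V := ⟨(x : G) * v * (x : G)⁻¹, conj_mem (m.norm x.2) v.2⟩

/-- Entries of the matrix. -/
def P (x : L) (i j : Fin 2) : K := (m.π x : Matrix (Fin 2) (Fin 2) K) i j

theorem P_mul (x y : L) (i j : Fin 2) : m.P (x * y) i j = m.P x i 0 * m.P y 0 j + m.P x i 1 * m.P y 1 j := by
  unfold P
  rw [map_mul, Matrix.SpecialLinearGroup.coe_mul, Matrix.mul_apply, Fin.sum_univ_two]

theorem P_det (x : L) : m.P x 0 0 * m.P x 1 1 + m.P x 0 1 * m.P x 1 0 = 1 := by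
  have := (m.π x).det_coe
  rw [Matrix.det_fin_two, sub_eq] at this
  exact this

theorem P_one (i j : Fin 2) : m.P 1 i j = if i = j then 1 else 0 := by
  unfold P
  rw [map_one, Matrix.SpecialLinearGroup.coe_one, Matrix.one_apply]

theorem P_inv (x : L) : m.P x⁻¹ 0 0 = m.P x 1 1 ∧ m.P x⁻¹ 0 1 = m.P x 0 1 ∧
    m.P x⁻¹ 1 0 = m.P x 1 0 ∧ m.P x⁻¹ 1 1 = m.P x 0 0 := by
  unfold P
  rw [map_inv, Matrix.SpecialLinearGroup.coe_inv, Matrix.adjugate_fin_two]
  refine ⟨rfl, neg_eq _, neg_eq _, rfl⟩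

theorem exists_P {p q r t : K} (h : p * t + q * r = 1) :
    ∃ x : L, m.P x 0 0 = p ∧ m.P x 0 1 = q ∧ m.P x 1 0 = r ∧ m.P x 1 1 = t := by
  obtain ⟨x, hx⟩ := m.surj ⟨!![p, q; r, t], by
    rw [Matrix.det_fin_two, sub_eq]; exact h⟩
  unfold P
  exact ⟨x, by rw [hx]; rfl, by rw [hx]; rfl, by rw [hx]; rfl, by rw [hx]; rfl⟩

theorem mem_V_iff (x : L) : (x : G) ∈ V ↔
    m.P x 0 0 = 1 ∧ m.P x 0 1 = 0 ∧ m.P x 1 0 = 0 ∧ m.P x 1 1 = 1 := by
  rw [← m.ker]
  constructor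
  · intro h
    unfold P
    rw [h]
    exact ⟨rfl, rfl, rfl, rfl⟩
  · rintro ⟨h1, h2, h3, h4⟩
    ext i j
    fin_cases i <;> fin_cases j
    · exact h1
    · exact h2
    · exact h3
    · exact h4

theorem act_a (x : L) (v : V) : m.a (m.cg x v) = m.P x 0 0 * s (m.P x 0 0) * m.a v +
    (m.P x 0 0 * s (m.P x 0 1) * m.b v + s (m.P x 0 0) * m.P x 0 1 * s (m.b v)) +
    m.P x 0 1 * s (m.P x 0 1) * m.c v := by
  unfold a cg
  rw [m.act]
  simp only [Matrix.mul_apply, Fin.sum_univ_two, Matrix.map_apply, Matrix.transpose_apply, m.h10]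
  unfold P b c
  ring

theorem act_b (x : L) (v : V) : m.b (m.cg x v) = m.P x 0 0 * s (m.P x 1 0) * m.a v +
    (m.P x 0 0 * s (m.P x 1 1) * m.b v + s (m.P x 1 0) * m.P x 0 1 * s (m.b v)) +
    m.P x 0 1 * s (m.P x 1 1) * m.c v := by
  show m.h (m.cg x v) 0 1 = _
  unfold cg
  rw [m.act]
  simp only [Matrix.mul_apply, Fin.sum_univ_two, Matrix.map_apply, Matrix.transpose_apply, m.h10]
  unfold P a b c
  ring

theorem act_c (x : L) (v : V) : m.c (m.cg x v) = m.P x 1 0 * s (m.P x 1 0) * m.a v +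
    (m.P x 1 0 * s (m.P x 1 1) * m.b v + s (m.P x 1 0) * m.P x 1 1 * s (m.b v)) +
    m.P x 1 1 * s (m.P x 1 1) * m.c v := by
  show m.h (m.cg x v) 1 1 = _
  unfold cg
  rw [m.act]
  simp only [Matrix.mul_apply, Fin.sum_univ_two, Matrix.map_apply, Matrix.transpose_apply, m.h10]
  unfold P a b c
  ring

/-! ### Elements of the unipotent group, of the torus, and the reflection -/

/-- Upper unitriangular. -/
def IsU (x : L) : Prop := m.P x 0 0 = 1 ∧ m.P x 1 0 = 0 ∧ m.P x 1 1 = 1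

/-- Diagonal. -/
def IsT (t : K) (x : L) : Prop :=
  t ≠ 0 ∧ m.P x 0 0 = t ∧ m.P x 0 1 = 0 ∧ m.P x 1 0 = 0 ∧ m.P x 1 1 = t⁻¹

/-- Antidiagonal. -/
def IsN (e : K) (x : L) : Prop :=
  e ≠ 0 ∧ m.P x 0 0 = 0 ∧ m.P x 0 1 = e ∧ m.P x 1 0 = e⁻¹ ∧ m.P x 1 1 = 0

variable {m}

theorem IsU.act {u : L} (h : m.IsU u) (v : V) :
    m.a (m.cg u v) = m.a v + (s (m.P u 0 1) * m.b v + m.P u 0 1 * s (m.b v)) +
        m.P u 0 1 * s (m.P u 0 1) * m.c v ∧
      m.b (m.cg u v) = m.b v + m.P u 0 1 * m.c v ∧ m.c (m.cg u v) = m.c v := by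
  obtain ⟨h1, h2, h3⟩ := h
  refine ⟨?_, ?_, ?_⟩
  · rw [m.act_a, h1, map_one]; ring
  · rw [m.act_b, h1, h2, h3, map_one, map_zero]; ring
  · rw [m.act_c, h2, h3, map_one, map_zero]; ring

theorem IsT.act {t : K} {x : L} (h : m.IsT t x) (v : V) :
    m.a (m.cg x v) = t * s t * m.a v ∧ m.b (m.cg x v) = t * (s t)⁻¹ * m.b v ∧
      m.c (m.cg x v) = t⁻¹ * (s t)⁻¹ * m.c v := by
  obtain ⟨-, h1, h2, h3, h4⟩ := h
  refine ⟨?_, ?_, ?_⟩
  · rw [m.act_a, h1, h2, map_zero]; ring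
  · rw [m.act_b, h1, h2, h3, h4, map_zero, map_inv₀]; ring
  · rw [m.act_c, h3, h4, map_zero, map_inv₀]; ring

theorem IsN.act {e : K} {x : L} (h : m.IsN e x) (v : V) :
    m.a (m.cg x v) = e * s e * m.c v ∧ m.b (m.cg x v) = e * (s e)⁻¹ * s (m.b v) ∧
      m.c (m.cg x v) = e⁻¹ * (s e)⁻¹ * m.a v := by
  obtain ⟨-, h1, h2, h3, h4⟩ := h
  refine ⟨?_, ?_, ?_⟩
  · rw [m.act_a, h1, h2, map_zero]; ring
  · rw [m.act_b, h1, h2, h3, h4, map_zero, map_inv₀]; ring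
  · rw [m.act_c, h3, h4, map_zero, map_inv₀]; ring

variable (m)

theorem exists_U (w : K) : ∃ u : L, m.IsU u ∧ m.P u 0 1 = w := by
  obtain ⟨x, h1, h2, h3, h4⟩ := m.exists_P (p := 1) (q := w) (r := 0) (t := 1) (by ring)
  exact ⟨x, ⟨h1, h3, h4⟩, h2⟩

/-- The preimage of the upper unitriangular group. -/
def U : Subgroup G where
  carrier := {x | ∃ y : L, (y : G) = x ∧ m.IsU y}
  mul_mem' := by
    rintro _ _ ⟨x, rfl, hx⟩ ⟨y, rfl, hy⟩
    refine ⟨x * y, rfl, ?_, ?_, ?_⟩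
    · rw [m.P_mul, hx.1, hy.1, hy.2.1]; ring
    · rw [m.P_mul, hx.2.1, hx.2.2, hy.2.1]; ring
    · rw [m.P_mul, hx.2.1, hx.2.2, hy.2.2]; ring
  one_mem' := by
    refine ⟨1, rfl, ?_, ?_, ?_⟩ <;> rw [m.P_one] <;> simp
  inv_mem' := by
    rintro _ ⟨x, rfl, hx⟩
    obtain ⟨h1, h2, h3, h4⟩ := m.P_inv x
    exact ⟨x⁻¹, rfl, by rw [h1, hx.2.2], by rw [h3, hx.2.1], by rw [h4, hx.1]⟩

/-- The subgroup with `b = c = 0`. -/
def Z : Subgroup G where
  carrier := {x | ∃ y : V, (y : G) = x ∧ m.b y = 0 ∧ m.c y = 0}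
  mul_mem' := by
    rintro _ _ ⟨x, rfl, hx⟩ ⟨y, rfl, hy⟩
    exact ⟨x * y, rfl, by rw [m.b_mul, hx.1, hy.1, add_zero], by rw [m.c_mul, hx.2, hy.2, add_zero]⟩
  one_mem' := ⟨1, rfl, m.b_one, m.c_one⟩
  inv_mem' := by
    rintro _ ⟨x, rfl, hx⟩
    exact ⟨x⁻¹, rfl, by rw [m.inv_eq]; exact hx.1, by rw [m.inv_eq]; exact hx.2⟩

/-- The subgroup with `c = 0`. -/
def Y : Subgroup G where
  carrier := {x | ∃ y : V, (y : G) = x ∧ m.c y = 0}
  mul_mem' := by
    rintro _ _ ⟨x, rfl, hx⟩ ⟨y, rfl, hy⟩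
    exact ⟨x * y, rfl, by rw [m.c_mul, hx, hy, add_zero]⟩
  one_mem' := ⟨1, rfl, m.c_one⟩
  inv_mem' := by
    rintro _ ⟨x, rfl, hx⟩
    exact ⟨x⁻¹, rfl, by rw [m.inv_eq]; exact hx⟩

theorem mem_U {x : L} : (x : G) ∈ m.U ↔ m.IsU x := by
  constructor
  · rintro ⟨y, hy, h⟩
    have : y = x := Subtype.ext hy
    rwa [← this]
  · exact fun h => ⟨x, rfl, h⟩

theorem coe_mem_Z {v : V} : (v : G) ∈ m.Z ↔ m.b v = 0 ∧ m.c v = 0 := by
  constructor
  · rintro ⟨y, hy, h⟩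
    have : y = v := Subtype.ext hy
    rwa [← this]
  · exact fun h => ⟨v, rfl, h⟩

theorem coe_mem_Y {v : V} : (v : G) ∈ m.Y ↔ m.c v = 0 := by
  constructor
  · rintro ⟨y, hy, h⟩
    have : y = v := Subtype.ext hy
    rwa [← this]
  · exact fun h => ⟨v, rfl, h⟩

theorem UL : m.U ≤ L := by
  rintro _ ⟨y, rfl, -⟩
  exact y.2

theorem VU : V ≤ m.U := by
  intro v hv
  obtain ⟨h1, h2, h3, h4⟩ := (m.mem_V_iff ⟨v, m.le hv⟩).1 hv
  exact ⟨⟨v, m.le hv⟩, rfl, h1, h3, h4⟩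

theorem ZV : m.Z ≤ V := by
  rintro _ ⟨y, rfl, -⟩
  exact y.2

theorem YV : m.Y ≤ V := by
  rintro _ ⟨y, rfl, -⟩
  exact y.2

theorem ZY : m.Z ≤ m.Y := by
  rintro _ ⟨y, rfl, h⟩
  exact ⟨y, rfl, h.2⟩

theorem comm_eq (x : L) (v : V) : (v : G) * x * (v : G)⁻¹ * (x : G)⁻¹ = ((v * m.cg x v : V) : G) := by
  have h1 : ((v : G))⁻¹ = v := congrArg Subtype.val (m.inv_eq v)
  rw [h1]
  show _ = (v : G) * ((x : G) * v * (x : G)⁻¹)
  group

theorem comm_eq' (x : L) (v : V) : (x : G) * v * (x : G)⁻¹ * (v : G)⁻¹ = ((m.cg x v * v : V) : G) := by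
  have h1 : ((v : G))⁻¹ = v := congrArg Subtype.val (m.inv_eq v)
  rw [h1]
  rfl

theorem comm_iff (x : L) (v : V) : (v : G) * x = x * v ↔ m.cg x v = v := by
  constructor
  · intro h
    apply Subtype.ext
    show (x : G) * v * (x : G)⁻¹ = v
    rw [← h, mul_inv_cancel_right]
  · intro h
    have h1 : (x : G) * v * (x : G)⁻¹ = v := congrArg Subtype.val h
    calc (v : G) * x = (x : G) * v * (x : G)⁻¹ * x := by rw [h1]
      _ = x * v := by group

theorem mem_cj {x : L} {X : Subgroup G} {v : V} : (v : G) ∈ cj (x : G) X ↔ (m.cg x⁻¹ v : G) ∈ X := by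
  rw [UFour.mem_cj]
  show _ ↔ ((x⁻¹ : L) : G) * v * ((x⁻¹ : L) : G)⁻¹ ∈ X
  rw [Subgroup.coe_inv, inv_inv]

variable {m}

theorem IsN.inv {e : K} {x : L} (h : m.IsN e x) : m.IsN e x⁻¹ := by
  obtain ⟨h0, h1, h2, h3, h4⟩ := h
  obtain ⟨g1, g2, g3, g4⟩ := m.P_inv x
  exact ⟨h0, by rw [g1, h4], by rw [g2, h2], by rw [g3, h3], by rw [g4, h1]⟩

theorem IsT.inv {t : K} {x : L} (h : m.IsT t x) : m.IsT t⁻¹ x⁻¹ := by
  obtain ⟨h0, h1, h2, h3, h4⟩ := h
  obtain ⟨g1, g2, g3, g4⟩ := m.P_inv x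
  exact ⟨inv_ne_zero h0, by rw [g1, h4], by rw [g2, h2], by rw [g3, h3], by rw [g4, h1, inv_inv]⟩

variable (m)

/-! ### The fields of `Data` -/

section Fields

variable (hs : ∀ k, s (s k) = k) (hne : s ≠ RingEquiv.refl K)

include m in
theorem commV : ∀ a ∈ V, ∀ b ∈ V, a * b = b * a := fun a ha b hb =>
  congrArg Subtype.val (m.comm ⟨a, ha⟩ ⟨b, hb⟩)

include m in
theorem sqV : ∀ a ∈ V, a * a = 1 := fun a ha => congrArg Subtype.val (m.mul_self ⟨a, ha⟩)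

include hs hne in
theorem memZ : ∀ v, v ∈ m.Z ↔ v ∈ V ∧ ∀ u ∈ m.U, v * u = u * v := by
  intro v
  constructor
  · rintro ⟨v, rfl, hb, hc⟩
    refine ⟨v.2, ?_⟩
    rintro _ ⟨u, rfl, hu⟩
    rw [m.comm_iff]
    obtain ⟨h1, h2, h3⟩ := hu.act v
    rw [hb, hc] at h1
    rw [hc] at h2
    exact m.ext' (by rw [h1, map_zero]; ring) (by rw [h2]; ring) h3
  · rintro ⟨hv, h⟩
    lift v to V using hv
    rw [m.coe_mem_Z]
    have hact : ∀ u : L, m.IsU u → m.cg u v = v := fun u hu =>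
      (m.comm_iff u v).1 (h u (m.mem_U.2 hu))
    have hc : m.c v = 0 := by
      obtain ⟨u, hu, hw⟩ := m.exists_U 1
      have h2 := (hu.act v).2.1
      rw [hact u hu, hw, one_mul] at h2
      exact left_eq_add.mp h2
    refine ⟨trace_nondeg hs hne fun w => ?_, hc⟩
    obtain ⟨u, hu, hw⟩ := m.exists_U w
    have h1 := (hu.act v).1
    rw [hact u hu, hw, hc, mul_zero, add_zero] at h1
    exact left_eq_add.mp h1

include hs hne in
theorem Zle : m.Z ≤ ⁅m.Y, m.U⁆ := by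
  rintro _ ⟨z, rfl, hb, hc⟩
  obtain ⟨k, hk⟩ := exists_trace hs hne (m.s_a z)
  obtain ⟨v, hv1, hv2, hv3⟩ := m.exists_v hs k (map_zero s) (map_zero s)
  obtain ⟨u, hu, hw⟩ := m.exists_U 1
  have e : z = v * m.cg u v := by
    obtain ⟨h1, h2, h3⟩ := hu.act v
    refine m.ext' ?_ ?_ ?_
    · rw [m.a_mul, h1, hw, hv1, hv2, hv3, ← hk, map_one]; ring
    · rw [m.b_mul, h2, hw, hv3, hb, mul_zero, add_zero, add_self]
    · rw [m.c_mul, h3, hv3, hc, add_zero]
  rw [e, ← m.comm_eq]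
  have := Subgroup.commutator_mem_commutator (m.coe_mem_Y.2 hv3) (m.mem_U.2 hu)
  rwa [commutatorElement_def] at this

include hs hne in
theorem Ydef : m.Y = ⁅V, m.U⁆ := by
  apply le_antisymm
  · rintro _ ⟨y, rfl, hc⟩
    -- `y = [(0,0,1), u] * z`
    obtain ⟨v, hv1, hv2, hv3⟩ := m.exists_v hs 0 (map_zero s) (map_one s)
    obtain ⟨u, hu, hw⟩ := m.exists_U (m.b y)
    have h1 : (v * m.cg u v : G) ∈ ⁅V, m.U⁆ := by
      have := Subgroup.commutator_mem_commutator v.2 (m.mem_U.2 hu)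
      rw [commutatorElement_def] at this
      have e := m.comm_eq u v
      rw [e] at this
      exact this
    have h2 : (v * m.cg u v * y : G) ∈ m.Z := by
      have : ((v * m.cg u v * y : V) : G) ∈ m.Z := by
        rw [m.coe_mem_Z]
        obtain ⟨g1, g2, g3⟩ := hu.act v
        constructor
        · rw [m.b_mul, m.b_mul, g2, hw, hv2, hv3]
          rw [zero_add, zero_add, mul_one, add_self]
        · rw [m.c_mul, m.c_mul, g3, hc, add_self, zero_add]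
      exact this
    have h3 : (v * m.cg u v * y : G) ∈ ⁅V, m.U⁆ :=
      Subgroup.commutator_mono m.YV le_rfl (m.Zle hs hne h2)
    have h4 := mul_mem (inv_mem h1) h3
    rwa [inv_mul_cancel_left] at h4
  · rw [Subgroup.commutator_le]
    rintro v hv _ ⟨u, rfl, hu⟩
    lift v to V using hv
    rw [commutatorElement_def, m.comm_eq, m.coe_mem_Y, m.c_mul, (hu.act v).2.2, add_self]

theorem YU : ∀ y ∈ m.Y, ∀ u ∈ m.U, y * u * y⁻¹ * u⁻¹ ∈ m.Z := by
  rintro _ ⟨y, rfl, hc⟩ _ ⟨u, rfl, hu⟩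
  rw [m.comm_eq, m.coe_mem_Z]
  obtain ⟨h1, h2, h3⟩ := hu.act y
  exact ⟨by rw [m.b_mul, h2, hc, mul_zero, add_zero, add_self], by rw [m.c_mul, h3, add_self]⟩

theorem Yup : ∀ v ∈ V, (∀ u ∈ m.U, v * u * v⁻¹ * u⁻¹ ∈ m.Z) → v ∈ m.Y := by
  intro v hv h
  lift v to V using hv
  obtain ⟨u, hu, hw⟩ := m.exists_U 1
  have h1 := h u (m.mem_U.2 hu)
  rw [m.comm_eq, m.coe_mem_Z, m.b_mul, (hu.act v).2.1, hw, one_mul, ← add_assoc, add_self,
    zero_add] at h1
  exact m.coe_mem_Y.2 h1.1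

include hs in
theorem cUVZ : ∀ u ∈ m.U, (∀ v ∈ V, v * u * v⁻¹ * u⁻¹ ∈ m.Z) → u ∈ V := by
  rintro _ ⟨u, rfl, hu⟩ h
  rw [m.mem_V_iff]
  refine ⟨hu.1, ?_, hu.2.1, hu.2.2⟩
  obtain ⟨v, hv1, hv2, hv3⟩ := m.exists_v hs 0 (map_zero s) (map_one s)
  have h1 := h v v.2
  rw [m.comm_eq, m.coe_mem_Z, m.b_mul, (hu.act v).2.1, hv3, mul_one, ← add_assoc, add_self,
    zero_add] at h1
  exact h1.1

include hs hne in
theorem cUY : ∀ u ∈ m.U, (∀ y ∈ m.Y, y * u = u * y) → u ∈ V := by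
  rintro _ ⟨u, rfl, hu⟩ h
  rw [m.mem_V_iff]
  refine ⟨hu.1, trace_nondeg hs hne fun w => ?_, hu.2.1, hu.2.2⟩
  obtain ⟨v, hv1, hv2, hv3⟩ := m.exists_v hs w (map_zero s) (map_zero s)
  have h1 := (m.comm_iff u v).1 (h v (m.coe_mem_Y.2 hv3))
  have h2 := (hu.act v).1
  rw [h1, hv3, mul_zero, add_zero, hv2] at h2
  have h3 := left_eq_add.mp h2
  rw [mul_comm (s w), mul_comm w, add_comm]
  exact h3

section Refl

variable {m} {e : K} {n : L} (hn : m.IsN e n)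

include hn

theorem mem_cjZ {v : V} : (v : G) ∈ cj (n : G) m.Z ↔ m.a v = 0 ∧ m.b v = 0 := by
  rw [m.mem_cj, m.coe_mem_Z]
  obtain ⟨-, h2, h3⟩ := hn.inv.act v
  have he : e ≠ 0 := hn.1
  have hse : s e ≠ 0 := fun h => he (s.injective (by rw [h, map_zero]))
  rw [h2, h3, mul_eq_zero, mul_eq_zero, mul_eq_zero, mul_eq_zero]
  constructor
  · rintro ⟨(h | h) | h, (h' | h') | h'⟩
    · exact absurd h he
    · exact absurd h he
    · exact absurd h he
    · exact absurd h (inv_ne_zero hse)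
    · exact absurd h (inv_ne_zero hse)
    · exact absurd h (inv_ne_zero hse)
    · exact absurd h' (inv_ne_zero he)
    · exact absurd h' (inv_ne_zero hse)
    · exact ⟨h', s.injective (by rw [h, map_zero])⟩
  · rintro ⟨h, h'⟩
    exact ⟨Or.inr (by rw [h', map_zero]), Or.inr h⟩

theorem mem_cjY {v : V} : (v : G) ∈ cj (n : G) m.Y ↔ m.a v = 0 := by
  rw [m.mem_cj, m.coe_mem_Y]
  obtain ⟨-, -, h3⟩ := hn.inv.act v
  have he : e ≠ 0 := hn.1
  have hse : s e ≠ 0 := fun h => he (s.injective (by rw [h, map_zero]))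
  rw [h3, mul_eq_zero, mul_eq_zero]
  constructor
  · rintro ((h | h) | h)
    · exact absurd h (inv_ne_zero he)
    · exact absurd h (inv_ne_zero hse)
    · exact h
  · exact fun h => Or.inr h

include hs in
theorem Vdec : V ≤ m.Y ⊔ cj (n : G) m.Z := by
  intro v hv
  lift v to V using hv
  obtain ⟨w, h1, h2, h3⟩ := m.exists_v hs 0 (map_zero s) (m.s_c v)
  have e1 : v = (v * w) * w := by rw [mul_assoc, m.mul_self, mul_one]
  rw [e1]
  refine Subgroup.mul_mem_sup (m.coe_mem_Y.2 ?_) ((mem_cjZ hn).2 ⟨h1, h2⟩)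
  rw [m.c_mul, h3, add_self]

theorem Edis : m.Y ⊓ cj (n : G) m.Z = ⊥ := by
  rw [Subgroup.eq_bot_iff_forall]
  intro v hv
  rw [Subgroup.mem_inf] at hv
  obtain ⟨⟨v, rfl, hc⟩, h2⟩ := hv
  rw [mem_cjZ hn] at h2
  rw [m.eq_one h2.1 h2.2 hc]
  rfl

include hs in
theorem Ydec : m.Y ≤ m.Z ⊔ (m.Y ⊓ cj (n : G) m.Y) := by
  rintro _ ⟨v, rfl, hc⟩
  obtain ⟨w, h1, h2, h3⟩ := m.exists_v hs (m.b v) (map_zero s) (map_zero s)
  have e1 : v = (v * w) * w := by rw [mul_assoc, m.mul_self, mul_one]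
  rw [e1]
  refine Subgroup.mul_mem_sup (m.coe_mem_Z.2 ⟨?_, ?_⟩) ⟨m.coe_mem_Y.2 h3, (mem_cjY hn).2 h1⟩
  · rw [m.b_mul, h2, add_self]
  · rw [m.c_mul, hc, h3, add_zero]

include hs hne in
theorem Vgen (R : Subgroup G) (hR : R ≤ V) (hZ : m.Z ≤ R)
    (hL : L ≤ Subgroup.normalizer (R : Set G)) : V ≤ R := by
  -- `(0, 0, c) ∈ R`
  have h1 : cj (n : G) m.Z ≤ R := by
    rw [← mem_norm_iff.1 (hL n.2)]
    exact cj_mono hZ
  have hU : m.Y ≤ R := by
    rintro _ ⟨y, rfl, hc⟩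
    obtain ⟨v, hv1, hv2, hv3⟩ := m.exists_v hs 0 (map_zero s) (map_one s)
    obtain ⟨u, hu, hw⟩ := m.exists_U (m.b y)
    have hv : (v : G) ∈ R := h1 ((mem_cjZ hn).2 ⟨hv1, hv2⟩)
    have h2 : (m.cg u v : G) ∈ R := conj_mem (hL u.2) hv
    have h3 : (v * m.cg u v * y : G) ∈ m.Z := by
      have : ((v * m.cg u v * y : V) : G) ∈ m.Z := by
        rw [m.coe_mem_Z]
        obtain ⟨g1, g2, g3⟩ := hu.act v
        constructor
        · rw [m.b_mul, m.b_mul, g2, hw, hv2, hv3]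
          rw [zero_add, zero_add, mul_one, add_self]
        · rw [m.c_mul, m.c_mul, g3, hc, add_self, zero_add]
      exact this
    have h4 := mul_mem (inv_mem (mul_mem hv h2)) (hZ h3)
    rwa [inv_mul_cancel_left] at h4
  exact (Vdec hs hn).trans (sup_le hU h1)

omit hn in
theorem IsU.of_borel {g x : L} {t : K} (hg : m.P g 1 0 = 0) (hx : m.IsT t x) (ht : m.P g 0 0 = t) :
    m.IsU (x⁻¹ * g) := by
  obtain ⟨h0, h1, h2, h3, h4⟩ := hx
  obtain ⟨g1, g2, g3, g4⟩ := m.P_inv x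
  have hd := m.P_det g
  rw [hg, mul_zero, add_zero, ht] at hd
  refine ⟨?_, ?_, ?_⟩
  · rw [m.P_mul, g1, g2, h4, h2, ht, zero_mul, add_zero, inv_mul_cancel₀ h0]
  · rw [m.P_mul, g3, g4, h3, hg, zero_mul, mul_zero, add_zero]
  · rw [m.P_mul, g3, g4, h3, h1, zero_mul, zero_add, hd]

omit hn in
/-- The Borel subgroup normalises `U`. -/
theorem cjU_of_borel {g : L} (hg : m.P g 1 0 = 0) : cj (g : G) m.U = m.U := by
  have key : ∀ g : L, m.P g 1 0 = 0 → ∀ x ∈ m.U, (g : G) * x * (g : G)⁻¹ ∈ m.U := by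
    rintro g hg _ ⟨x, rfl, hx⟩
    have : ((g * x * g⁻¹ : L) : G) ∈ m.U := by
      rw [m.mem_U]
      obtain ⟨g1, g2, g3, g4⟩ := m.P_inv g
      have hd := m.P_det g
      rw [hg, mul_zero, add_zero] at hd
      refine ⟨?_, ?_, ?_⟩
      · rw [m.P_mul, m.P_mul, m.P_mul, g1, g3, hx.1, hx.2.1, hg]
        linear_combination hd
      · rw [m.P_mul, m.P_mul, m.P_mul, g1, g3, hx.1, hx.2.1, hg]
        ring
      · rw [m.P_mul, m.P_mul, m.P_mul, g2, g4, hx.1, hx.2.1, hx.2.2, hg]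
        linear_combination hd
    exact this
  ext x
  rw [UFour.mem_cj]
  constructor
  · intro h
    have := key g hg _ h
    rwa [show (g : G) * ((g : G)⁻¹ * x * g) * (g : G)⁻¹ = x by group] at this
  · intro h
    have := key g⁻¹ (by rw [(m.P_inv g).2.2.1, hg]) _ h
    rwa [Subgroup.coe_inv, inv_inv] at this

omit hn in
theorem borel_of_cjU {g : L} (hg : cj (g : G) m.U = m.U) : m.P g 1 0 = 0 := by
  obtain ⟨u, hu, hw⟩ := m.exists_U 1
  have h1 : (g * u * g⁻¹ : G) ∈ m.U := by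
    have := conj_mem_cj (g := (g : G)) (m.mem_U.2 hu)
    rwa [hg] at this
  have h2 : ((g * u * g⁻¹ : L) : G) ∈ m.U := h1
  rw [m.mem_U] at h2
  obtain ⟨g1, g2, g3, g4⟩ := m.P_inv g
  have h3 := h2.2.1
  rw [m.P_mul, m.P_mul, m.P_mul, g1, g3, hu.1, hu.2.1, hu.2.2, hw] at h3
  have h4 : m.P g 1 0 * m.P g 1 0 = 0 := by
    have e1 : (m.P g 1 0 * 1 + m.P g 1 1 * 0) * m.P g 1 1 + (m.P g 1 0 * 1 + m.P g 1 1 * 1) * m.P g 1 0 =
        m.P g 1 0 * m.P g 1 0 + (m.P g 1 0 * m.P g 1 1 + m.P g 1 0 * m.P g 1 1) := by ring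
    rw [e1, add_self, add_zero] at h3
    exact h3
  exact mul_self_eq_zero.mp h4

/-- The Bruhat decomposition. -/
theorem trans : ∀ g ∈ L, cj g m.U = m.U ∨ ∃ u ∈ m.U, cj g m.U = cj (u * n) m.U := by
  intro g hg
  lift g to L using hg
  by_cases hr : m.P g 1 0 = 0
  · exact Or.inl (cjU_of_borel hr)
  · right
    obtain ⟨u, hu, hw⟩ := m.exists_U (m.P g 0 0 * (m.P g 1 0)⁻¹)
    refine ⟨u, m.mem_U.2 hu, ?_⟩
    have hb : m.P ((u * n)⁻¹ * g) 1 0 = 0 := by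
      obtain ⟨h0, h1, h2, h3, h4⟩ := hn
      obtain ⟨g1, g2, g3, g4⟩ := m.P_inv (u * n)
      rw [m.P_mul, g3, g4, m.P_mul, m.P_mul, h1, h3, hu.1, hu.2.1, hu.2.2, hw]
      field_simp
      linear_combination add_self (m.P g 0 0)
    have e1 : (g : G) = ((u * n : L) : G) * (((u * n)⁻¹ * g : L) : G) := by
      rw [← Subgroup.coe_mul, mul_inv_cancel_left]
    rw [e1, cj_mul, cjU_of_borel hb]
    rfl

theorem inter : m.U ⊓ cj (n : G) m.U ≤ V := by
  intro x hx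
  rw [Subgroup.mem_inf] at hx
  obtain ⟨⟨x, rfl, hx⟩, hx2⟩ := hx
  rw [UFour.mem_cj] at hx2
  have h2 : ((n⁻¹ * x * n : L) : G) ∈ m.U := hx2
  rw [m.mem_U] at h2
  rw [m.mem_V_iff]
  refine ⟨hx.1, ?_, hx.2.1, hx.2.2⟩
  obtain ⟨h0, h1, h2', h3, h4⟩ := hn
  obtain ⟨g1, g2, g3, g4⟩ := m.P_inv n
  have h5 := h2.2.1
  rw [m.P_mul, m.P_mul, m.P_mul, g3, g4, h1, h3, hx.1, hx.2.1, hx.2.2] at h5
  have h6 : e⁻¹ * m.P x 0 1 * e⁻¹ = 0 := by
    rw [← h5]; ring
  rcases mul_eq_zero.mp h6 with h | h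
  · exact (mul_eq_zero.mp h).resolve_left (inv_ne_zero h0)
  · exact absurd h (inv_ne_zero h0)

omit hn in
include hn in
theorem kernel : ∀ x ∈ L, (∀ g ∈ L, cj x (cj g m.U) = cj g m.U) → x ∈ V := by
  intro x hx h
  lift x to L using hx
  have key : ∀ g : L, m.P (g⁻¹ * x * g) 1 0 = 0 := by
    intro g
    apply borel_of_cjU
    have h1 := h g g.2
    show cj ((g : G)⁻¹ * x * g) m.U = m.U
    rw [mul_assoc, cj_mul, cj_mul (x : G) (g : G), h1, ← cj_mul, inv_mul_cancel, cj_one]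
  have h1 : m.P x 1 0 = 0 := by
    have := key 1
    rwa [inv_one, one_mul, mul_one] at this
  obtain ⟨h0, n1, n2, n3, n4⟩ := hn
  have h2 : m.P x 0 1 = 0 := by
    have h5 := key n
    obtain ⟨g1, g2, g3, g4⟩ := m.P_inv n
    rw [m.P_mul, m.P_mul, m.P_mul, g3, g4, n1, n3] at h5
    have h6 : e⁻¹ * m.P x 0 1 * e⁻¹ = 0 := by
      rw [← h5]; ring
    rcases mul_eq_zero.mp h6 with h | h
    · exact (mul_eq_zero.mp h).resolve_left (inv_ne_zero h0)
    · exact absurd h (inv_ne_zero h0)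
  obtain ⟨g, p1, p2, p3, p4⟩ := m.exists_P (p := 1) (q := 0) (r := 1) (t := 1) (by ring)
  have h3 : m.P x 0 0 = m.P x 1 1 := by
    have h5 := key g
    obtain ⟨g1, g2, g3, g4⟩ := m.P_inv g
    rw [m.P_mul, m.P_mul, m.P_mul, g3, g4, p1, p3, h1, h2] at h5
    apply eq_of_add_eq_zero
    rw [← h5]
    ring
  have hd := m.P_det x
  rw [h1, h2, mul_zero, add_zero, h3] at hd
  have h4 : m.P x 1 1 = 1 := mul_self_inj (by rw [hd, mul_one])
  rw [m.mem_V_iff]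
  exact ⟨by rw [h3, h4], h2, h1, h4⟩

/-- Generation by the two opposite unipotent groups. -/
theorem gen : L ≤ m.U ⊔ cj (n : G) m.U := by
  set X := m.U ⊔ cj (n : G) m.U with hX
  -- the lower triangular elements
  have low : ∀ r : K, ∃ x : L, (x : G) ∈ X ∧ m.P x 0 0 = 1 ∧ m.P x 0 1 = 0 ∧ m.P x 1 0 = r ∧
      m.P x 1 1 = 1 := by
    intro r
    obtain ⟨u, hu, hw⟩ := m.exists_U (r * e * e)
    refine ⟨n * u * n⁻¹, Subgroup.mem_sup_right (conj_mem_cj (m.mem_U.2 hu)), ?_⟩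
    obtain ⟨h0, n1, n2, n3, n4⟩ := hn
    obtain ⟨g1, g2, g3, g4⟩ := m.P_inv n
    refine ⟨?_, ?_, ?_, ?_⟩
    · rw [m.P_mul, m.P_mul, m.P_mul, g1, g3, n1, n2, n3, n4, hu.1, hu.2.1, hu.2.2, hw]
      field_simp
      ring
    · rw [m.P_mul, m.P_mul, m.P_mul, g2, g4, n1, n2, hu.1, hu.2.1, hu.2.2, hw]
      ring
    · rw [m.P_mul, m.P_mul, m.P_mul, g1, g3, n3, n4, hu.1, hu.2.1, hu.2.2, hw]
      field_simp
      ring
    · rw [m.P_mul, m.P_mul, m.P_mul, g2, g4, n1, n2, n3, n4, hu.1, hu.2.1, hu.2.2, hw]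
      field_simp
      ring
  -- elements with nonzero lower left entry
  have key : ∀ g : L, m.P g 1 0 ≠ 0 → (g : G) ∈ X := by
    intro g hr
    obtain ⟨u, hu, hw⟩ := m.exists_U ((m.P g 0 0 + 1) * (m.P g 1 0)⁻¹)
    obtain ⟨u', hu', hw'⟩ := m.exists_U ((m.P g 1 1 + 1) * (m.P g 1 0)⁻¹)
    obtain ⟨l, hl, l1, l2, l3, l4⟩ := low (m.P g 1 0)
    have hv : ((l⁻¹ * (u⁻¹ * (g * u'⁻¹)) : L) : G) ∈ V := by
      rw [m.mem_V_iff]
      obtain ⟨a1, a2, a3, a4⟩ := m.P_inv l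
      obtain ⟨b1, b2, b3, b4⟩ := m.P_inv u
      obtain ⟨c1, c2, c3, c4⟩ := m.P_inv u'
      have hd := m.P_det g
      set p := m.P g 0 0
      set q := m.P g 0 1
      set r := m.P g 1 0
      set t := m.P g 1 1
      set α := (p + 1) * r⁻¹ with hα
      set β := (t + 1) * r⁻¹ with hβ
      have hα' : α * r = p + 1 := by rw [hα, mul_assoc, inv_mul_cancel₀ hr, mul_one]
      have hβ' : β * r = t + 1 := by rw [hβ, mul_assoc, inv_mul_cancel₀ hr, mul_one]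
      -- `g u'⁻¹`
      have d1 : m.P (g * u'⁻¹) 0 0 = p := by
        rw [m.P_mul, c1, c3, hu'.2.1, hu'.2.2, mul_one, mul_zero, add_zero]
      have d2 : m.P (g * u'⁻¹) 0 1 = p * β + q := by
        rw [m.P_mul, c2, c4, hu'.1, hw', mul_one]
      have d3 : m.P (g * u'⁻¹) 1 0 = r := by
        rw [m.P_mul, c1, c3, hu'.2.1, hu'.2.2, mul_one, mul_zero, add_zero]
      have d4 : m.P (g * u'⁻¹) 1 1 = 1 := by
        rw [m.P_mul, c2, c4, hu'.1, hw', mul_one, mul_comm, hβ']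
        show t + 1 + t = 1
        rw [add_right_comm, add_self, zero_add]
      -- `u⁻¹ g u'⁻¹`
      have f1 : m.P (u⁻¹ * (g * u'⁻¹)) 0 0 = 1 := by
        rw [m.P_mul, b1, b2, d1, d3, hu.2.2, hw, one_mul, hα', ← add_assoc, add_self, zero_add]
      have f2 : m.P (u⁻¹ * (g * u'⁻¹)) 0 1 = p * β + q + α := by
        rw [m.P_mul, b1, b2, d2, d4, hu.2.2, hw, one_mul, mul_one]
      have f3 : m.P (u⁻¹ * (g * u'⁻¹)) 1 0 = r := by
        rw [m.P_mul, b3, b4, d1, d3, hu.1, hu.2.1, one_mul, zero_mul, zero_add]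
      have f4 : m.P (u⁻¹ * (g * u'⁻¹)) 1 1 = 1 := by
        rw [m.P_mul, b3, b4, d2, d4, hu.1, hu.2.1, one_mul, zero_mul, zero_add]
      have hx : p * β + q + α = 0 := by
        have h1 : (p * β + q + α) * r = 0 := by
          have h2 : (p * β + q + α) * r = p * (β * r) + q * r + α * r := by ring
          rw [h2, hα', hβ']
          have h3 : p * (t + 1) + q * r + (p + 1) = (p * t + q * r) + 1 + (p + p) := by ring
          rw [h3, hd, add_self, add_self, add_zero]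
        exact (mul_eq_zero.mp h1).resolve_right hr
      rw [hx] at f2
      refine ⟨?_, ?_, ?_, ?_⟩
      · rw [m.P_mul, a1, a2, f1, f3, l4, l2, zero_mul, add_zero, one_mul]
      · rw [m.P_mul, a1, a2, f2, f4, l4, l2, mul_zero, zero_mul, add_zero]
      · rw [m.P_mul, a3, a4, f1, f3, l3, l1, mul_one, one_mul, add_self]
      · rw [m.P_mul, a3, a4, f2, f4, l3, l1, mul_zero, zero_add, mul_one]
    have e1 : (g : G) = u * (l * ((l⁻¹ * (u⁻¹ * (g * u'⁻¹)) : L) : G)) * u' := by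
      have : g = u * (l * (l⁻¹ * (u⁻¹ * (g * u'⁻¹)))) * u' := by group
      exact congrArg Subtype.val this
    rw [e1]
    exact mul_mem (mul_mem (Subgroup.mem_sup_left (m.mem_U.2 hu))
      (mul_mem hl (Subgroup.mem_sup_left (m.VU hv)))) (Subgroup.mem_sup_left (m.mem_U.2 hu'))
  intro g hg
  lift g to L using hg
  by_cases hr : m.P g 1 0 = 0
  · obtain ⟨l, hl, l1, l2, l3, l4⟩ := low 1
    have h1 : ((l * g : L) : G) ∈ X := by
      apply key
      rw [m.P_mul, l3, l4, hr, mul_zero, add_zero, one_mul]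
      intro h
      have hd := m.P_det g
      rw [h, hr, zero_mul, mul_zero, add_zero] at hd
      exact zero_ne_one hd
    have h2 : (g : G) = (l : G)⁻¹ * ((l * g : L) : G) := by
      rw [Subgroup.coe_mul, inv_mul_cancel_left]
    rw [h2]
    exact mul_mem (inv_mem hl) h1
  · exact key g hr

omit hn in
theorem abU : ∀ a ∈ m.U, ∀ b ∈ m.U, a * b * a⁻¹ * b⁻¹ ∈ V := by
  rintro _ ⟨x, rfl, hx⟩ _ ⟨y, rfl, hy⟩
  have : ((x * y * x⁻¹ * y⁻¹ : L) : G) ∈ V := by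
    rw [m.mem_V_iff]
    obtain ⟨a1, a2, a3, a4⟩ := m.P_inv x
    obtain ⟨b1, b2, b3, b4⟩ := m.P_inv y
    have h2 : (2 : K) = 0 := CharTwo.two_eq_zero
    refine ⟨?_, ?_, ?_, ?_⟩ <;>
    · simp only [m.P_mul, a1, a2, a3, a4, b1, b2, b3, b4, hx.1, hx.2.1, hx.2.2, hy.1, hy.2.1,
        hy.2.2]
      try ring_nf
      try linear_combination (m.P x 0 1 + m.P y 0 1) * h2
  exact this

theorem rankOne : RankOne L m.U V (n : G) where
  UL := m.UL
  QU := m.VU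
  norm := m.norm
  nL := n.2
  trans := trans hn
  inter := inter hn
  ker := kernel hn
  gen := gen hn
  ab := abU

end Refl

section Torus

variable {m} {H A0 : Subgroup G}

include hs in
theorem Zbig [Finite K] (hne : s ≠ RingEquiv.refl K) (hK : 4 < Nat.card K) :
    ∃ a ∈ m.Z, ∃ b ∈ m.Z, a ≠ 1 ∧ b ≠ 1 ∧ a ≠ b := by
  obtain ⟨f, hf, hf0, hf1⟩ := exists_fix hs hne hK
  obtain ⟨v, v1, v2, v3⟩ := m.exists_v hs 0 (map_one s) (map_zero s)
  obtain ⟨w, w1, w2, w3⟩ := m.exists_v hs 0 hf (map_zero s)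
  refine ⟨v, m.coe_mem_Z.2 ⟨v2, v3⟩, w, m.coe_mem_Z.2 ⟨w2, w3⟩, ?_, ?_, ?_⟩
  · intro h
    have : v = 1 := Subtype.ext h
    rw [this, m.a_one] at v1
    exact zero_ne_one v1
  · intro h
    have : w = 1 := Subtype.ext h
    rw [this, m.a_one] at w1
    exact hf0 w1.symm
  · intro h
    have : v = w := Subtype.ext h
    rw [this, w1] at v1
    exact hf1 v1

theorem borel (hH : ∀ t : K, t ≠ 0 → ∃ x : L, (x : G) ∈ H ∧ m.IsT t x) :
    ∀ g ∈ L, cj g m.U = m.U → g ∈ m.U ⊔ H := by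
  intro g hg h
  lift g to L using hg
  have h1 := borel_of_cjU h
  have h0 : m.P g 0 0 ≠ 0 := by
    intro h2
    have hd := m.P_det g
    rw [h1, h2, zero_mul, mul_zero, add_zero] at hd
    exact zero_ne_one hd
  obtain ⟨x, hxH, hx⟩ := hH _ h0
  have h2 := IsU.of_borel h1 hx rfl
  have e1 : (g : G) = x * ((x⁻¹ * g : L) : G) := by
    rw [← Subgroup.coe_mul, mul_inv_cancel_left]
  rw [e1]
  exact mul_mem (Subgroup.mem_sup_right hxH) (Subgroup.mem_sup_left (m.mem_U.2 h2))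

theorem s_inv_of_norm {t : K} (h : t * s t = 1) : (s t)⁻¹ = t :=
  (eq_inv_of_mul_eq_one_left h).symm

theorem AZ (hA : ∀ x ∈ A0, ∃ y : L, (y : G) = x ∧ ∃ t, t * s t = 1 ∧ m.IsT t y) :
    ∀ a ∈ A0, ∀ z ∈ m.Z, a * z = z * a := by
  rintro x hx _ ⟨z, rfl, hb, hc⟩
  obtain ⟨y, rfl, t, ht, hy⟩ := hA x hx
  refine ((m.comm_iff y z).2 ?_).symm
  obtain ⟨h1, h2, h3⟩ := hy.act z
  exact m.ext' (by rw [h1, ht, one_mul]) (by rw [h2, hb, mul_zero]) (by rw [h3, hc, mul_zero])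

theorem AE (hA : ∀ x ∈ A0, ∃ y : L, (y : G) = x ∧ ∃ t, t * s t = 1 ∧ m.IsT t y) :
    ∀ a ∈ A0, ∀ v ∈ V, a * v * a⁻¹ * v⁻¹ ∈ m.Y := by
  intro x hx v hv
  lift v to V using hv
  obtain ⟨y, rfl, t, ht, hy⟩ := hA x hx
  rw [m.comm_eq', m.coe_mem_Y, m.c_mul, (hy.act v).2.2, ← mul_inv, ht, inv_one, one_mul, add_self]

include hs hne in
theorem irrY [Finite K] (hA : ∀ t, t * s t = 1 → ∃ y : L, (y : G) ∈ A0 ∧ m.IsT t y) :
    ∀ R : Subgroup G, m.Z ≤ R → R ≤ m.Y → A0 ≤ Subgroup.normalizer (R : Set G) →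
      R = m.Z ∨ R = m.Y := by
  intro R hZR hRY hAR
  let B : AddSubgroup K :=
    { carrier := {k | ∃ v : V, (v : G) ∈ R ∧ m.b v = k}
      add_mem' := by
        rintro _ _ ⟨v, hv, rfl⟩ ⟨w, hw, rfl⟩
        exact ⟨v * w, mul_mem hv hw, m.b_mul v w⟩
      zero_mem' := ⟨1, one_mem R, m.b_one⟩
      neg_mem' := by
        rintro _ ⟨v, hv, rfl⟩
        exact ⟨v, hv, (neg_eq _).symm⟩ }
  have hB : ∀ k, k ∈ B ↔ ∃ v : V, (v : G) ∈ R ∧ m.b v = k := fun k => Iff.rfl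
  rcases irr_norm_one hs hne B (by
    intro t ht k hk
    obtain ⟨v, hv, rfl⟩ := (hB k).1 hk
    obtain ⟨r, hr, hr1⟩ := exists_sqrt_norm_one ht
    obtain ⟨y, hyA, hy⟩ := hA r hr1
    refine (hB _).2 ⟨m.cg y v, conj_mem (hAR hyA) hv, ?_⟩
    rw [(hy.act v).2.1, s_inv_of_norm hr1, hr]) with h | h
  · left
    refine le_antisymm ?_ hZR
    intro x hx
    obtain ⟨v, rfl, hc⟩ := hRY hx
    refine m.coe_mem_Z.2 ⟨?_, hc⟩
    have h1 : m.b v ∈ B := (hB _).2 ⟨v, hx, rfl⟩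
    rw [h] at h1
    exact AddSubgroup.mem_bot.1 h1
  · right
    refine le_antisymm hRY ?_
    rintro _ ⟨y, rfl, hc⟩
    have h1 : m.b y ∈ B := by rw [h]; trivial
    obtain ⟨v, hv, hvy⟩ := (hB _).1 h1
    obtain ⟨v', hv', hc'⟩ := hRY hv
    have hvv : v' = v := Subtype.ext hv'
    rw [hvv] at hc'
    have h2 : ((v * y : V) : G) ∈ m.Z := m.coe_mem_Z.2
      ⟨by rw [m.b_mul, hvy, add_self], by rw [m.c_mul, hc', hc, add_zero]⟩
    have h3 := mul_mem (inv_mem hv) (hZR h2)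
    rwa [Subgroup.coe_mul, inv_mul_cancel_left] at h3

include hs hne in
theorem irrU [Finite K] (hA : ∀ t, t * s t = 1 → ∃ y : L, (y : G) ∈ A0 ∧ m.IsT t y) :
    ∀ R : Subgroup G, V ≤ R → R ≤ m.U → A0 ≤ Subgroup.normalizer (R : Set G) →
      R = V ∨ R = m.U := by
  intro R hVR hRU hAR
  have hRL : ∀ x : L, (x : G) ∈ R → m.IsU x := fun x hx => m.mem_U.1 (hRU hx)
  let B : AddSubgroup K :=
    { carrier := {k | ∃ x : L, (x : G) ∈ R ∧ m.P x 0 1 = k}
      add_mem' := by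
        rintro _ _ ⟨x, hx, rfl⟩ ⟨y, hy, rfl⟩
        refine ⟨x * y, mul_mem hx hy, ?_⟩
        rw [m.P_mul, (hRL x hx).1, (hRL y hy).2.2, one_mul, mul_one, add_comm]
      zero_mem' := ⟨1, one_mem R, by rw [m.P_one]; simp⟩
      neg_mem' := by
        rintro _ ⟨v, hv, rfl⟩
        exact ⟨v, hv, (neg_eq _).symm⟩ }
  have hB : ∀ k, k ∈ B ↔ ∃ x : L, (x : G) ∈ R ∧ m.P x 0 1 = k := fun k => Iff.rfl
  rcases irr_norm_one hs hne B (by
    intro t ht k hk
    obtain ⟨x, hx, rfl⟩ := (hB k).1 hk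
    obtain ⟨r, hr, hr1⟩ := exists_sqrt_norm_one ht
    obtain ⟨y, hyA, hy⟩ := hA r hr1
    refine (hB _).2 ⟨y * x * y⁻¹, conj_mem (hAR hyA) hx, ?_⟩
    obtain ⟨h0, h1, h2, h3, h4⟩ := hy
    obtain ⟨g1, g2, g3, g4⟩ := m.P_inv y
    rw [m.P_mul, m.P_mul, m.P_mul, g2, g4, h1, h2, ← hr]
    ring) with h | h
  · left
    refine le_antisymm ?_ hVR
    intro x hx
    obtain ⟨x, rfl, hU⟩ := hRU hx
    have h1 : m.P x 0 1 ∈ B := (hB _).2 ⟨x, hx, rfl⟩
    rw [h] at h1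
    exact (m.mem_V_iff x).2 ⟨hU.1, AddSubgroup.mem_bot.1 h1, hU.2.1, hU.2.2⟩
  · right
    refine le_antisymm hRU ?_
    rintro _ ⟨y, rfl, hU⟩
    have h1 : m.P y 0 1 ∈ B := by rw [h]; trivial
    obtain ⟨x, hx, hxy⟩ := (hB _).1 h1
    have hX := hRL x hx
    have h2 : ((x⁻¹ * y : L) : G) ∈ V := by
      obtain ⟨g1, g2, g3, g4⟩ := m.P_inv x
      rw [m.mem_V_iff]
      refine ⟨?_, ?_, ?_, ?_⟩
      · rw [m.P_mul, g1, g2, hX.2.2, hU.1, hU.2.1, mul_zero, add_zero, mul_one]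
      · rw [m.P_mul, g1, g2, hX.2.2, hU.2.2, hxy, one_mul, mul_one, add_self]
      · rw [m.P_mul, g3, g4, hX.1, hX.2.1, hU.1, hU.2.1, mul_zero, zero_mul, add_zero]
      · rw [m.P_mul, g3, g4, hX.1, hX.2.1, hU.2.2, zero_mul, zero_add, mul_one]
    have h3 := mul_mem hx (hVR h2)
    rwa [← Subgroup.coe_mul, mul_inv_cancel_left] at h3

include hs hne in
theorem fixY (hA : ∀ t, t * s t = 1 → ∃ y : L, (y : G) ∈ A0 ∧ m.IsT t y) :
    ∀ y ∈ m.Y, (∀ a ∈ A0, a * y = y * a) → y ∈ m.Z := by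
  rintro _ ⟨v, rfl, hc⟩ h
  obtain ⟨t, ht, ht1⟩ := exists_norm_one hs hne
  obtain ⟨y, hyA, hy⟩ := hA t ht
  have h1 := (m.comm_iff y v).1 (h y hyA).symm
  have h2 := (hy.act v).2.1
  rw [h1, s_inv_of_norm ht] at h2
  refine m.coe_mem_Z.2 ⟨?_, hc⟩
  by_contra hb
  have h3 : t * t = 1 := mul_right_cancel₀ hb (by rw [one_mul, ← h2])
  exact ht1 (mul_self_inj (by rw [h3, mul_one]))

include hs hne in
theorem fixU (hA : ∀ t, t * s t = 1 → ∃ y : L, (y : G) ∈ H ∧ m.IsT t y) :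
    ∀ u ∈ m.U, (∀ h ∈ H, h * u * h⁻¹ * u⁻¹ ∈ V) → u ∈ V := by
  rintro _ ⟨u, rfl, hu⟩ h
  obtain ⟨t, ht, ht1⟩ := exists_norm_one hs hne
  obtain ⟨y, hyA, hy⟩ := hA t ht
  have h1 : ((y * u * y⁻¹ * u⁻¹ : L) : G) ∈ V := h y hyA
  rw [m.mem_V_iff] at h1
  have h2 := h1.2.1
  obtain ⟨h0, p1, p2, p3, p4⟩ := hy
  obtain ⟨g1, g2, g3, g4⟩ := m.P_inv y
  obtain ⟨f1, f2, f3, f4⟩ := m.P_inv u
  rw [m.mem_V_iff]
  refine ⟨hu.1, ?_, hu.2.1, hu.2.2⟩
  simp only [m.P_mul, g1, g2, g3, g4, f1, f2, f3, f4, p1, p2, p3, p4, hu.1, hu.2.1, hu.2.2] at h2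
  by_contra hw
  have h3 : t * t * m.P u 0 1 = 1 * m.P u 0 1 := by
    apply eq_of_add_eq_zero
    rw [← h2]
    field_simp
    ring
  have h4 := mul_right_cancel₀ hw h3
  exact ht1 (mul_self_inj (by rw [h4, mul_one]))

include hs hne in
theorem fixE [Finite K] (hK : 4 < Nat.card K)
    (hH : ∀ t : K, t ≠ 0 → ∃ x : L, (x : G) ∈ H ∧ m.IsT t x) :
    ∀ v ∈ V, (∀ h ∈ H, h * v * h⁻¹ * v⁻¹ ∈ m.Y) → v ∈ m.Y := by
  intro v hv h
  lift v to V using hv
  obtain ⟨f, hf, hf0, hf1⟩ := exists_fix hs hne hK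
  obtain ⟨t, ht⟩ := exists_norm (s := s) hf
  have ht0 : t ≠ 0 := fun h => hf0 (by rw [← ht, h, zero_mul])
  obtain ⟨x, hxH, hx⟩ := hH t ht0
  have h1 := h x hxH
  rw [m.comm_eq', m.coe_mem_Y, m.c_mul, (hx.act v).2.2, ← mul_inv, ht] at h1
  rw [m.coe_mem_Y]
  by_contra hc
  have h2 : f⁻¹ = 1 := mul_right_cancel₀ hc (by rw [one_mul]; exact eq_of_add_eq_zero h1)
  exact hf1 (inv_eq_one.mp h2)

include hs in
theorem transZ [Finite K] (hH : ∀ t : K, t ≠ 0 → ∃ x : L, (x : G) ∈ H ∧ m.IsT t x) :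
    ∀ z ∈ m.Z, ∀ z' ∈ m.Z, z ≠ 1 → z' ≠ 1 → ∃ h ∈ H, h * z * h⁻¹ = z' := by
  rintro _ ⟨z, rfl, hb, hc⟩ _ ⟨z', rfl, hb', hc'⟩ h1 h1'
  have ha : m.a z ≠ 0 := fun h => h1 (by rw [m.eq_one h hb hc]; rfl)
  have ha' : m.a z' ≠ 0 := fun h => h1' (by rw [m.eq_one h hb' hc']; rfl)
  obtain ⟨t, ht⟩ := exists_norm (s := s) (a := m.a z' * (m.a z)⁻¹)
    (by rw [map_mul, map_inv₀, m.s_a, m.s_a])
  have ht0 : t ≠ 0 := by
    intro h
    rw [h, zero_mul] at ht
    exact mul_ne_zero ha' (inv_ne_zero ha) ht.symm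
  obtain ⟨x, hxH, hx⟩ := hH t ht0
  refine ⟨x, hxH, ?_⟩
  obtain ⟨g1, g2, g3⟩ := hx.act z
  have : m.cg x z = z' := m.ext' (by rw [g1, ht, mul_assoc, inv_mul_cancel₀ ha, mul_one])
    (by rw [g2, hb, hb', mul_zero]) (by rw [g3, hc, hc', mul_zero])
  exact congrArg Subtype.val this

theorem irrE [Finite K] (hH : ∀ t : K, t ≠ 0 → ∃ x : L, (x : G) ∈ H ∧ m.IsT t x) :
    ∀ R : Subgroup G, m.Y ≤ R → R ≤ V → H ≤ Subgroup.normalizer (R : Set G) →
      R = m.Y ∨ R = V := by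
  intro R hYR hRV hHR
  let B : AddSubgroup K :=
    { carrier := {k | ∃ v : V, (v : G) ∈ R ∧ m.c v = k}
      add_mem' := by
        rintro _ _ ⟨v, hv, rfl⟩ ⟨w, hw, rfl⟩
        exact ⟨v * w, mul_mem hv hw, m.c_mul v w⟩
      zero_mem' := ⟨1, one_mem R, m.c_one⟩
      neg_mem' := by
        rintro _ ⟨v, hv, rfl⟩
        exact ⟨v, hv, (neg_eq _).symm⟩ }
  have hB : ∀ k, k ∈ B ↔ ∃ v : V, (v : G) ∈ R ∧ m.c v = k := fun k => Iff.rfl
  rcases irr_fix (s := s) B (by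
      rintro _ ⟨v, -, rfl⟩
      exact m.s_c v) (by
    rintro f hf k ⟨v, hv, rfl⟩
    by_cases hf0 : f = 0
    · rw [hf0, zero_mul]; exact zero_mem _
    · obtain ⟨t, ht⟩ := exists_norm (s := s) (a := f⁻¹) (by rw [map_inv₀, hf])
      have ht0 : t ≠ 0 := by
        intro h
        rw [h, zero_mul] at ht
        exact inv_ne_zero hf0 ht.symm
      obtain ⟨x, hxH, hx⟩ := hH t ht0
      refine (hB _).2 ⟨m.cg x v, conj_mem (hHR hxH) hv, ?_⟩
      rw [(hx.act v).2.2, ← mul_inv, ht, inv_inv]) with h | h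
  · left
    refine le_antisymm ?_ hYR
    intro x hx
    have hxV := hRV hx
    lift x to V using hxV
    exact m.coe_mem_Y.2 (h _ ((hB _).2 ⟨x, hx, rfl⟩))
  · right
    refine le_antisymm hRV ?_
    intro x hx
    lift x to V using hx
    obtain ⟨v, hv, hvx⟩ := (hB _).1 (h _ (m.s_c x))
    have h2 : ((v * x : V) : G) ∈ m.Y := m.coe_mem_Y.2 (by rw [m.c_mul, hvx, add_self])
    have h3 := mul_mem (inv_mem hv) (hYR h2)
    rwa [Subgroup.coe_mul, inv_mul_cancel_left] at h3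

end Torus

end Fields

end Model

end Cfsg.Agent.RankTwoClose.UFour

end
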