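import Cfsg.Agent.Mrg.RankTwoClose.UFour.Basic
import Mathlib

section


/-!
# The torus and the reflection in the natural `O4^-(q)`-module

For a complement `H1` of `U` in `N_{L1}(U)` the basis can be chosen so that `H1` is diagonal; there is
an involution `n1` inverting `H1`.
-/

set_option autoImplicit false
set_option linter.unusedSectionVars false

namespace Cfsg.Agent.RankTwoClose.UFour

open MField

namespace Model

variable {G : Type*} [Group G] {K : Type*} [Field K] [CharP K 2] {s : K ≃+* K}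
  {V L : Subgroup G} (m : Model K s V L)

/-! ### Change of basis -/

theorem map_mul' (M N : Matrix (Fin 2) (Fin 2) K) : (M * N).map s = M.map s * N.map s := by
  ext i j
  simp [Matrix.mul_apply, Matrix.map_apply]

theorem map_map' (hs : ∀ k, s (s k) = k) (M : Matrix (Fin 2) (Fin 2) K) : (M.map s).map s = M := by
  ext i j
  simp [Matrix.map_apply, hs]

theorem star_star (hs : ∀ k, s (s k) = k) (M : Matrix (Fin 2) (Fin 2) K) :
    (M.transpose.map s).transpose.map s = M := by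
  ext i j
  simp [Matrix.map_apply, hs]

theorem star_mul (M N : Matrix (Fin 2) (Fin 2) K) :
    (M * N).transpose.map s = N.transpose.map s * M.transpose.map s := by
  rw [Matrix.transpose_mul, map_mul']

theorem star_one : (1 : Matrix (Fin 2) (Fin 2) K).transpose.map s = 1 := by
  rw [Matrix.transpose_one]
  exact Matrix.map_one s (map_zero s) (map_one s)

theorem cancel4 {A B M C D : Matrix (Fin 2) (Fin 2) K} (h1 : B * A = 1) (h2 : C * D = 1) :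
    B * (A * M * C) * D = M := by
  calc B * (A * M * C) * D = (B * A) * M * (C * D) := by simp only [mul_assoc]
    _ = M := by rw [h1, h2, one_mul, mul_one]

theorem act4 {A B M C D P Q : Matrix (Fin 2) (Fin 2) K} (h1 : B * A = 1) (h2 : C * D = 1) :
    A * (P * M * Q) * C = A * P * B * (A * M * C) * (D * (Q * C)) := by
  calc A * (P * M * Q) * C = A * P * 1 * M * 1 * (Q * C) := by simp only [mul_assoc, one_mul]
    _ = A * P * (B * A) * M * (C * D) * (Q * C) := by rw [h1, h2]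
    _ = _ := by simp only [mul_assoc]

/-- Conjugation by `g`. -/
def conj (hs : ∀ k, s (s k) = k) (g : Matrix.SpecialLinearGroup (Fin 2) K) : Model K s V L where
  le := m.le
  π := (MulAut.conj g).toMonoidHom.comp m.π
  surj := (MulAut.conj g).surjective.comp m.surj
  ker x := by
    rw [← m.ker]
    show g * m.π x * g⁻¹ = 1 ↔ m.π x = 1
    rw [mul_inv_eq_one, mul_eq_left]
  norm := m.norm
  h v := (g : Matrix (Fin 2) (Fin 2) K) * m.h v * ((g : Matrix (Fin 2) (Fin 2) K).transpose.map s)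
  mul v w := by rw [m.mul, mul_add, add_mul]
  herm v := by
    rw [star_mul, star_mul, star_star hs, m.herm, mul_assoc]
  inj v hv := by
    apply m.inj
    have h1 : ((g⁻¹ : Matrix.SpecialLinearGroup (Fin 2) K) : Matrix (Fin 2) (Fin 2) K) *
        (g : Matrix (Fin 2) (Fin 2) K) = 1 := by
      rw [← Matrix.SpecialLinearGroup.coe_mul, inv_mul_cancel, Matrix.SpecialLinearGroup.coe_one]
    have h2 : ((g : Matrix (Fin 2) (Fin 2) K).transpose.map s) *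
        (((g⁻¹ : Matrix.SpecialLinearGroup (Fin 2) K) : Matrix (Fin 2) (Fin 2) K).transpose.map s)
          = 1 := by
      rw [← star_mul, h1, star_one]
    rw [← cancel4 (M := m.h v) h1 h2, hv, mul_zero, zero_mul]
  onto M hM := by
    have h1 : (g : Matrix (Fin 2) (Fin 2) K) *
        ((g⁻¹ : Matrix.SpecialLinearGroup (Fin 2) K) : Matrix (Fin 2) (Fin 2) K) = 1 := by
      rw [← Matrix.SpecialLinearGroup.coe_mul, mul_inv_cancel, Matrix.SpecialLinearGroup.coe_one]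
    have h2 : (((g⁻¹ : Matrix.SpecialLinearGroup (Fin 2) K) :
          Matrix (Fin 2) (Fin 2) K).transpose.map s) *
        ((g : Matrix (Fin 2) (Fin 2) K).transpose.map s) = 1 := by
      rw [← star_mul, h1, star_one]
    obtain ⟨v, hv⟩ := m.onto
      (((g⁻¹ : Matrix.SpecialLinearGroup (Fin 2) K) : Matrix (Fin 2) (Fin 2) K) * M *
        (((g⁻¹ : Matrix.SpecialLinearGroup (Fin 2) K) :
          Matrix (Fin 2) (Fin 2) K).transpose.map s)) (by
      rw [star_mul, star_mul, star_star hs, hM, mul_assoc])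
    refine ⟨v, ?_⟩
    rw [hv]
    exact cancel4 h1 h2
  act x v := by
    rw [m.act]
    have h1 : ((g⁻¹ : Matrix.SpecialLinearGroup (Fin 2) K) : Matrix (Fin 2) (Fin 2) K) *
        (g : Matrix (Fin 2) (Fin 2) K) = 1 := by
      rw [← Matrix.SpecialLinearGroup.coe_mul, inv_mul_cancel, Matrix.SpecialLinearGroup.coe_one]
    have h2 : ((g : Matrix (Fin 2) (Fin 2) K).transpose.map s) *
        (((g⁻¹ : Matrix.SpecialLinearGroup (Fin 2) K) : Matrix (Fin 2) (Fin 2) K).transpose.map s)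
          = 1 := by
      rw [← star_mul, h1, star_one]
    have e : (((MulAut.conj g).toMonoidHom.comp m.π) x : Matrix.SpecialLinearGroup (Fin 2) K) =
        g * m.π x * g⁻¹ := rfl
    rw [e, Matrix.SpecialLinearGroup.coe_mul, Matrix.SpecialLinearGroup.coe_mul, star_mul, star_mul]
    exact act4 h1 h2

theorem conj_P (hs : ∀ k, s (s k) = k) (g : Matrix.SpecialLinearGroup (Fin 2) K) (x : L)
    (i j : Fin 2) : (m.conj hs g).P x i j =
      (((g * m.π x * g⁻¹ : Matrix.SpecialLinearGroup (Fin 2) K) :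
        Matrix (Fin 2) (Fin 2) K)) i j := rfl

theorem exists_conj (hs : ∀ k, s (s k) = k) (g : L) : ∃ m' : Model K s V L,
    ∀ x i j, m'.P x i j = m.P (g * x * g⁻¹) i j :=
  ⟨m.conj hs (m.π g), fun x i j => by
    rw [conj_P]
    unfold P
    rw [map_mul, map_mul, map_inv]⟩

/-! ### The torus -/

variable {m}

theorem IsT.mul {t t' : K} {x y : L} (h : m.IsT t x) (h' : m.IsT t' y) : m.IsT (t * t') (x * y) := by
  obtain ⟨h0, h1, h2, h3, h4⟩ := h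
  obtain ⟨g0, g1, g2, g3, g4⟩ := h'
  refine ⟨mul_ne_zero h0 g0, ?_, ?_, ?_, ?_⟩
  · rw [m.P_mul, h1, h2, g1, zero_mul, add_zero]
  · rw [m.P_mul, h2, g2, zero_mul, mul_zero, add_zero]
  · rw [m.P_mul, h3, g3, zero_mul, mul_zero, add_zero]
  · rw [m.P_mul, h3, h4, g4, zero_mul, zero_add, mul_inv]

variable (m) in
theorem isT_one : m.IsT 1 1 := by
  refine ⟨one_ne_zero, ?_, ?_, ?_, ?_⟩ <;> rw [m.P_one] <;> simp

theorem IsT.zpow {t : K} {x : L} (h : m.IsT t x) (k : ℤ) : m.IsT (t ^ k) (x ^ k) := by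
  induction k using Int.induction_on with
  | zero => rw [zpow_zero, zpow_zero]; exact m.isT_one
  | succ k ih =>
    rw [zpow_add_one, zpow_add_one₀ h.1]
    exact ih.mul h
  | pred k ih =>
    rw [zpow_sub_one, zpow_sub_one₀ h.1]
    exact ih.mul h.inv

theorem IsT.unique {t t' : K} {x : L} (h : m.IsT t x) (h' : m.IsT t' x) : t = t' := by
  rw [← h.2.1, h'.2.1]

/-- `H1` is generated by a diagonal element of maximal order. -/
structure Std (m : Model K s V L) (H1 : Subgroup G) (ζ : Kˣ) (h : L) : Prop where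
  mem : (h : G) ∈ H1
  T : m.IsT (ζ : K) h
  gen : ∀ x ∈ H1, ∃ k : ℤ, x = (h : G) ^ k
  all : ∀ t : Kˣ, ∃ k : ℤ, ζ ^ k = t

namespace Std

variable {H1 : Subgroup G} {ζ : Kˣ} {h : L} (S : Std m H1 ζ h)
  (hs : ∀ k, s (s k) = k) (hne : s ≠ RingEquiv.refl K)

include S

theorem onto : ∀ t : K, t ≠ 0 → ∃ x : L, (x : G) ∈ H1 ∧ m.IsT t x := by
  intro t ht
  obtain ⟨k, hk⟩ := S.all (Units.mk0 t ht)
  refine ⟨h ^ k, ?_, ?_⟩
  · rw [Subgroup.coe_zpow]; exact zpow_mem S.mem k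
  · have := S.T.zpow k
    rwa [← Units.val_zpow_eq_zpow_val, hk] at this

theorem isT : ∀ x ∈ H1, ∃ y : L, (y : G) = x ∧ ∃ t, m.IsT t y := by
  intro x hx
  obtain ⟨k, rfl⟩ := S.gen x hx
  exact ⟨h ^ k, Subgroup.coe_zpow _ _ _, _, S.T.zpow k⟩

include hne in
theorem ζ_moved : s (ζ : K) ≠ ζ := by
  intro hfix
  apply hne
  ext x
  show s x = x
  by_cases hx : x = 0
  · rw [hx, map_zero]
  · obtain ⟨k, hk⟩ := S.all (Units.mk0 x hx)
    have e : x = (ζ : K) ^ k := by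
      have := congrArg Units.val hk
      rw [Units.val_zpow_eq_zpow_val] at this
      exact this.symm
    rw [e, map_zpow₀, hfix]

include hs hne in
theorem ζ_norm [Finite K] (hK : 4 < Nat.card K) : (ζ : K) * s (ζ : K) ≠ 1 := by
  intro h1
  obtain ⟨f, hf, hf0, hf1⟩ := exists_fix hs hne hK
  obtain ⟨t, ht⟩ := exists_norm (s := s) hf
  have ht0 : t ≠ 0 := by
    intro h
    rw [h, zero_mul] at ht
    exact hf0 ht.symm
  obtain ⟨k, hk⟩ := S.all (Units.mk0 t ht0)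
  have e : t = (ζ : K) ^ k := by
    have := congrArg Units.val hk
    rw [Units.val_zpow_eq_zpow_val] at this
    exact this.symm
  rw [e, map_zpow₀, ← mul_zpow, h1, one_zpow] at ht
  exact hf1 ht.symm

include hne in
theorem ζ_one : (ζ : K) ≠ 1 := fun h1 => S.ζ_moved hne (by rw [h1, map_one])

/-- `h` has no fixed points on `V`. -/
theorem fix_eq_one [Finite K] (hs : ∀ k, s (s k) = k) (hne : s ≠ RingEquiv.refl K)
    (hK : 4 < Nat.card K) {v : V} (hv : m.cg h v = v) : v = 1 := by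
  obtain ⟨h1, h2, h3⟩ := S.T.act v
  rw [hv] at h1 h2 h3
  have hsζ : s (ζ : K) ≠ 0 := fun h => ζ.ne_zero (s.injective (by rw [h, map_zero]))
  refine m.eq_one ?_ ?_ ?_
  · by_contra ha
    exact S.ζ_norm hs hne hK (mul_right_cancel₀ ha (by rw [one_mul]; exact h1.symm))
  · by_contra ha
    have := mul_right_cancel₀ ha (show (ζ : K) * (s ζ)⁻¹ * m.b v = 1 * m.b v by
      rw [one_mul]; exact h2.symm)
    exact S.ζ_moved hne ((mul_inv_eq_one₀ hsζ).mp this).symm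
  · by_contra ha
    have := mul_right_cancel₀ ha (show (ζ : K)⁻¹ * (s ζ)⁻¹ * m.c v = 1 * m.c v by
      rw [one_mul]; exact h3.symm)
    rw [← mul_inv, inv_eq_one] at this
    exact S.ζ_norm hs hne hK this

/-- An involution inverting the torus. -/
theorem exists_n [Finite K] [Finite V] (hs : ∀ k, s (s k) = k) (hne : s ≠ RingEquiv.refl K)
    (hK : 4 < Nat.card K) : ∃ n : L, m.IsN 1 n ∧ n * n = 1 ∧ n * h * n⁻¹ = h⁻¹ := by
  obtain ⟨n0, p1, p2, p3, p4⟩ := m.exists_P (p := 0) (q := 1) (r := 1) (t := 0) (by ring)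
  have hn0 : m.IsN 1 n0 := ⟨one_ne_zero, p1, p2, by rw [p3, inv_one], p4⟩
  -- `n0 h n0⁻¹ h ∈ V`
  have hv : ((n0 * h * n0⁻¹ * h : L) : G) ∈ V := by
    obtain ⟨g1, g2, g3, g4⟩ := m.P_inv n0
    obtain ⟨h0, t1, t2, t3, t4⟩ := S.T
    rw [m.mem_V_iff]
    have hζ := ζ.ne_zero
    refine ⟨?_, ?_, ?_, ?_⟩
    · simp only [m.P_mul, g1, g2, g3, g4, p1, p2, p3, p4, t1, t2, t3, t4]
      field_simp
      ring
    · simp only [m.P_mul, g1, g2, g3, g4, p1, p2, p3, p4, t1, t2, t3, t4]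
      ring
    · simp only [m.P_mul, g1, g2, g3, g4, p1, p2, p3, p4, t1, t2, t3, t4]
      ring
    · simp only [m.P_mul, g1, g2, g3, g4, p1, p2, p3, p4, t1, t2, t3, t4]
      field_simp
      ring
  -- `w ↦ w (h⁻¹ w h)` is onto
  let f : V → V := fun w => w * m.cg h⁻¹ w
  have hinj : Function.Injective f := by
    intro w w' hw
    have h1 : m.cg h (w * w') = w * w' := by
      -- `w (h⁻¹ w h) = w' (h⁻¹ w' h)`, so `w w'` is fixed by `h⁻¹`
      have h2 : m.cg h⁻¹ (w * w') = w * w' := by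
        have e1 : m.cg h⁻¹ (w * w') = m.cg h⁻¹ w * m.cg h⁻¹ w' := Subtype.ext (by
          show ((h⁻¹ : L) : G) * (w * w') * ((h⁻¹ : L) : G)⁻¹ =
            ((h⁻¹ : L) : G) * w * ((h⁻¹ : L) : G)⁻¹ * (((h⁻¹ : L) : G) * w' * ((h⁻¹ : L) : G)⁻¹)
          group)
        have e2 : w * m.cg h⁻¹ w = w' * m.cg h⁻¹ w' := hw
        have e3 : m.cg h⁻¹ w = w * (w' * m.cg h⁻¹ w') := by
          rw [← e2, ← mul_assoc, m.mul_self, one_mul]
        rw [e1, e3]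
        calc w * (w' * m.cg h⁻¹ w') * m.cg h⁻¹ w' = w * w' * (m.cg h⁻¹ w' * m.cg h⁻¹ w') := by
              simp only [mul_assoc]
          _ = w * w' := by rw [m.mul_self, mul_one]
      have e4 : m.cg h (m.cg h⁻¹ (w * w')) = w * w' := Subtype.ext (by
        show (h : G) * (((h⁻¹ : L) : G) * (w * w') * ((h⁻¹ : L) : G)⁻¹) * (h : G)⁻¹ = w * w'
        rw [Subgroup.coe_inv]
        group)
      rw [h2] at e4
      exact e4
    have h3 := S.fix_eq_one hs hne hK h1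
    rw [← m.inv_eq w]
    exact inv_eq_of_mul_eq_one_right h3
  obtain ⟨w, hw⟩ := (Finite.surjective_of_injective hinj) ⟨_, hv⟩
  have hwL : (w : G) ∈ L := m.le w.2
  have hPw := (m.mem_V_iff ⟨w, hwL⟩).1 w.2
  set w' : L := ⟨w, hwL⟩ with hw'
  -- the relation `w h⁻¹ w h = n0 h n0⁻¹ h`
  have key : w' * (h⁻¹ * w' * h) = n0 * h * n0⁻¹ * h := by
    apply Subtype.ext
    have e1 : ((f w : V) : G) = _ := congrArg Subtype.val hw
    have e2 : ((f w : V) : G) = (w : G) * (((h⁻¹ : L) : G) * w * ((h⁻¹ : L) : G)⁻¹) := rfl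
    rw [e2] at e1
    rw [Subgroup.coe_inv, inv_inv] at e1
    exact e1
  have hw2 : w'⁻¹ = w' := Subtype.ext (by
    show ((w : G))⁻¹ = w
    exact congrArg Subtype.val (m.inv_eq w))
  have hN : m.IsN 1 (w'⁻¹ * n0) := by
    obtain ⟨g1, g2, g3, g4⟩ := m.P_inv w'
    obtain ⟨q1, q2, q3, q4⟩ := hPw
    refine ⟨one_ne_zero, ?_, ?_, ?_, ?_⟩
    · rw [m.P_mul, g1, g2, p1, p3, q2, q4]; ring
    · rw [m.P_mul, g1, g2, p2, p4, q2, q4]; ring
    · rw [m.P_mul, g3, g4, p1, p3, q1, q3, inv_one]; ring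
    · rw [m.P_mul, g3, g4, p2, p4, q1, q3]; ring
  have hinv : (w'⁻¹ * n0) * h * (w'⁻¹ * n0)⁻¹ = h⁻¹ := by
    have e1 : n0 * h * n0⁻¹ = w' * h⁻¹ * w' := by
      have := congrArg (· * h⁻¹) key
      simp only [mul_inv_cancel_right] at this
      rw [← this]
      group
    calc (w'⁻¹ * n0) * h * (w'⁻¹ * n0)⁻¹ = w'⁻¹ * (n0 * h * n0⁻¹) * w' := by group
      _ = w'⁻¹ * (w' * h⁻¹ * w'⁻¹) * w' := by rw [e1, hw2]
      _ = h⁻¹ := by group
  refine ⟨w'⁻¹ * n0, hN, ?_, hinv⟩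
  set n := w'⁻¹ * n0
  -- `n * n ∈ V` is centralised by `h`
  have hnn : ((n * n : L) : G) ∈ V := by
    obtain ⟨-, g1, g2, g3, g4⟩ := hN
    rw [inv_one] at g3
    rw [m.mem_V_iff]
    refine ⟨?_, ?_, ?_, ?_⟩
    · rw [m.P_mul, g1, g2, g3]; ring
    · rw [m.P_mul, g1, g2, g4]; ring
    · rw [m.P_mul, g1, g3, g4]; ring
    · rw [m.P_mul, g2, g3, g4]; ring
  have hfix : m.cg h ⟨_, hnn⟩ = ⟨_, hnn⟩ := by
    apply Subtype.ext
    show (h : G) * ((n * n : L) : G) * (h : G)⁻¹ = ((n * n : L) : G)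
    have e1 : h * (n * n) * h⁻¹ = n * n := by
      have e2 : n * h⁻¹ * n⁻¹ = h := by
        calc n * h⁻¹ * n⁻¹ = (n * h * n⁻¹)⁻¹ := by group
          _ = h := by rw [hinv, inv_inv]
      calc h * (n * n) * h⁻¹ = (n * h⁻¹ * n⁻¹) * (n * n) * h⁻¹ := by rw [e2]
        _ = n * (h⁻¹ * (n * h * n⁻¹)⁻¹) * n := by group
        _ = n * n := by rw [hinv, inv_inv, inv_mul_cancel, mul_one]
    exact congrArg Subtype.val e1
  have h5 := S.fix_eq_one hs hne hK hfix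
  apply Subtype.ext
  have h6 : (((⟨_, hnn⟩ : V)) : G) = ((1 : V) : G) := congrArg Subtype.val h5
  exact h6

end Std

/-! ### A given complement is diagonal in a suitable basis -/

section Diag

variable {H1 : Subgroup G} (hs : ∀ k, s (s k) = k) (hne : s ≠ RingEquiv.refl K)

theorem IsU.sq_mem {x : L} (h : m.IsU x) : ((x * x : L) : G) ∈ V := by
  obtain ⟨h1, h2, h3⟩ := h
  rw [m.mem_V_iff]
  refine ⟨?_, ?_, ?_, ?_⟩
  · rw [m.P_mul, h1, h2]; ring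
  · rw [m.P_mul, h1, h3, one_mul, mul_one, add_self]
  · rw [m.P_mul, h2]; ring
  · rw [m.P_mul, h2, h3]; ring

theorem IsU.pow_four {x : L} (h : m.IsU x) : x ^ 4 = 1 := by
  have h1 := h.sq_mem
  have h2 := m.sqV _ h1
  apply Subtype.ext
  rw [Subgroup.coe_mul] at h2
  rw [Subgroup.coe_pow]
  rw [show (4 : ℕ) = 2 * 2 by norm_num, pow_mul, pow_two, pow_two]
  exact h2

/-- Odd order elements of `U` are trivial. -/
theorem IsU.eq_one_of_odd {x : L} (h : m.IsU x) (hx : (x : G) ∈ H1) (hodd : Odd (Nat.card H1)) :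
    x = 1 := by
  have h1 : orderOf (x : G) ∣ 4 := orderOf_dvd_of_pow_eq_one (by
    rw [← Subgroup.coe_pow, h.pow_four]; rfl)
  have h2 : orderOf (x : G) ∣ Nat.card H1 := Subgroup.orderOf_dvd_natCard H1 hx
  have h3 : Nat.Coprime 4 (Nat.card H1) := by
    rw [show 4 = 2 ^ 2 by norm_num]
    exact (Nat.coprime_two_left.mpr hodd).pow_left 2
  have h4 : orderOf (x : G) = 1 := Nat.eq_one_of_dvd_coprimes h3 h1 h2
  exact Subtype.ext (orderOf_eq_one_iff.mp h4)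

variable (m) in
include hs in
theorem conj_diag [Finite K] (hL : H1 ≤ L) (hU : H1 ≤ Subgroup.normalizer (m.U : Set G))
    (hodd : Odd (Nat.card H1)) (hcov : ∀ g ∈ L, cj g m.U = m.U → g ∈ m.U ⊔ H1) 
    (h1K : ∃ t : K, t ≠ 0 ∧ t ≠ 1) :
    ∃ (m' : Model K s V L) (ζ : Kˣ) (h : L), (∀ x : L, m'.IsU x ↔ m.IsU x) ∧ Std m' H1 ζ h := by
  -- elements of `H1`
  have hlow : ∀ x : L, (x : G) ∈ H1 → m.P x 1 0 = 0 := fun x hx =>
    borel_of_cjU (mem_norm_iff.1 (hU hx))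
  have h11 : ∀ x : L, (x : G) ∈ H1 → m.P x 0 0 * m.P x 1 1 = 1 := fun x hx => by
    have := m.P_det x
    rwa [hlow x hx, mul_zero, add_zero] at this
  let τ0 : H1 →* K :=
    { toFun := fun x => m.P ⟨x, hL x.2⟩ 0 0
      map_one' := by
        have : (⟨((1 : H1) : G), hL (1 : H1).2⟩ : L) = 1 := rfl
        rw [this, m.P_one]; simp
      map_mul' := fun x y => by
        have : (⟨((x * y : H1) : G), hL (x * y).2⟩ : L) = ⟨x, hL x.2⟩ * ⟨y, hL y.2⟩ := rfl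
        rw [this, m.P_mul, hlow ⟨y, hL y.2⟩ y.2, mul_zero, add_zero] }
  let τ : H1 →* Kˣ := MonoidHom.toHomUnits τ0
  have hτ : ∀ x : H1, (τ x : K) = m.P ⟨x, hL x.2⟩ 0 0 := fun x => rfl
  have hinj : Function.Injective τ := by
    rw [injective_iff_map_eq_one]
    intro x hx
    have h1 : m.P ⟨x, hL x.2⟩ 0 0 = 1 := by rw [← hτ, hx]; rfl
    have h2 := h11 ⟨x, hL x.2⟩ x.2
    rw [h1, one_mul] at h2
    have h3 : m.IsU ⟨x, hL x.2⟩ := ⟨h1, hlow _ x.2, h2⟩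
    have h4 := h3.eq_one_of_odd (H1 := H1) x.2 hodd
    have h5 : ((⟨x, hL x.2⟩ : L) : G) = ((1 : L) : G) := congrArg Subtype.val h4
    exact Subtype.ext h5
  have hsurj : Function.Surjective τ := by
    intro t
    obtain ⟨g, p1, p2, p3, p4⟩ := m.exists_P (p := (t : K)) (q := 0) (r := 0) (t := (t : K)⁻¹)
      (by rw [mul_inv_cancel₀ t.ne_zero]; ring)
    have h1 := hcov g g.2 (cjU_of_borel p3)
    have h2 : (g : G) ∈ ((m.U ⊔ H1 : Subgroup G) : Set G) := h1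
    rw [Subgroup.coe_mul_of_right_le_normalizer_left _ _ hU] at h2
    obtain ⟨_, ⟨u, rfl, hu⟩, x, hx, hux⟩ := h2
    refine ⟨⟨x, hx⟩, Units.ext ?_⟩
    rw [hτ]
    have h3 : (⟨x, hL hx⟩ : L) = u⁻¹ * g := Subtype.ext (by
      show x = (u : G)⁻¹ * g
      rw [← hux]
      simp)
    rw [h3, m.P_mul, p1, p3, (m.P_inv u).1, hu.2.2, one_mul, mul_zero, add_zero]
  obtain ⟨ζ, hζ⟩ := IsCyclic.exists_generator (α := Kˣ)
  obtain ⟨x0, hx0⟩ := hsurj ζ
  set h : L := ⟨x0, hL x0.2⟩ with hdef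
  have hh : m.P h 0 0 = ζ := by rw [← hx0]; rfl
  have hζ1 : (ζ : K) ≠ 1 := by
    intro h1
    obtain ⟨t, ht0, ht1⟩ := h1K
    obtain ⟨k, hk⟩ := Subgroup.mem_zpowers_iff.1 (hζ (Units.mk0 t ht0))
    apply ht1
    have h2 : ζ = 1 := Units.ext h1
    rw [h2, one_zpow] at hk
    have := congrArg Units.val hk
    exact this.symm
  have hζ2 : (ζ : K) + (ζ : K)⁻¹ ≠ 0 := by
    intro h1
    have h2 := eq_of_add_eq_zero h1
    apply hζ1
    apply MField.mul_self_inj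
    rw [mul_one]
    calc (ζ : K) * ζ = ζ * (ζ : K)⁻¹ := by rw [← h2]
      _ = 1 := mul_inv_cancel₀ ζ.ne_zero
  -- the change of basis
  obtain ⟨u, hu, hw⟩ := m.exists_U (m.P h 0 1 * ((ζ : K) + (ζ : K)⁻¹)⁻¹)
  obtain ⟨m', hm'⟩ := m.exists_conj hs u
  refine ⟨m', ζ, h, ?_, ?_⟩
  · intro x
    have e : m'.IsU x ↔ m.IsU (u * x * u⁻¹) := by
      unfold IsU
      rw [hm', hm', hm']
    rw [e, ← m.mem_U, ← m.mem_U]
    have huU := m.mem_U.2 hu
    show (u : G) * x * (u : G)⁻¹ ∈ m.U ↔ _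
    rw [Subgroup.mul_mem_cancel_right _ (inv_mem huU), Subgroup.mul_mem_cancel_left _ huU]
  · refine ⟨x0.2, ⟨ζ.ne_zero, ?_, ?_, ?_, ?_⟩, ?_, ?_⟩
    · rw [hm', m.P_mul, m.P_mul, m.P_mul, (m.P_inv u).1, (m.P_inv u).2.2.1, hu.1, hu.2.1, hu.2.2,
        hh, hlow h x0.2]
      ring
    · have e1 : m.P h 1 1 = (ζ : K)⁻¹ := by
        have := h11 h x0.2
        rw [hh] at this
        exact eq_inv_of_mul_eq_one_right this
      have e2 : m.P h 0 1 * ((ζ : K) + (ζ : K)⁻¹)⁻¹ * ((ζ : K) + (ζ : K)⁻¹) = m.P h 0 1 := by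
        rw [mul_assoc, inv_mul_cancel₀ hζ2, mul_one]
      rw [hm', m.P_mul, m.P_mul, m.P_mul, (m.P_inv u).2.1, (m.P_inv u).2.2.2, hu.1, hw, hh,
        hlow h x0.2, e1]
      calc _ = m.P h 0 1 * ((ζ : K) + (ζ : K)⁻¹)⁻¹ * ((ζ : K) + (ζ : K)⁻¹) + m.P h 0 1 := by ring
        _ = 0 := by rw [e2, add_self]
    · rw [hm', m.P_mul, m.P_mul, m.P_mul, (m.P_inv u).1, (m.P_inv u).2.2.1, hu.2.1, hu.2.2,
        hlow h x0.2]
      ring
    · have e1 : m.P h 1 1 = (ζ : K)⁻¹ := by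
        have := h11 h x0.2
        rw [hh] at this
        exact eq_inv_of_mul_eq_one_right this
      rw [hm', m.P_mul, m.P_mul, m.P_mul, (m.P_inv u).2.1, (m.P_inv u).2.2.2, hu.1, hu.2.1,
        hu.2.2, hlow h x0.2, e1]
      ring
    · intro x hx
      obtain ⟨k, hk⟩ := Subgroup.mem_zpowers_iff.1 (hζ (τ ⟨x, hx⟩))
      refine ⟨k, ?_⟩
      have h1 : τ (x0 ^ k) = τ ⟨x, hx⟩ := by rw [map_zpow, hx0, hk]
      have h2 := hinj h1
      have h3 : ((x0 ^ k : H1) : G) = x := congrArg Subtype.val h2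
      rw [← h3, Subgroup.coe_zpow]
    · intro t
      exact Subgroup.mem_zpowers_iff.1 (hζ t)

end Diag

end Model

/-- The fields of `Data` for the first parabolic, with `H1` for `H`. -/
structure PartOne {G : Type*} [Group G] (V U Z Y L1 H1 A0 : Subgroup G) (n1 : G) : Prop where
  P1 : RankOne L1 U V n1
  commV : ∀ a ∈ V, ∀ b ∈ V, a * b = b * a
  sqV : ∀ a ∈ V, a * a = 1
  memZ : ∀ v, v ∈ Z ↔ v ∈ V ∧ ∀ u ∈ U, v * u = u * v
  Ydef : Y = ⁅V, U⁆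
  YU : ∀ y ∈ Y, ∀ u ∈ U, y * u * y⁻¹ * u⁻¹ ∈ Z
  Zle : Z ≤ ⁅Y, U⁆
  Yup : ∀ v ∈ V, (∀ u ∈ U, v * u * v⁻¹ * u⁻¹ ∈ Z) → v ∈ Y
  cUVZ : ∀ u ∈ U, (∀ v ∈ V, v * u * v⁻¹ * u⁻¹ ∈ Z) → u ∈ V
  cUY : ∀ u ∈ U, (∀ y ∈ Y, y * u = u * y) → u ∈ V
  Vgen : ∀ R : Subgroup G, R ≤ V → Z ≤ R → L1 ≤ Subgroup.normalizer (R : Set G) → V ≤ R
  Vdec : V ≤ Y ⊔ cj n1 Z
  Edis : Y ⊓ cj n1 Z = ⊥
  Ydec : Y ≤ Z ⊔ (Y ⊓ cj n1 Y)
  n1n1 : n1 * n1 = 1
  n1inv : ∀ h ∈ H1, n1 * h * n1⁻¹ = h⁻¹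
  n1H : cj n1 H1 = H1
  borel1 : ∀ g ∈ L1, cj g U = U → g ∈ U ⊔ H1
  Zbig : ∃ a ∈ Z, ∃ b ∈ Z, a ≠ 1 ∧ b ≠ 1 ∧ a ≠ b
  Hcomm : ∀ a ∈ H1, ∀ b ∈ H1, a * b = b * a
  AH : A0 ≤ H1
  AL1 : A0 ≤ L1
  Acomm : ∀ a ∈ A0, ∀ b ∈ A0, a * b = b * a
  n1A : cj n1 A0 = A0
  AZ : ∀ a ∈ A0, ∀ z ∈ Z, a * z = z * a
  AE : ∀ a ∈ A0, ∀ v ∈ V, a * v * a⁻¹ * v⁻¹ ∈ Y
  irrY : ∀ R : Subgroup G, Z ≤ R → R ≤ Y → A0 ≤ Subgroup.normalizer (R : Set G) → R = Z ∨ R = Y
  irrU : ∀ R : Subgroup G, V ≤ R → R ≤ U → A0 ≤ Subgroup.normalizer (R : Set G) → R = V ∨ R = U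
  irrE : ∀ R : Subgroup G, Y ≤ R → R ≤ V → H1 ≤ Subgroup.normalizer (R : Set G) → R = Y ∨ R = V
  fixY : ∀ y ∈ Y, (∀ a ∈ A0, a * y = y * a) → y ∈ Z
  fixU : ∀ u ∈ U, (∀ a ∈ A0, a * u * a⁻¹ * u⁻¹ ∈ V) → u ∈ V
  fixE : ∀ v ∈ V, (∀ h ∈ H1, h * v * h⁻¹ * v⁻¹ ∈ Y) → v ∈ Y
  transZ : ∀ z ∈ Z, ∀ z' ∈ Z, z ≠ 1 → z' ≠ 1 → ∃ h ∈ H1, h * z * h⁻¹ = z'

theorem cj_eq_of_inv {G : Type*} [Group G] {n : G} {X : Subgroup G}
    (h : ∀ x ∈ X, n * x * n⁻¹ = x⁻¹) : cj n X = X := by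
  ext x
  rw [mem_cj]
  constructor
  · intro hx
    have h1 := h _ hx
    have h2 : x = (n⁻¹ * x * n)⁻¹ := by rw [← h1]; group
    rw [h2]
    exact inv_mem hx
  · intro hx
    have h1 := h _ hx
    have h2 : n⁻¹ * x * n = x⁻¹ := by
      calc n⁻¹ * x * n = n⁻¹ * (x⁻¹)⁻¹ * n := by rw [inv_inv]
        _ = n⁻¹ * (n * x * n⁻¹)⁻¹ * n := by rw [h1]
        _ = x⁻¹ := by group
    rw [h2]
    exact inv_mem hx

namespace Model

variable {G : Type*} [Group G] {K : Type*} [Field K] [CharP K 2] {s : K ≃+* K}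
  {V L : Subgroup G} (m : Model K s V L)

/-- **The P1 block** for a given complement `H1` of `U` in `N_L(U)`, `A0 = C_{H1}(Z)`. -/
theorem partOne [Finite K] [Finite V] (hs : ∀ k, s (s k) = k) (hne : s ≠ RingEquiv.refl K)
    (hK : 4 < Nat.card K) {H1 : Subgroup G} (hL : H1 ≤ L)
    (hU : H1 ≤ Subgroup.normalizer (m.U : Set G)) (hodd : Odd (Nat.card H1))
    (hcov : ∀ g ∈ L, cj g m.U = m.U → g ∈ m.U ⊔ H1) :
    ∃ n1 ∈ L, PartOne V m.U m.Z m.Y L H1 (H1 ⊓ Subgroup.centralizer (m.Z : Set G)) n1 := by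
  obtain ⟨f, hf, hf0, hf1⟩ := exists_fix hs hne hK
  obtain ⟨m', ζ, h, hm', S⟩ := m.conj_diag hs hL hU hodd hcov ⟨f, hf0, hf1⟩
  have eU : m'.U = m.U := by
    ext x
    constructor
    · rintro ⟨y, rfl, hy⟩
      exact m.mem_U.2 ((hm' y).1 hy)
    · rintro ⟨y, rfl, hy⟩
      exact m'.mem_U.2 ((hm' y).2 hy)
  have eZ : m'.Z = m.Z := by
    ext x
    rw [m'.memZ hs hne, m.memZ hs hne, eU]
  have eY : m'.Y = m.Y := by rw [m'.Ydef hs hne, m.Ydef hs hne, eU]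
  obtain ⟨n, hn, hnn, hinv⟩ := S.exists_n hs hne hK
  have hinv' : ∀ x ∈ H1, (n : G) * x * (n : G)⁻¹ = x⁻¹ := by
    intro x hx
    obtain ⟨k, rfl⟩ := S.gen x hx
    have h1 : (n : G) * h * (n : G)⁻¹ = (h : G)⁻¹ := by
      have := congrArg Subtype.val hinv
      simpa using this
    have h2 : (n : G) * (h : G) ^ k * (n : G)⁻¹ = ((n : G) * h * (n : G)⁻¹) ^ k := by
      have := map_zpow (MulAut.conj (n : G)) (h : G) k
      simpa using this
    rw [h2, h1, inv_zpow]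
  have hcomm : ∀ a ∈ H1, ∀ b ∈ H1, a * b = b * a := by
    intro a ha b hb
    obtain ⟨k, rfl⟩ := S.gen a ha
    obtain ⟨l, rfl⟩ := S.gen b hb
    exact (Commute.refl (h : G)).zpow_zpow k l
  set A0 := H1 ⊓ Subgroup.centralizer (m.Z : Set G) with hA0
  have hAH : A0 ≤ H1 := inf_le_left
  have hA : ∀ x ∈ A0, ∃ y : L, (y : G) = x ∧ ∃ t, t * s t = 1 ∧ m'.IsT t y := by
    intro x hx
    obtain ⟨y, rfl, t, ht⟩ := S.isT x hx.1
    refine ⟨y, rfl, t, ?_, ht⟩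
    obtain ⟨v, v1, v2, v3⟩ := m'.exists_v hs 0 (map_one s) (map_zero s)
    have hvZ : (v : G) ∈ m.Z := by rw [← eZ]; exact m'.coe_mem_Z.2 ⟨v2, v3⟩
    have h1 : (v : G) * y = y * v := (Subgroup.mem_centralizer_iff.1 hx.2 v hvZ)
    have h2 := (m'.comm_iff y v).1 h1
    have h3 := (ht.act v).1
    rw [h2, v1, mul_one] at h3
    exact h3.symm
  have hA' : ∀ t, t * s t = 1 → ∃ y : L, (y : G) ∈ A0 ∧ m'.IsT t y := by
    intro t ht
    have ht0 : t ≠ 0 := by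
      intro h
      rw [h, zero_mul] at ht
      exact zero_ne_one ht
    obtain ⟨y, hy, hT⟩ := S.onto t ht0
    refine ⟨y, Subgroup.mem_inf.2 ⟨hy, Subgroup.mem_centralizer_iff.2 ?_⟩, hT⟩
    intro z hz
    rw [SetLike.mem_coe, ← eZ] at hz
    obtain ⟨v, rfl, hb, hc⟩ := hz
    refine (m'.comm_iff y v).2 ?_
    obtain ⟨h1, h2, h3⟩ := hT.act v
    exact m'.ext' (by rw [h1, ht, one_mul]) (by rw [h2, hb, mul_zero]) (by rw [h3, hc, mul_zero])
  refine ⟨n, n.2, ?_⟩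
  rw [← eU, ← eZ, ← eY]
  exact
    { P1 := rankOne hn
      commV := m'.commV
      sqV := m'.sqV
      memZ := m'.memZ hs hne
      Ydef := m'.Ydef hs hne
      YU := m'.YU
      Zle := m'.Zle hs hne
      Yup := m'.Yup
      cUVZ := m'.cUVZ hs
      cUY := m'.cUY hs hne
      Vgen := Vgen hs hne hn
      Vdec := Vdec hs hn
      Edis := Edis hn
      Ydec := Ydec hs hn
      n1n1 := by
        have := congrArg Subtype.val hnn
        simpa using this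
      n1inv := hinv'
      n1H := cj_eq_of_inv hinv'
      borel1 := borel S.onto
      Zbig := Zbig hs hne hK
      Hcomm := hcomm
      AH := hAH
      AL1 := hAH.trans hL
      Acomm := fun a ha b hb => hcomm a (hAH ha) b (hAH hb)
      n1A := cj_eq_of_inv fun x hx => hinv' x (hAH hx)
      AZ := AZ hA
      AE := AE hA
      irrY := irrY hs hne hA'
      irrU := irrU hs hne hA'
      irrE := irrE S.onto
      fixY := fixY hs hne hA'
      fixU := fixU hs hne hA'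
      fixE := fixE hs hne hK S.onto
      transZ := transZ hs S.onto }

end Model

end Cfsg.Agent.RankTwoClose.UFour

end

section


/-!
Type `U4(q)`: `U = Q V`, `V ∩ Q = Y`, `Q = Y Y^n2`, `Y ∩ Y^n2 = Z`.
-/

set_option autoImplicit false
set_option linter.unusedSectionVars false

namespace Cfsg.Agent.RankTwoClose.UFour

variable {G : Type*} [Group G]

namespace Data

variable {S V U Z Y L1 L2 Q H A0 : Subgroup G} {n1 n2 : G}

section Basic

variable (D : Data S V U Z Y L1 L2 Q H A0 n1 n2)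
include D

theorem VU : V ≤ U := D.P1.QU
theorem QU : Q ≤ U := D.P2.QU
theorem UL1 : U ≤ L1 := D.P1.UL
theorem UL2 : U ≤ L2 := D.P2.UL
theorem ZV : Z ≤ V := fun z hz => ((D.memZ z).mp hz).1
theorem zu {z u : G} (hz : z ∈ Z) (hu : u ∈ U) : z * u = u * z := ((D.memZ z).mp hz).2 u hu
theorem ZY : Z ≤ Y := fun z hz => D.Yup z (D.ZV hz) fun u hu => by
  rw [show z * u * z⁻¹ * u⁻¹ = 1 by rw [D.zu hz hu]; group]
  exact one_mem _
theorem UV : U ≤ Subgroup.normalizer (V : Set G) := D.UL1.trans D.P1.norm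
theorem YV : Y ≤ V := by
  rw [D.Ydef, Subgroup.commutator_le]
  intro v hv u hu
  have h1 : v * u * v⁻¹ * u⁻¹ = v * (u * v⁻¹ * u⁻¹) := by group
  show v * u * v⁻¹ * u⁻¹ ∈ V
  rw [h1]
  exact mul_mem hv (conj_mem (D.UV hu) (inv_mem hv))
theorem YleU : Y ≤ U := D.YV.trans D.VU
theorem ZleU : Z ≤ U := D.ZV.trans D.VU
theorem vuY {v u : G} (hv : v ∈ V) (hu : u ∈ U) : v * u * v⁻¹ * u⁻¹ ∈ Y := by
  rw [D.Ydef]; exact Subgroup.commutator_mem_commutator hv hu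
theorem twoU : IsPGroup 2 U := D.twoS.to_le D.US
theorem twoQ : IsPGroup 2 Q := D.twoU.to_le D.QU

theorem normY {g : G} (hV : g ∈ Subgroup.normalizer (V : Set G))
    (hU : g ∈ Subgroup.normalizer (U : Set G)) : g ∈ Subgroup.normalizer (Y : Set G) := by
  rw [mem_norm_iff] at *
  rw [D.Ydef, cj_comm, hV, hU]

theorem normZ {g : G} (hV : g ∈ Subgroup.normalizer (V : Set G))
    (hU : g ∈ Subgroup.normalizer (U : Set G)) : g ∈ Subgroup.normalizer (Z : Set G) := by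
  rw [Subgroup.mem_normalizer_iff]
  intro z
  rw [D.memZ, D.memZ, ← Subgroup.mem_normalizer_iff.mp hV z]
  refine and_congr_right fun _ => ?_
  constructor
  · intro h u hu
    have h1 := h _ (conj_mem' hU hu)
    calc g * z * g⁻¹ * u = g * (z * (g⁻¹ * u * g)) * g⁻¹ := by group
      _ = g * ((g⁻¹ * u * g) * z) * g⁻¹ := by rw [h1]
      _ = u * (g * z * g⁻¹) := by group
  · intro h u hu
    have h1 := h _ (conj_mem hU hu)
    calc z * u = g⁻¹ * (g * z * g⁻¹ * (g * u * g⁻¹)) * g := by group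
      _ = g⁻¹ * (g * u * g⁻¹ * (g * z * g⁻¹)) * g := by rw [h1]
      _ = u * z := by group

theorem HY : H ≤ Subgroup.normalizer (Y : Set G) := fun _ hh => D.normY (D.HV hh) (D.HU hh)
theorem HZ : H ≤ Subgroup.normalizer (Z : Set G) := fun _ hh => D.normZ (D.HV hh) (D.HU hh)
theorem SY : S ≤ Subgroup.normalizer (Y : Set G) := fun _ hh => D.normY (D.SV hh) (D.SU hh)
theorem SZ : S ≤ Subgroup.normalizer (Z : Set G) := fun _ hh => D.normZ (D.SV hh) (D.SU hh)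
theorem UY : U ≤ Subgroup.normalizer (Y : Set G) := fun _ hh =>
  D.normY (D.UV hh) (Subgroup.le_normalizer hh)

theorem normQ {g : G} (h2 : g ∈ Subgroup.normalizer (L2 : Set G)) : cj g Q ≤ Q := by
  refine D.Qmax _ (isPGroup_cj D.twoQ) ?_ ?_
  · have := cj_mono (g := g) (D.QU.trans D.UL2)
    rwa [mem_norm_iff.mp h2] at this
  · intro x hx
    refine norm_cj (D.P2.norm ?_)
    exact conj_mem' h2 hx

theorem HQ : H ≤ Subgroup.normalizer (Q : Set G) :=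
  le_normalizer_of fun _ hx => D.normQ (D.HL2 hx)

theorem SQ : S ≤ Subgroup.normalizer (Q : Set G) :=
  le_normalizer_of fun _ hx => D.normQ (D.SL2 hx)

theorem Z_ne : Z ≠ ⊥ := by
  obtain ⟨a, ha, -, -, ha1, -, -⟩ := D.Zbig
  intro h
  rw [h] at ha
  exact ha1 (Subgroup.mem_bot.mp ha)

theorem E_ne : cj n1 Z ≠ ⊥ := by
  intro h
  have h1 := congrArg (cj n1⁻¹) h
  rw [cj_inv_cj] at h1
  refine D.Z_ne (h1.trans ?_)
  exact Subgroup.map_bot _

theorem EV : cj n1 Z ≤ V := by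
  have := cj_mono (g := n1) D.ZV
  rwa [mem_norm_iff.mp (D.P1.norm D.P1.nL)] at this

theorem V_ne_Y : V ≠ Y := by
  intro h
  have h1 : cj n1 Z ≤ Y := h ▸ D.EV
  have h2 := D.Edis
  rw [inf_eq_right.mpr h1] at h2
  exact D.E_ne h2

theorem Y_ne_Z : Y ≠ Z := by
  intro h
  have h1 := D.Zle
  rw [h] at h1
  have h2 : ⁅Z, U⁆ ≤ ⊥ := by
    rw [Subgroup.commutator_le]
    intro z hz u hu
    rw [Subgroup.mem_bot, commutatorElement_def, D.zu hz hu]
    group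
  exact D.Z_ne (le_bot_iff.mp (h1.trans h2))

theorem YQ : Y ≤ Q := by
  rw [D.Ydef, Subgroup.commutator_le]
  intro v hv u hu
  exact D.P2.ab v (D.VU hv) u hu

theorem hQ1 {x : G} (hx : x ∈ H) (hx' : x ∈ Q) : x = 1 := eq_one_of_odd_two D.odd D.twoQ hx hx'

theorem cV : ¬ V ≤ Y := fun h => D.V_ne_Y (le_antisymm h D.YV)

theorem Q_ne_Y : Q ≠ Y := by
  intro h
  refine D.cV ?_
  intro v hv
  rw [← h]
  refine D.cQ v (D.UL2 (D.VU hv)) fun q hq => ?_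
  rw [h] at hq
  exact D.commV v hv q (D.YV hq)

theorem U_ne_Q : U ≠ Q := by
  intro h
  have h1 : cj n2 U = U := by
    rw [h]; exact mem_norm_iff.mp (D.P2.norm D.P2.nL)
  have h2 := D.P2.gen
  rw [h1, sup_idem] at h2
  obtain ⟨x, hx, hx1⟩ := D.H2ne
  obtain ⟨hxH, hxL⟩ := Subgroup.mem_inf.mp hx
  exact hx1 (D.hQ1 hxH (h ▸ h2 hxL))

theorem VnQ : ¬ V ≤ Q := by
  intro h
  have h1 := D.irrU Q h D.QU (D.AH.trans D.HQ)
  rcases h1 with h1 | h1
  · exact D.ne h1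
  · exact D.U_ne_Q h1.symm

theorem VQ_inf : V ⊓ Q = Y := by
  rcases D.irrE (V ⊓ Q) (le_inf D.YV D.YQ) inf_le_left
    (fun x hx => norm_inf (D.HV hx) (D.HQ hx)) with h | h
  · exact h
  · exact absurd (inf_eq_left.mp h) D.VnQ

theorem QV_sup : Q ⊔ V = U := by
  rcases D.irrU (Q ⊔ V) le_sup_right (sup_le D.QU D.VU)
    (fun x hx => norm_sup (D.HQ (D.AH hx)) (D.HV (D.AH hx))) with h | h
  · exfalso
    have h1 : Q ≤ V := by rw [← h]; exact le_sup_left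
    have h2 := D.VQ_inf
    rw [inf_eq_right.mpr h1] at h2
    exact D.Q_ne_Y h2
  · exact h

theorem QlV : Q ≤ Subgroup.normalizer (V : Set G) := D.QU.trans D.UV

theorem exists_qv {u : G} (hu : u ∈ U) : ∃ q ∈ Q, ∃ v ∈ V, u = q * v := by
  rw [← D.QV_sup] at hu
  exact mem_sup_norm D.QlV hu

/-- `A0` centralises `U/Q`. -/
theorem AUQ {a u : G} (ha : a ∈ A0) (hu : u ∈ U) : a * u * a⁻¹ * u⁻¹ ∈ Q := by
  obtain ⟨q, hq, v, hv, rfl⟩ := D.exists_qv hu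
  have e : a * (q * v) * a⁻¹ * (q * v)⁻¹ =
      (a * q * a⁻¹) * (a * v * a⁻¹ * v⁻¹) * q⁻¹ := by group
  rw [e]
  exact mul_mem (mul_mem (conj_mem (D.HQ (D.AH ha)) hq) (D.YQ (D.AE a ha v hv))) (inv_mem hq)

/-- `A0` centralises `L2/Q`. -/
theorem AL2Q {a x : G} (ha : a ∈ A0) (hx : x ∈ L2) : a * x * a⁻¹ * x⁻¹ ∈ Q := by
  refine D.P2.comm_of (D.HL2 (D.AH ha)) (D.HU (D.AH ha)) ?_ (fun u hu => D.AUQ ha hu) x hx
  rw [← cj_mul, show a * n2 = n2 * (n2⁻¹ * a * n2) by group, cj_mul]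
  have h1 : n2⁻¹ * a * n2 ∈ H := conj_mem' (mem_norm_iff.mpr D.n2H) (D.AH ha)
  rw [mem_norm_iff.mp (D.HU h1)]

/-- `n2` centralises `A0`. -/
theorem n2A {a : G} (ha : a ∈ A0) : a * n2 = n2 * a := by
  have h1 := D.AL2Q ha D.P2.nL
  have h2 : a * n2 * a⁻¹ * n2⁻¹ ∈ H := by
    rw [show a * n2 * a⁻¹ * n2⁻¹ = a * (n2 * a⁻¹ * n2⁻¹) by group]
    exact mul_mem (D.AH ha) (conj_mem (mem_norm_iff.mpr D.n2H) (inv_mem (D.AH ha)))
  have h3 := D.hQ1 h2 h1
  calc a * n2 = (a * n2 * a⁻¹ * n2⁻¹) * (n2 * a) := by group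
    _ = n2 * a := by rw [h3, one_mul]

/-- `H2 = H ∩ L2` commutes with `A0`. -/
theorem h2A {a h : G} (ha : a ∈ A0) (hh : h ∈ H ⊓ L2) : a * h = h * a := by
  obtain ⟨hH, hL⟩ := Subgroup.mem_inf.mp hh
  have h1 := D.AL2Q ha hL
  have h2 : a * h * a⁻¹ * h⁻¹ ∈ H :=
    mul_mem (mul_mem (mul_mem (D.AH ha) hH) (inv_mem (D.AH ha))) (inv_mem hH)
  have h3 := D.hQ1 h2 h1
  calc a * h = (a * h * a⁻¹ * h⁻¹) * (h * a) := by group
    _ = h * a := by rw [h3, one_mul]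

theorem cj_Z_of_L2 {x : G} (hx : x ∈ L2) : cj x Z = Z := by
  rw [← mem_norm_iff, Subgroup.mem_normalizer_iff]
  intro z
  constructor
  · intro hz
    rw [← D.ZL2 z hz x hx]; simpa using hz
  · intro hz
    have h1 := D.ZL2 _ hz x⁻¹ (inv_mem hx)
    have h2 : z = x⁻¹ * (x * z * x⁻¹) * x := by group
    rw [h2, ← h1]
    simpa using hz

theorem n2Q : n2 ∈ Subgroup.normalizer (Q : Set G) := D.P2.norm D.P2.nL

theorem Y'Q : cj n2 Y ≤ Q := by
  have := cj_mono (g := n2) D.YQ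
  rwa [mem_norm_iff.mp D.n2Q] at this

theorem ZY' : Z ≤ cj n2 Y := by
  have := cj_mono (g := n2) D.ZY
  rwa [D.cj_Z_of_L2 D.P2.nL] at this

theorem AY' {a : G} (ha : a ∈ A0) : a ∈ Subgroup.normalizer ((cj n2 Y : Subgroup G) : Set G) := by
  refine norm_cj ?_
  rw [show n2⁻¹ * a * n2 = a by rw [mul_assoc, D.n2A ha]; group]
  exact D.HY (D.AH ha)

theorem cj_Y_ne : cj n2 Y ≠ Y := by
  intro h
  have hL : L2 ≤ Subgroup.normalizer (Y : Set G) := by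
    refine D.P2.gen.trans (sup_le D.UY ?_)
    intro x hx
    rw [mem_cj] at hx
    have := norm_cj (g := n2) (x := x) (D.UY hx)
    rwa [h] at this
  -- the subgroup centralising `Y` and `Q/Y`
  let N : Subgroup G :=
    { carrier := {x | x ∈ L2 ∧ (∀ y ∈ Y, x * y = y * x) ∧ ∀ q ∈ Q, x * q * x⁻¹ * q⁻¹ ∈ Y}
      one_mem' := ⟨one_mem _, fun y _ => by rw [one_mul, mul_one], fun q _ => by
        rw [show (1 : G) * q * 1⁻¹ * q⁻¹ = 1 by group]; exact one_mem _⟩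
      mul_mem' := by
        rintro a b ⟨ha, ha1, ha2⟩ ⟨hb, hb1, hb2⟩
        refine ⟨mul_mem ha hb, fun y hy => ?_, fun q hq => ?_⟩
        · rw [mul_assoc, hb1 y hy, ← mul_assoc, ha1 y hy, mul_assoc]
        · have e : a * b * q * (a * b)⁻¹ * q⁻¹ =
            (a * (b * q * b⁻¹ * q⁻¹) * a⁻¹) * (a * q * a⁻¹ * q⁻¹) := by group
          rw [e]
          exact mul_mem (conj_mem (hL ha) (hb2 q hq)) (ha2 q hq)
      inv_mem' := by
        rintro a ⟨ha, ha1, ha2⟩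
        refine ⟨inv_mem ha, fun y hy => ?_, fun q hq => ?_⟩
        · have := ha1 y hy
          calc a⁻¹ * y = a⁻¹ * (y * a) * a⁻¹ := by group
            _ = a⁻¹ * (a * y) * a⁻¹ := by rw [this]
            _ = y * a⁻¹ := by group
        · have h1 := inv_mem (ha2 q hq)
          have h2 := conj_mem' (hL ha) h1
          rwa [show a⁻¹ * (a * q * a⁻¹ * q⁻¹)⁻¹ * a = a⁻¹ * q * a⁻¹⁻¹ * q⁻¹ by group] at h2 }
  have hN : ∀ {x}, x ∈ N ↔ x ∈ L2 ∧ (∀ y ∈ Y, x * y = y * x) ∧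
      ∀ q ∈ Q, x * q * x⁻¹ * q⁻¹ ∈ Y := fun {x} => Iff.rfl
  have hN2 : IsPGroup 2 N := by
    rintro ⟨x, hx⟩
    obtain ⟨hx0, hx1, hx2⟩ := hN.mp hx
    have hxx : x * x ∈ Q := by
      refine D.cQ _ (mul_mem hx0 hx0) fun q hq => ?_
      set y := x * q * x⁻¹ * q⁻¹ with hy
      have hyY : y ∈ Y := hx2 q hq
      have e1 : x * q * x⁻¹ = y * q := by rw [hy]; group
      have e2 : x * x * q * x⁻¹ * x⁻¹ = q := by
        calc x * x * q * x⁻¹ * x⁻¹ = x * (x * q * x⁻¹) * x⁻¹ := by group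
          _ = x * (y * q) * x⁻¹ := by rw [e1]
          _ = (x * y) * q * x⁻¹ := by group
          _ = (y * x) * q * x⁻¹ := by rw [hx1 y hyY]
          _ = y * (x * q * x⁻¹) := by group
          _ = y * y * q := by rw [e1]; group
          _ = q := by rw [D.sqV y (D.YV hyY), one_mul]
      calc x * x * q = (x * x * q * x⁻¹ * x⁻¹) * (x * x) := by group
        _ = q * (x * x) := by rw [e2]
    obtain ⟨k, hk⟩ := D.twoQ ⟨x * x, hxx⟩
    have hk' : (x * x) ^ 2 ^ k = 1 := congrArg Subtype.val hk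
    refine ⟨k + 1, Subtype.ext ?_⟩
    show x ^ 2 ^ (k + 1) = 1
    rw [pow_succ', pow_mul, pow_two]
    exact hk'
  have hNn : L2 ≤ Subgroup.normalizer (N : Set G) := by
    refine le_normalizer_of fun g hg x hx => ?_
    rw [mem_cj] at hx
    obtain ⟨hx0, hx1, hx2⟩ := hN.mp hx
    refine hN.mpr ⟨?_, fun y hy => ?_, fun q hq => ?_⟩
    · have := mul_mem (mul_mem hg hx0) (inv_mem hg)
      rwa [show g * (g⁻¹ * x * g) * g⁻¹ = x by group] at this
    · have h1 := hx1 _ (conj_mem' (hL hg) hy)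
      calc x * y = g * ((g⁻¹ * x * g) * (g⁻¹ * y * g)) * g⁻¹ := by group
        _ = g * ((g⁻¹ * y * g) * (g⁻¹ * x * g)) * g⁻¹ := by rw [h1]
        _ = y * x := by group
    · have h1 := hx2 _ (conj_mem' (D.P2.norm hg) hq)
      have h2 := conj_mem (hL hg) h1
      rwa [show g * ((g⁻¹ * x * g) * (g⁻¹ * q * g) * (g⁻¹ * x * g)⁻¹ * (g⁻¹ * q * g)⁻¹) * g⁻¹ =
        x * q * x⁻¹ * q⁻¹ by group] at h2
  have hNQ : N ≤ Q := D.Qmax N hN2 (fun x hx => (hN.mp hx).1) hNn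
  refine D.VnQ (le_trans ?_ hNQ)
  intro v hv
  refine hN.mpr ⟨D.UL2 (D.VU hv), fun y hy => D.commV v hv y (D.YV hy), fun q hq => ?_⟩
  exact D.vuY hv (D.QU hq)

variable [Finite G]

theorem YY'_inf : Y ⊓ cj n2 Y = Z := by
  rcases D.irrY (Y ⊓ cj n2 Y) (le_inf D.ZY D.ZY') inf_le_left
    (fun x hx => norm_inf (D.HY (D.AH hx)) (D.AY' hx)) with h | h
  · exact h
  · exfalso
    have h1 : Y ≤ cj n2 Y := inf_eq_left.mp h
    exact D.cj_Y_ne (Subgroup.eq_of_le_of_card_ge h1 (le_of_eq (card_cj _ _))).symm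

theorem VY'_sup : V ⊔ cj n2 Y = U := by
  rcases D.irrU (V ⊔ cj n2 Y) le_sup_left (sup_le D.VU (D.Y'Q.trans D.QU))
    (fun x hx => norm_sup (D.HV (D.AH hx)) (D.AY' hx)) with h | h
  · exfalso
    have h1 : cj n2 Y ≤ V := by rw [← h]; exact le_sup_right
    have h2 : cj n2 Y ≤ Y := le_trans (le_inf h1 D.Y'Q) (le_of_eq D.VQ_inf)
    have h3 : Y ⊓ cj n2 Y = cj n2 Y := inf_eq_right.mpr h2
    rw [D.YY'_inf] at h3
    have h4 := congrArg (cj n2⁻¹) h3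
    rw [cj_inv_cj, D.cj_Z_of_L2 (inv_mem D.P2.nL)] at h4
    exact D.Y_ne_Z h4.symm
  · exact h

theorem Y'leU : cj n2 Y ≤ U := D.Y'Q.trans D.QU

theorem YY'_sup : Y ⊔ cj n2 Y = Q := by
  refine le_antisymm (sup_le D.YQ D.Y'Q) ?_
  intro q hq
  have h1 : q ∈ cj n2 Y ⊔ V := by rw [sup_comm, D.VY'_sup]; exact D.QU hq
  obtain ⟨y, hy, v, hv, rfl⟩ := mem_sup_norm (D.Y'leU.trans D.UV) h1
  have hvQ : v ∈ Q := by
    have := mul_mem (inv_mem (D.Y'Q hy)) hq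
    rwa [inv_mul_cancel_left] at this
  have hvY : v ∈ Y := by rw [← D.VQ_inf]; exact ⟨hv, hvQ⟩
  exact mul_mem (Subgroup.mem_sup_right hy) (Subgroup.mem_sup_left hvY)

/-- Elements of `Q` are `y * y'`. -/
theorem exists_yy {q : G} (hq : q ∈ Q) : ∃ y' ∈ cj n2 Y, ∃ y ∈ Y, q = y' * y := by
  rw [← D.YY'_sup, sup_comm] at hq
  exact mem_sup_norm (D.Y'leU.trans D.UY) hq

/-- `[Q, Q] ≤ Z`. -/
theorem QQ {a b : G} (ha : a ∈ Q) (hb : b ∈ Q) : a * b * a⁻¹ * b⁻¹ ∈ Z := by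
  have hQY : Q ≤ Subgroup.normalizer (Y : Set G) := D.QU.trans D.UY
  have hQY' : Q ≤ Subgroup.normalizer ((cj n2 Y : Subgroup G) : Set G) := by
    intro x hx
    exact norm_cj (hQY (conj_mem' D.n2Q hx))
  have hyy : ∀ y ∈ Y, ∀ y' ∈ cj n2 Y, y * y' * y⁻¹ * y'⁻¹ ∈ Z := by
    intro y hy y' hy'
    rw [← D.YY'_inf]
    refine ⟨?_, ?_⟩
    · rw [show y * y' * y⁻¹ * y'⁻¹ = y * (y' * y⁻¹ * y'⁻¹) by group]
      exact mul_mem hy (conj_mem (hQY (D.Y'Q hy')) (inv_mem hy))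
    · show y * y' * y⁻¹ * y'⁻¹ ∈ cj n2 Y
      exact mul_mem (conj_mem (hQY' (D.YQ hy)) hy') (inv_mem hy')
  have hYc : ∀ y ∈ Y, ∀ z ∈ Y, y * z = z * y := fun y hy z hz =>
    D.commV y (D.YV hy) z (D.YV hz)
  have hY'c : ∀ y ∈ cj n2 Y, ∀ z ∈ cj n2 Y, y * z = z * y := by
    intro y hy z hz
    rw [mem_cj] at hy hz
    have := hYc _ hy _ hz
    calc y * z = n2 * ((n2⁻¹ * y * n2) * (n2⁻¹ * z * n2)) * n2⁻¹ := by group
      _ = n2 * ((n2⁻¹ * z * n2) * (n2⁻¹ * y * n2)) * n2⁻¹ := by rw [this]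
      _ = z * y := by group
  -- commutator subgroup argument
  have h1 : ⁅Q, Q⁆ ≤ Z := by
    have hZc : ∀ z ∈ Z, ∀ q ∈ Q, q * z * q⁻¹ ∈ Z := by
      intro z hz q hq
      rw [← D.zu hz (D.QU hq)]; simpa using hz
    have key : ∀ b ∈ Q, (∀ y ∈ Y, b * y * b⁻¹ * y⁻¹ ∈ Z) → (∀ y ∈ cj n2 Y, b * y * b⁻¹ * y⁻¹ ∈ Z) →
        ∀ a ∈ Q, b * a * b⁻¹ * a⁻¹ ∈ Z := by
      intro b hb h1 h2 a ha
      obtain ⟨y', hy', y, hy, rfl⟩ := D.exists_yy ha
      have e : b * (y' * y) * b⁻¹ * (y' * y)⁻¹ =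
        (b * y' * b⁻¹ * y'⁻¹) * (y' * (b * y * b⁻¹ * y⁻¹) * y'⁻¹) := by group
      rw [e]
      exact mul_mem (h2 y' hy') (hZc _ (h1 y hy) _ (D.Y'Q hy'))
    have keyY : ∀ b ∈ Y, ∀ a ∈ Q, b * a * b⁻¹ * a⁻¹ ∈ Z := fun b hb =>
      key b (D.YQ hb) (fun y hy => by
        rw [show b * y * b⁻¹ * y⁻¹ = 1 by rw [hYc b hb y hy]; group]; exact one_mem _)
        (fun y hy => hyy b hb y hy)
    have keyY' : ∀ b ∈ cj n2 Y, ∀ a ∈ Q, b * a * b⁻¹ * a⁻¹ ∈ Z := fun b hb =>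
      key b (D.Y'Q hb) (fun y hy => by
        have := inv_mem (hyy y hy b hb)
        rwa [show (y * b * y⁻¹ * b⁻¹)⁻¹ = b * y * b⁻¹ * y⁻¹ by group] at this)
        (fun y hy => by
          rw [show b * y * b⁻¹ * y⁻¹ = 1 by rw [hY'c b hb y hy]; group]; exact one_mem _)
    rw [Subgroup.commutator_le]
    intro a ha b hb
    obtain ⟨y', hy', y, hy, rfl⟩ := D.exists_yy ha
    show y' * y * b * (y' * y)⁻¹ * b⁻¹ ∈ Z
    have e : y' * y * b * (y' * y)⁻¹ * b⁻¹ =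
        (y' * (y * b * y⁻¹ * b⁻¹) * y'⁻¹) * (y' * b * y'⁻¹ * b⁻¹) := by group
    rw [e]
    exact mul_mem (hZc _ (keyY y hy b hb) _ (D.Y'Q hy')) (keyY' y' hy' b hb)
  exact h1 (Subgroup.commutator_mem_commutator ha hb)

/-- The centre of `Q` is `Z`. -/
theorem centre {q : G} (hq : q ∈ Q) (hc : ∀ x ∈ Q, q * x = x * q) : q ∈ Z := by
  have h1 : q ∈ V := D.cUY q (D.QU hq) fun y hy => (hc y (D.YQ hy)).symm
  rw [D.memZ]
  refine ⟨h1, fun u hu => ?_⟩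
  obtain ⟨x, hx, v, hv, rfl⟩ := D.exists_qv hu
  rw [← mul_assoc, hc x hx, mul_assoc, D.commV q h1 v hv, mul_assoc]

end Basic

end Data

end Cfsg.Agent.RankTwoClose.UFour

end

section


/-!
Type `U4(q)`: `O_2(C_G(z)) = Q` for `z ∈ Z#`.
-/

set_option autoImplicit false
set_option linter.unusedSectionVars false

namespace Cfsg.Agent.RankTwoClose.UFour

variable {G : Type*} [Group G]

/-- A `2`-group normalised by `A0` centralises every `A0`-irreducible section. -/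
theorem trivial_of_irr [Finite G] {S R A X W : Subgroup G} (hS : IsPGroup 2 S) (hWS : W ≤ S)
    (hXW : X ≤ W) (hSX : S ≤ Subgroup.normalizer (X : Set G))
    (hSW : S ≤ Subgroup.normalizer (W : Set G)) (hne : ¬ W ≤ X) (hRS : R ≤ S)
    (hAR : A ≤ Subgroup.normalizer (R : Set G)) (hAX : A ≤ Subgroup.normalizer (X : Set G))
    (hAW : A ≤ Subgroup.normalizer (W : Set G))
    (irr : ∀ T : Subgroup G, X ≤ T → T ≤ W → A ≤ Subgroup.normalizer (T : Set G) → T = X ∨ T = W) :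
    ∀ r ∈ R, ∀ w ∈ W, r * w * r⁻¹ * w⁻¹ ∈ X := by
  let T : Subgroup G :=
    { carrier := {w | w ∈ W ∧ ∀ r ∈ R, r * w * r⁻¹ * w⁻¹ ∈ X}
      one_mem' := ⟨one_mem _, fun r _ => by
        rw [show r * 1 * r⁻¹ * 1⁻¹ = 1 by group]; exact one_mem _⟩
      mul_mem' := by
        rintro a b ⟨ha, ha2⟩ ⟨hb, hb2⟩
        refine ⟨mul_mem ha hb, fun r hr => ?_⟩
        have e : r * (a * b) * r⁻¹ * (a * b)⁻¹ =
          (r * a * r⁻¹ * a⁻¹) * (a * (r * b * r⁻¹ * b⁻¹) * a⁻¹) := by group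
        rw [e]
        exact mul_mem (ha2 r hr) (conj_mem (hSX (hWS ha)) (hb2 r hr))
      inv_mem' := by
        rintro a ⟨ha, ha2⟩
        refine ⟨inv_mem ha, fun r hr => ?_⟩
        have h1 := inv_mem (ha2 r hr)
        have h2 := conj_mem' (hSX (hWS ha)) h1
        rwa [show a⁻¹ * (r * a * r⁻¹ * a⁻¹)⁻¹ * a = r * a⁻¹ * r⁻¹ * a⁻¹⁻¹ by group] at h2 }
  have hT : ∀ {w}, w ∈ T ↔ w ∈ W ∧ ∀ r ∈ R, r * w * r⁻¹ * w⁻¹ ∈ X := fun {w} => Iff.rfl
  have hAT : A ≤ Subgroup.normalizer (T : Set G) := by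
    refine le_normalizer_of fun a ha x hx => ?_
    rw [mem_cj] at hx
    obtain ⟨hx1, hx2⟩ := hT.mp hx
    refine hT.mpr ⟨?_, fun r hr => ?_⟩
    · have := conj_mem (hAW ha) hx1
      rwa [show a * (a⁻¹ * x * a) * a⁻¹ = x by group] at this
    · have h1 := hx2 _ (conj_mem' (hAR ha) hr)
      have h2 := conj_mem (hAX ha) h1
      rwa [show a * (a⁻¹ * r * a * (a⁻¹ * x * a) * (a⁻¹ * r * a)⁻¹ * (a⁻¹ * x * a)⁻¹) * a⁻¹ =
        r * x * r⁻¹ * x⁻¹ by group] at h2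
  rcases irr T (fun x hx => hT.mpr ⟨hXW hx, fun r hr =>
      mul_mem (conj_mem (hSX (hRS hr)) hx) (inv_mem hx)⟩) (fun x hx => (hT.mp hx).1) hAT
    with h | h
  · exfalso
    obtain ⟨u, hu, huX, hc⟩ := exists_central_mod hS hWS (hXW.trans hWS) hSX hSW hne
    apply huX
    rw [← h]
    exact hT.mpr ⟨hu, fun r hr => hc r (hRS hr)⟩
  · intro r hr w hw
    rw [← h] at hw
    exact (hT.mp hw).2 r hr

namespace Data

variable {S V U Z Y L1 L2 Q H A0 : Subgroup G} {n1 n2 : G}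

section Control

variable (D : Data S V U Z Y L1 L2 Q H A0 n1 n2)
include D

theorem UnV : ¬ U ≤ V := fun h => by
  have h1 : Q ≤ V := D.QU.trans h
  have h2 := D.VQ_inf
  rw [inf_eq_right.mpr h1] at h2
  exact D.Q_ne_Y h2

theorem cj_n1_U_ne : cj n1 U ≠ U := fun h => by
  have := D.P1.inter
  rw [h, inf_idem] at this
  exact D.UnV this

theorem cj_n2_U_ne : cj n2 U ≠ U := fun h => by
  have := D.P2.inter
  rw [h, inf_idem] at this
  exact D.U_ne_Q (le_antisymm this D.QU)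

variable [Finite G]

/-- An element of `S` centralising `U/V`, `Y/Z`, `V/Y` and `Z` lies in `U`. -/
theorem mem_U_of {r : G} (hr : r ∈ S) (hU : ∀ u ∈ U, r * u * r⁻¹ * u⁻¹ ∈ V)
    (hZ : ∀ z ∈ Z, r * z = z * r) : r ∈ U := by
  have hrU : cj r U = U := mem_norm_iff.mp (D.SU hr)
  have h0 : cj r (cj n1 U) = cj (r * n1 * r⁻¹) U := by
    rw [cj_mul (r * n1) r⁻¹, mem_norm_iff.mp (D.SU (inv_mem hr)), cj_mul]
  have hL : r * n1 * r⁻¹ ∈ L1 := conj_mem (D.SL1 hr) D.P1.nL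
  rcases D.P1.trans _ hL with h1 | ⟨u, hu, h1⟩
  · exfalso
    rw [← h0] at h1
    have h2 := congrArg (cj r⁻¹) h1
    rw [cj_inv_cj, mem_norm_iff.mp (D.SU (inv_mem hr))] at h2
    exact D.cj_n1_U_ne h2
  · rw [← h0, cj_mul u] at h1
    set r' := u⁻¹ * r with hr'
    have hr'S : r' ∈ S := mul_mem (inv_mem (D.US hu)) hr
    have h2 : cj r' (cj n1 U) = cj n1 U := by
      rw [hr', cj_mul, h1, cj_inv_cj]
    have h3 : ∀ x ∈ U, r' * x * r'⁻¹ * x⁻¹ ∈ V := by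
      intro x hx
      have e : r' * x * r'⁻¹ * x⁻¹ =
        (u⁻¹ * (r * x * r⁻¹ * x⁻¹) * u) * (u⁻¹ * x * u * x⁻¹) := by
        rw [hr']; group
      rw [e]
      refine mul_mem (conj_mem' (D.UV hu) (hU x hx)) ?_
      have := D.P1.ab u⁻¹ (inv_mem hu) x hx
      rwa [inv_inv] at this
    have h4 := D.P1.comm_of (D.SL1 hr'S) (D.SU hr'S) h2 h3
    have h5 : ∀ z ∈ Z, r' * z = z * r' := by
      intro z hz
      rw [hr', mul_assoc, hZ z hz, ← mul_assoc, ← mul_assoc, ← D.zu hz (inv_mem hu)]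
    -- `C_V(r')`
    let C : Subgroup G :=
      { carrier := {v | v ∈ V ∧ r' * v = v * r'}
        one_mem' := ⟨one_mem _, by rw [mul_one, one_mul]⟩
        mul_mem' := by
          rintro a b ⟨ha, ha1⟩ ⟨hb, hb1⟩
          exact ⟨mul_mem ha hb, by rw [← mul_assoc, ha1, mul_assoc, hb1, mul_assoc]⟩
        inv_mem' := by
          rintro a ⟨ha, ha1⟩
          refine ⟨inv_mem ha, ?_⟩
          calc r' * a⁻¹ = a⁻¹ * (a * r') * a⁻¹ := by group
            _ = a⁻¹ * (r' * a) * a⁻¹ := by rw [ha1]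
            _ = a⁻¹ * r' := by group }
    have hC : ∀ {v}, v ∈ C ↔ v ∈ V ∧ r' * v = v * r' := fun {v} => Iff.rfl
    have hLC : L1 ≤ Subgroup.normalizer (C : Set G) := by
      refine le_normalizer_of fun g hg x hx => ?_
      rw [mem_cj] at hx
      obtain ⟨hx1, hx2⟩ := hC.mp hx
      have hxV : x ∈ V := by
        have := conj_mem (D.P1.norm hg) hx1
        rwa [show g * (g⁻¹ * x * g) * g⁻¹ = x by group] at this
      refine hC.mpr ⟨hxV, ?_⟩
      have hw := h4 g hg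
      set w := r' * g * r'⁻¹ * g⁻¹ with hwdef
      have e1 : r' * g = w * g * r' := by rw [hwdef]; group
      have e2 : r' * x * r'⁻¹ = x := by
        calc r' * x * r'⁻¹ = (r' * g) * (g⁻¹ * x * g) * (r' * g)⁻¹ := by group
          _ = w * g * (r' * (g⁻¹ * x * g)) * r'⁻¹ * g⁻¹ * w⁻¹ := by rw [e1]; group
          _ = w * g * ((g⁻¹ * x * g) * r') * r'⁻¹ * g⁻¹ * w⁻¹ := by rw [hx2]
          _ = w * x * w⁻¹ := by group
          _ = x := by rw [D.commV w hw x hxV]; group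
      calc r' * x = (r' * x * r'⁻¹) * r' := by group
        _ = x * r' := by rw [e2]
    have h6 : V ≤ C := D.Vgen C (fun x hx => (hC.mp hx).1) (fun z hz => hC.mpr ⟨D.ZV hz, h5 z hz⟩) hLC
    have h7 : r' ∈ V := D.cSV r' hr'S fun v hv => (hC.mp (h6 hv)).2
    have h8 : r = u * r' := by rw [hr']; group
    rw [h8]
    exact mul_mem hu (D.VU h7)

/-- `O_2(C_G(z0)) = Q`. -/
theorem core_eq {z0 : G} (hz0 : z0 ∈ Z) {R : Subgroup G} (hRS : R ≤ S)
    (hR : ∀ x, x * z0 = z0 * x → x ∈ Subgroup.normalizer (R : Set G))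
    (hc : ∀ s ∈ S, (∀ r ∈ R, s * r = r * s) → s ∈ R) : R = Q := by
  have hAR : A0 ≤ Subgroup.normalizer (R : Set G) := fun a ha => hR a (D.AZ a ha z0 hz0)
  have h1 := trivial_of_irr (R := R) D.twoS D.US D.VU D.SV D.SU D.UnV hRS hAR (D.AH.trans D.HV)
    (D.AH.trans D.HU) D.irrU
  have h2 := trivial_of_irr (R := R) D.twoS (D.YleU.trans D.US) D.ZY D.SZ D.SY
    (fun h => D.Y_ne_Z (le_antisymm h D.ZY)) hRS hAR (D.AH.trans D.HZ)
    (D.AH.trans D.HY) D.irrY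
  -- `R` centralises `Z`
  have h3 : ∀ r ∈ R, ∀ z ∈ Z, r * z = z * r := by
    intro r hr z hz
    have h4 : ⁅Y, U⁆ ≤ Subgroup.centralizer {r} := by
      rw [Subgroup.commutator_le]
      intro y hy u hu
      rw [Subgroup.mem_centralizer_singleton_iff]
      have hz1 := h2 r hr y hy
      have hv1 := h1 r hr u hu
      set z1 := r * y * r⁻¹ * y⁻¹ with hz1def
      set v1 := r * u * r⁻¹ * u⁻¹ with hv1def
      have e1 : r * y * r⁻¹ = z1 * y := by rw [hz1def]; group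
      have e2 : r * u * r⁻¹ = v1 * u := by rw [hv1def]; group
      have hyu : y * u * y⁻¹ * u⁻¹ ∈ Z := D.YU y hy u hu
      show y * u * y⁻¹ * u⁻¹ * r = r * (y * u * y⁻¹ * u⁻¹)
      have e3 : r * (y * u * y⁻¹ * u⁻¹) * r⁻¹ = y * u * y⁻¹ * u⁻¹ := by
        have hvu : v1 * u ∈ U := mul_mem (D.VU hv1) hu
        calc r * (y * u * y⁻¹ * u⁻¹) * r⁻¹
            = (r * y * r⁻¹) * (r * u * r⁻¹) * (r * y * r⁻¹)⁻¹ * (r * u * r⁻¹)⁻¹ := by group
          _ = z1 * y * (v1 * u) * (z1 * y)⁻¹ * (v1 * u)⁻¹ := by rw [e1, e2]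
          _ = (z1 * (y * (v1 * u) * y⁻¹)) * z1⁻¹ * (v1 * u)⁻¹ := by group
          _ = ((y * (v1 * u) * y⁻¹) * z1) * z1⁻¹ * (v1 * u)⁻¹ := by
              rw [D.zu hz1 (mul_mem (mul_mem (D.YleU hy) hvu) (inv_mem (D.YleU hy)))]
          _ = (y * v1) * u * y⁻¹ * u⁻¹ * v1⁻¹ := by group
          _ = (v1 * y) * u * y⁻¹ * u⁻¹ * v1⁻¹ := by rw [D.commV y (D.YV hy) v1 hv1]
          _ = v1 * (y * u * y⁻¹ * u⁻¹) * v1⁻¹ := by group
          _ = (y * u * y⁻¹ * u⁻¹) * v1 * v1⁻¹ := by rw [D.zu hyu (D.VU hv1)]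
          _ = y * u * y⁻¹ * u⁻¹ := by group
      calc y * u * y⁻¹ * u⁻¹ * r = (r * (y * u * y⁻¹ * u⁻¹) * r⁻¹) * r := by rw [e3]
        _ = r * (y * u * y⁻¹ * u⁻¹) := by group
    exact (Subgroup.mem_centralizer_singleton_iff.mp (h4 (D.Zle hz))).symm
  have h4 : R ≤ U := fun r hr => D.mem_U_of (hRS hr) (h1 r hr) (h3 r hr)
  have hRL : L2 ≤ Subgroup.normalizer (R : Set G) := fun x hx =>
    hR x (D.ZL2 z0 hz0 x hx).symm
  have h5 : R ≤ Q := D.Qmax R (D.twoS.to_le hRS) (h4.trans D.UL2) hRL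
  have h6 : Z ≤ R := fun z hz => hc z (D.US (D.ZleU hz)) fun r hr => D.zu hz (h4 hr)
  rcases D.irrY (R ⊓ Y) (le_inf h6 D.ZY) inf_le_right
    (fun x hx => norm_inf (hAR hx) (D.HY (D.AH hx))) with h | h
  · exfalso
    have h7 : R ≤ Z := by
      intro r hr
      have h8 : r ∈ V := D.cUVZ r (h4 hr) fun v hv => by
        rw [← h]
        refine ⟨?_, D.vuY hv (h4 hr)⟩
        show v * r * v⁻¹ * r⁻¹ ∈ R
        exact mul_mem (conj_mem (hRL (D.UL2 (D.VU hv))) hr) (inv_mem hr)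
      have h9 : r ∈ Y := by rw [← D.VQ_inf]; exact ⟨h8, h5 hr⟩
      rw [← h]; exact ⟨hr, h9⟩
    have h10 : Y ≤ Z := by
      intro y hy
      refine h7 (hc y (D.US (D.YleU hy)) fun r hr => ?_)
      exact (D.zu (h7 hr) (D.YleU hy)).symm
    exact D.Y_ne_Z (le_antisymm h10 D.ZY)
  · refine le_antisymm h5 ?_
    have h8 : Y ≤ R := by rw [← h]; exact inf_le_left
    have h9 : cj n2 Y ≤ R := by
      have := cj_mono (g := n2) h8
      rwa [mem_norm_iff.mp (hRL D.P2.nL)] at this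
    rw [← D.YY'_sup]
    exact sup_le h8 h9

/-- The control of `C_G(z)`. -/
structure Core (Q : Subgroup G) (z : G) : Prop where
  norm : ∀ x, x * z = z * x → x ∈ Subgroup.normalizer (Q : Set G)
  self : ∀ x, x * z = z * x → (∀ q ∈ Q, x * q = q * x) → x ∈ Q
  max : ∀ R : Subgroup G, IsPGroup 2 R → (∀ r ∈ R, r * z = z * r) →
    (∀ x, x * z = z * x → x ∈ Subgroup.normalizer (R : Set G)) → R ≤ Q

theorem core_of {z0 : G} (hz0 : z0 ∈ Z) (hS : ∀ P : Subgroup G, IsPGroup 2 P → S ≤ P → P ≤ S)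
    (hSz : ∀ s ∈ S, s * z0 = z0 * s)
    (hR : ∃ R : Subgroup G, IsPGroup 2 R ∧ Core R z0) :
    Core Q z0 := by
  obtain ⟨R, hR2, hR⟩ := hR
  have hRS : R ≤ S := by
    have h1 : IsPGroup 2 (S ⊔ R : Subgroup G) := by
      have hn : S ≤ Subgroup.normalizer (R : Set G) := fun s hs => hR.norm s (hSz s hs)
      exact IsPGroup.to_sup_of_normal_right' D.twoS hR2 hn
    exact le_trans le_sup_right (hS _ h1 le_sup_left)
  have h1 : R = Q := D.core_eq hz0 hRS hR.norm fun s hs h => hR.self s (hSz s hs) h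
  rw [← h1]; exact hR

theorem core_all {z0 : G} (hz0 : z0 ∈ Z) (hz1 : z0 ≠ 1) (hC : Core Q z0) {z : G} (hz : z ∈ Z)
    (hzz : z ≠ 1) : Core Q z := by
  obtain ⟨h, hh, rfl⟩ := D.transZ z0 hz0 z hz hz1 hzz
  have hQ := D.HQ hh
  have key : ∀ x, x * (h * z0 * h⁻¹) = h * z0 * h⁻¹ * x → (h⁻¹ * x * h) * z0 = z0 * (h⁻¹ * x * h) := by
    intro x hx
    calc (h⁻¹ * x * h) * z0 = h⁻¹ * (x * (h * z0 * h⁻¹)) * h := by group
      _ = h⁻¹ * (h * z0 * h⁻¹ * x) * h := by rw [hx]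
      _ = z0 * (h⁻¹ * x * h) := by group
  refine ⟨fun x hx => ?_, fun x hx hq => ?_, fun R hR hRz hRn => ?_⟩
  · have h1 := norm_cj (g := h) (hC.norm _ (key x hx))
    rwa [mem_norm_iff.mp hQ] at h1
  · have h1 := hC.self _ (key x hx) fun q hq' => by
      have := hq _ (conj_mem hQ hq')
      calc h⁻¹ * x * h * q = h⁻¹ * (x * (h * q * h⁻¹)) * h := by group
        _ = h⁻¹ * (h * q * h⁻¹ * x) * h := by rw [this]
        _ = q * (h⁻¹ * x * h) := by group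
    have h2 := conj_mem hQ h1
    rwa [show h * (h⁻¹ * x * h) * h⁻¹ = x by group] at h2
  · have h1 : cj h⁻¹ R ≤ Q := by
      refine hC.max _ (isPGroup_cj hR) (fun r hr => ?_) fun x hx => ?_
      · rw [mem_cj, inv_inv] at hr
        have := key _ (hRz _ hr)
        rwa [show h⁻¹ * (h * r * h⁻¹) * h = r by group] at this
      · refine norm_cj ?_
        refine hRn _ ?_
        rw [inv_inv]
        calc h * x * h⁻¹ * (h * z0 * h⁻¹) = h * (x * z0) * h⁻¹ := by group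
          _ = h * (z0 * x) * h⁻¹ := by rw [hx]
          _ = h * z0 * h⁻¹ * (h * x * h⁻¹) := by group
    have h2 := cj_mono (g := h) h1
    rwa [cj_cj_inv, mem_norm_iff.mp hQ] at h2

end Control

end Data

end Cfsg.Agent.RankTwoClose.UFour

end
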