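import Mathlib
import Cfsg.Agent.Mrg.RankTwoClose.UFour.ModelTorus

section


/-!
Two modules interchanged by `n`, an operator `h` inverted by `n`, everything commuting with an
irreducible commutative set of operators: whatever commutes with the set and with `h` keeps the
modules.
-/

set_option autoImplicit false

namespace Cfsg.Agent.RankTwoClose.UFour.Algebra

variable {M : Type*} [AddCommGroup M]

theorem stable (W W' : AddSubgroup M) (hdis : ∀ m ∈ W, m ∈ W' → m = 0)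
    (hsup : ∀ m : M, ∃ w ∈ W, ∃ w' ∈ W', m = w + w')
    (A : Set (AddMonoid.End M)) (hcomm : ∀ a ∈ A, ∀ b ∈ A, a * b = b * a)
    (hAW : ∀ a ∈ A, ∀ w ∈ W, a w ∈ W) (hAW' : ∀ a ∈ A, ∀ w ∈ W', a w ∈ W')
    (irr : ∀ T : AddSubgroup M, T ≤ W → (∀ a ∈ A, ∀ t ∈ T, a t ∈ T) → (∃ t ∈ T, t ≠ 0) → W ≤ T)
    (h n τ : AddMonoid.End M) (hA : ∀ a ∈ A, a * h = h * a) (nA : ∀ a ∈ A, a * n = n * a)
    (τA : ∀ a ∈ A, a * τ = τ * a) (τh : τ * h = h * τ)
    (hW : ∀ w ∈ W, h w ∈ W) (hW' : ∀ w ∈ W', h w ∈ W')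
    (nsurj : ∀ w' ∈ W', ∃ w ∈ W, n w = w') (ninj : ∀ m, n m = 0 → m = 0)
    (hnh : ∀ m, h (n (h m)) = n m) (hsurj : ∀ w ∈ W, ∃ w₂ ∈ W, h w₂ = w)
    (hh : ∀ w ∈ W, h (h w) = w → w = 0) : ∀ w ∈ W, τ w ∈ W := by
  intro w hw
  by_cases hw0 : w = 0
  · rw [hw0, map_zero]; exact zero_mem _
  -- the subring generated by `A`
  let R : Subring (AddMonoid.End M) := Subring.closure A
  have hRW : ∀ p ∈ R, ∀ w ∈ W, p w ∈ W := by
    intro p hp
    induction hp using Subring.closure_induction with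
    | mem x hx => exact hAW x hx
    | zero => intro w _; simpa using zero_mem W
    | one => intro w hw; simpa using hw
    | add x y _ _ hx hy =>
      intro w hw
      exact add_mem (hx w hw) (hy w hw)
    | neg x _ hx =>
      intro w hw
      exact neg_mem (hx w hw)
    | mul x y _ _ hx hy =>
      intro w hw
      exact hx _ (hy w hw)
  have hRW' : ∀ p ∈ R, ∀ w ∈ W', p w ∈ W' := by
    intro p hp
    induction hp using Subring.closure_induction with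
    | mem x hx => exact hAW' x hx
    | zero => intro w _; simpa using zero_mem W'
    | one => intro w hw; simpa using hw
    | add x y _ _ hx hy =>
      intro w hw
      exact add_mem (hx w hw) (hy w hw)
    | neg x _ hx =>
      intro w hw
      exact neg_mem (hx w hw)
    | mul x y _ _ hx hy =>
      intro w hw
      exact hx _ (hy w hw)
  have hRc : ∀ g : AddMonoid.End M, (∀ a ∈ A, a * g = g * a) → ∀ p ∈ R, p * g = g * p := by
    intro g hg p hp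
    induction hp using Subring.closure_induction with
    | mem x hx => exact hg x hx
    | zero => rw [zero_mul, mul_zero]
    | one => rw [one_mul, mul_one]
    | add x y _ _ hx hy => rw [add_mul, mul_add, hx, hy]
    | neg x _ hx => rw [neg_mul, mul_neg, hx]
    | mul x y _ _ hx hy => rw [mul_assoc, hy, ← mul_assoc, hx, mul_assoc]
  have hRR : ∀ p ∈ R, ∀ g ∈ R, g * p = p * g := by
    intro p hp g hg
    exact hRc p (fun a ha => (hRc a (fun b hb => hcomm b hb a ha) p hp).symm) g hg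
  -- the cyclic module
  let T : AddSubgroup M :=
    { carrier := {m | ∃ p ∈ R, p w = m}
      zero_mem' := ⟨0, zero_mem _, rfl⟩
      add_mem' := by
        rintro _ _ ⟨p, hp, rfl⟩ ⟨q, hq, rfl⟩
        exact ⟨p + q, add_mem hp hq, rfl⟩
      neg_mem' := by
        rintro _ ⟨p, hp, rfl⟩
        exact ⟨-p, neg_mem hp, rfl⟩ }
  have hT : ∀ {m}, m ∈ T ↔ ∃ p ∈ R, p w = m := fun {m} => Iff.rfl
  have hWT : W ≤ T := by
    refine irr T ?_ ?_ ⟨w, hT.mpr ⟨1, one_mem _, rfl⟩, hw0⟩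
    · rintro m hm
      obtain ⟨p, hp, rfl⟩ := hT.mp hm
      exact hRW p hp w hw
    · intro a ha t ht
      obtain ⟨p, hp, rfl⟩ := hT.mp ht
      exact hT.mpr ⟨a * p, mul_mem (Subring.subset_closure ha) hp, rfl⟩
  obtain ⟨p, hp, hpw⟩ := hT.mp (hWT (hW w hw))
  -- `p = h` on `W`
  have hph : ∀ v ∈ W, p v = h v := by
    intro v hv
    obtain ⟨q, hq, rfl⟩ := hT.mp (hWT hv)
    have h1 : p (q w) = q (p w) := congrArg (fun f : AddMonoid.End M => f w) (hRR q hq p hp)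
    have h2 : h (q w) = q (h w) :=
      (congrArg (fun f : AddMonoid.End M => f w) (hRc h hA q hq)).symm
    rw [h1, h2, hpw]
  -- the image of `w`
  obtain ⟨u, hu, u', hu', huu⟩ := hsup (τ w)
  have h1 : p (τ w) = h (τ w) := by
    have e1 : p (τ w) = τ (p w) :=
      congrArg (fun f : AddMonoid.End M => f w) (hRc τ τA p hp)
    have e2 : τ (h w) = h (τ w) := congrArg (fun f : AddMonoid.End M => f w) τh
    rw [e1, hpw, e2]
  have h2 : p u' = h u' := by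
    rw [huu, map_add, map_add] at h1
    have h3 : p u' - h u' ∈ W' := sub_mem (hRW' p hp u' hu') (hW' u' hu')
    have h4 : p u' - h u' = h u - p u := by
      rw [sub_eq_sub_iff_add_eq_add, add_comm (p u'), add_comm (h u)]
      rw [h1]; abel
    have h5 : p u' - h u' ∈ W := by rw [h4]; exact sub_mem (hW u hu) (hRW p hp u hu)
    exact sub_eq_zero.mp (hdis _ h5 h3)
  obtain ⟨w1, hw1, hnw1⟩ := nsurj u' hu'
  obtain ⟨w2, hw2, hhw2⟩ := hsurj w1 hw1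
  have h3 : h u' = n w2 := by rw [← hnw1, ← hhw2]; exact hnh w2
  have h4 : p u' = n (h (h w2)) := by
    rw [← hnw1]
    have e1 : p (n w1) = n (p w1) := congrArg (fun f : AddMonoid.End M => f w1) (hRc n nA p hp)
    rw [e1, hph w1 hw1, ← hhw2]
  have h5 : n (h (h w2) - w2) = 0 := by rw [map_sub, ← h4, ← h3, h2, sub_self]
  have h6 : w2 = 0 := hh w2 hw2 (sub_eq_zero.mp (ninj _ h5))
  have h7 : u' = 0 := by rw [← hnw1, ← hhw2, h6, map_zero, map_zero]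
  rw [huu, h7, add_zero]
  exact hu

end Cfsg.Agent.RankTwoClose.UFour.Algebra

end

section


/-!
Type `U4(q)`: a `2`-element of `C_G(z) ∩ C_G(A0 H2)` lies in `Z`.
-/

set_option autoImplicit false
set_option linter.unusedSectionVars false

namespace Cfsg.Agent.RankTwoClose.UFour

variable {G : Type*} [Group G]

section Act

variable (Q Z : Subgroup G)

/-- Conjugation on `Q/Z`. -/
def act [(Z.subgroupOf Q).Normal] (g : G) (hQ : g ∈ Subgroup.normalizer (Q : Set G))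
    (hZ : g ∈ Subgroup.normalizer (Z : Set G)) :
    (Q ⧸ Z.subgroupOf Q) →* (Q ⧸ Z.subgroupOf Q) :=
  QuotientGroup.map _ _
    { toFun := fun x => ⟨g * x * g⁻¹, conj_mem hQ x.2⟩
      map_one' := Subtype.ext (by simp)
      map_mul' := fun x y => Subtype.ext (by simp) }
    (by
      rintro ⟨x, hx⟩ hxZ
      rw [Subgroup.mem_subgroupOf] at hxZ
      rw [Subgroup.mem_comap, Subgroup.mem_subgroupOf]
      exact conj_mem hZ hxZ)

/-- The class of `a` in `Q/Z`. -/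
def mk [(Z.subgroupOf Q).Normal] (a : G) (ha : a ∈ Q) : Q ⧸ Z.subgroupOf Q :=
  QuotientGroup.mk (⟨a, ha⟩ : Q)

variable {Q Z}

theorem act_mk [(Z.subgroupOf Q).Normal] {g : G} {hQ : g ∈ Subgroup.normalizer (Q : Set G)}
    {hZ : g ∈ Subgroup.normalizer (Z : Set G)} {a : G} {ha : a ∈ Q} :
    act Q Z g hQ hZ (mk Q Z a ha) = mk Q Z (g * a * g⁻¹) (conj_mem hQ ha) := rfl

theorem mk_eq_mk [(Z.subgroupOf Q).Normal] {a b : G} {ha : a ∈ Q} {hb : b ∈ Q} :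
    mk Q Z a ha = mk Q Z b hb ↔ a⁻¹ * b ∈ Z := by
  unfold mk
  rw [QuotientGroup.eq, Subgroup.mem_subgroupOf]
  rfl

theorem mk_eq_one [(Z.subgroupOf Q).Normal] {a : G} {ha : a ∈ Q} :
    mk Q Z a ha = 1 ↔ a ∈ Z := by
  unfold mk
  rw [QuotientGroup.eq_one_iff, Subgroup.mem_subgroupOf]

theorem mk_congr [(Z.subgroupOf Q).Normal] {a b : G} {ha : a ∈ Q} {hb : b ∈ Q} (h : a = b) :
    mk Q Z a ha = mk Q Z b hb := by
  subst h; rfl

theorem mk_mul [(Z.subgroupOf Q).Normal] {a b : G} {ha : a ∈ Q} {hb : b ∈ Q} :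
    mk Q Z (a * b) (mul_mem ha hb) = mk Q Z a ha * mk Q Z b hb := rfl

theorem exists_mk [(Z.subgroupOf Q).Normal] (m : Q ⧸ Z.subgroupOf Q) :
    ∃ (a : G) (ha : a ∈ Q), m = mk Q Z a ha := by
  obtain ⟨⟨a, ha⟩, rfl⟩ := QuotientGroup.mk_surjective m
  exact ⟨a, ha, rfl⟩

end Act

/-- An element of odd order fixing `y` modulo a central elementary `2`-group fixes `y`. -/
theorem comm_of_odd {H : Subgroup G} (hH : Odd (Nat.card H)) {h y z : G} (hh : h ∈ H)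
    (hz : h * y * h⁻¹ = z * y) (hhz : h * z = z * h) (hzz : z * z = 1) : h * y = y * h := by
  have key : ∀ n : ℕ, h ^ n * y * (h ^ n)⁻¹ = z ^ n * y := by
    intro n
    induction n with
    | zero => simp
    | succ n ih =>
      have hc : h ^ n * z = z * h ^ n := by
        have : Commute h z := hhz
        exact (this.pow_left n)
      calc h ^ (n + 1) * y * (h ^ (n + 1))⁻¹ = h ^ n * (h * y * h⁻¹) * (h ^ n)⁻¹ := by
            rw [pow_succ]; group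
        _ = h ^ n * z * y * (h ^ n)⁻¹ := by rw [hz]; group
        _ = z * (h ^ n * y * (h ^ n)⁻¹) := by rw [hc]; group
        _ = z ^ (n + 1) * y := by rw [ih, pow_succ']; group
  obtain ⟨m, hm⟩ := hH
  have h1 : h ^ (2 * m + 1) = 1 := by
    rw [← hm]
    exact congrArg Subtype.val (pow_card_eq_one' (x := (⟨h, hh⟩ : H)))
  have h2 := key (2 * m + 1)
  rw [h1] at h2
  have h3 : z ^ (2 * m + 1) = z := by
    rw [pow_succ, pow_mul, pow_two, hzz, one_pow, one_mul]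
  rw [h3] at h2
  have h4 : z = 1 := by
    have h5 : y = z * y := by simpa using h2
    exact (right_eq_mul.mp h5)
  calc h * y = (h * y * h⁻¹) * h := by group
    _ = y * h := by rw [hz, h4, one_mul]

/-- A `2`-element commuting with `A0` is trivial on an `A0`-irreducible elementary section. -/
theorem trivial_of_comm {A Z Y : Subgroup G} (hYY : ∀ y ∈ Y, ∀ y' ∈ Y, y * y' = y' * y)
    (hsq : ∀ y ∈ Y, y * y = 1)
    (hZY : Z ≤ Y) (hAZ : A ≤ Subgroup.normalizer (Z : Set G))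
    (hAY : A ≤ Subgroup.normalizer (Y : Set G))
    (irr : ∀ R : Subgroup G, Z ≤ R → R ≤ Y → A ≤ Subgroup.normalizer (R : Set G) → R = Z ∨ R = Y) :
    ∀ (k : ℕ) (τ : G), τ ^ 2 ^ k = 1 → (∀ a ∈ A, τ * a = a * τ) →
      τ ∈ Subgroup.normalizer (Z : Set G) → τ ∈ Subgroup.normalizer (Y : Set G) →
      ∀ y ∈ Y, τ * y * τ⁻¹ * y⁻¹ ∈ Z := by
  intro k
  induction k with
  | zero =>
    intro τ hτ _ _ _ y _
    rw [pow_zero, pow_one] at hτ
    rw [hτ, show (1 : G) * y * 1⁻¹ * y⁻¹ = 1 by group]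
    exact one_mem _
  | succ k ih =>
    intro τ hτ hA hZ hY
    have h2 : ∀ y ∈ Y, τ * τ * y * (τ * τ)⁻¹ * y⁻¹ ∈ Z := by
      refine ih (τ * τ) ?_ (fun a ha => ?_) (mul_mem hZ hZ) (mul_mem hY hY)
      · rw [← pow_two, ← pow_mul, ← pow_succ']; exact hτ
      · rw [mul_assoc, hA a ha, ← mul_assoc, hA a ha, mul_assoc]
    have hYZ : Y ≤ Subgroup.normalizer (Z : Set G) := by
      refine le_normalizer_of fun y hy x hx => ?_
      rw [mem_cj] at hx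
      have hx' : x = y⁻¹ * x * y := by
        have e := hYY _ (hZY hx) y hy
        calc x = y * (y⁻¹ * x * y) * y⁻¹ := by group
          _ = (y⁻¹ * x * y) * y * y⁻¹ := by rw [e]
          _ = y⁻¹ * x * y := by group
      rw [hx']; exact hx
    let T : Subgroup G :=
      { carrier := {y | y ∈ Y ∧ τ * y * τ⁻¹ * y⁻¹ ∈ Z}
        one_mem' := ⟨one_mem _, by rw [show τ * 1 * τ⁻¹ * 1⁻¹ = 1 by group]; exact one_mem _⟩
        mul_mem' := by
          rintro a b ⟨ha, ha2⟩ ⟨hb, hb2⟩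
          refine ⟨mul_mem ha hb, ?_⟩
          have e : τ * (a * b) * τ⁻¹ * (a * b)⁻¹ =
            (τ * a * τ⁻¹ * a⁻¹) * (a * (τ * b * τ⁻¹ * b⁻¹) * a⁻¹) := by group
          rw [e]
          exact mul_mem ha2 (conj_mem (hYZ ha) hb2)
        inv_mem' := by
          rintro a ⟨ha, ha2⟩
          refine ⟨inv_mem ha, ?_⟩
          have h1 := inv_mem ha2
          have h2 := conj_mem' (hYZ ha) h1
          rwa [show a⁻¹ * (τ * a * τ⁻¹ * a⁻¹)⁻¹ * a = τ * a⁻¹ * τ⁻¹ * a⁻¹⁻¹ by group] at h2 }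
    have hT : ∀ {y}, y ∈ T ↔ y ∈ Y ∧ τ * y * τ⁻¹ * y⁻¹ ∈ Z := fun {y} => Iff.rfl
    have hAT : A ≤ Subgroup.normalizer (T : Set G) := by
      refine le_normalizer_of fun a ha x hx => ?_
      rw [mem_cj] at hx
      obtain ⟨hx1, hx2⟩ := hT.mp hx
      refine hT.mpr ⟨?_, ?_⟩
      · have := conj_mem (hAY ha) hx1
        rwa [show a * (a⁻¹ * x * a) * a⁻¹ = x by group] at this
      · have h3 := conj_mem (hAZ ha) hx2
        have e : a * (τ * (a⁻¹ * x * a) * τ⁻¹ * (a⁻¹ * x * a)⁻¹) * a⁻¹ =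
            (a * τ * a⁻¹) * x * (a * τ * a⁻¹)⁻¹ * x⁻¹ := by group
        rw [e, show a * τ * a⁻¹ = τ by rw [← hA a ha]; group] at h3
        exact h3
    rcases irr T (fun x hx => hT.mpr ⟨hZY hx, mul_mem (conj_mem hZ hx) (inv_mem hx)⟩)
      (fun x hx => (hT.mp hx).1) hAT with h | h
    · -- `T = Z`: contradiction unless `Y = Z`
      intro y hy
      have h3 : (τ * y * τ⁻¹) * y ∈ T := by
        refine hT.mpr ⟨mul_mem (conj_mem hY hy) hy, ?_⟩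
        have h4 := h2 y hy
        set w := τ * τ * y * (τ * τ)⁻¹ * y⁻¹ with hw
        have e1 : τ * τ * y * (τ * τ)⁻¹ = w * y := by rw [hw]; group
        have hwY : w ∈ Y := hZY h4
        have hyy := hYY y hy (τ * y * τ⁻¹) (conj_mem hY hy)
        have e : τ * (τ * y * τ⁻¹ * y) * τ⁻¹ * (τ * y * τ⁻¹ * y)⁻¹ =
            (τ * τ * y * (τ * τ)⁻¹) * (τ * y * τ⁻¹) * (τ * y * τ⁻¹ * y)⁻¹ := by group
        rw [e, e1, ← hyy, show w * y * (τ * y * τ⁻¹) * (y * (τ * y * τ⁻¹))⁻¹ = w by group]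
        exact h4
      rw [h] at h3
      have e : τ * y * τ⁻¹ * y⁻¹ = τ * y * τ⁻¹ * y := by
        rw [inv_eq_of_mul_eq_one_left (hsq y hy)]
      rw [e]; exact h3
    · intro y hy
      rw [← h] at hy
      exact (hT.mp hy).2

namespace Data

variable {S V U Z Y L1 L2 Q H A0 : Subgroup G} {n1 n2 : G}

section Torus

variable (D : Data S V U Z Y L1 L2 Q H A0 n1 n2)
include D

theorem ZQ : Z ≤ Q := D.ZY.trans D.YQ

theorem QZ : Q ≤ Subgroup.normalizer (Z : Set G) := by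
  refine le_normalizer_of fun q hq x hx => ?_
  rw [mem_cj] at hx
  have h1 := D.zu hx (D.QU hq)
  have h2 : x = q⁻¹ * x * q := by
    calc x = q * (q⁻¹ * x * q) * q⁻¹ := by group
      _ = (q⁻¹ * x * q) * q * q⁻¹ := by rw [h1]
      _ = q⁻¹ * x * q := by group
  rw [h2]; exact hx

theorem normalZ : (Z.subgroupOf Q).Normal := by
  rw [Subgroup.normal_subgroupOf_iff_le_normalizer D.ZQ]
  exact D.QZ

theorem n2Z : n2 ∈ Subgroup.normalizer (Z : Set G) := mem_norm_iff.mpr (D.cj_Z_of_L2 D.P2.nL)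

theorem conjY' {y : G} (hy : y ∈ Y) : n2 * y * n2⁻¹ ∈ cj n2 Y := conj_mem_cj hy

theorem HY' {h : G} (hh : h ∈ H) : h ∈ Subgroup.normalizer ((cj n2 Y : Subgroup G) : Set G) :=
  norm_cj (D.HY (conj_mem' (mem_norm_iff.mpr D.n2H) hh))

theorem n2h {h : G} (hh : h ∈ H ⊓ L2) : h * n2 * h = n2 := by
  have h1 := D.H2inv h hh
  calc h * n2 * h = h * (n2 * h * n2⁻¹) * n2 := by group
    _ = n2 := by rw [h1]; group

variable [Finite G]

/-- `h² ` is fixed point free on `Y/Z` for `1 ≠ h ∈ H2`. -/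
theorem free {h : G} (hh : h ∈ H ⊓ L2) (hh1 : h ≠ 1) {y : G} (hy : y ∈ Y)
    (hf : h * h * y * (h * h)⁻¹ * y⁻¹ ∈ Z) : y ∈ Z := by
  have hhH := (Subgroup.mem_inf.mp hh).1
  have hhL := (Subgroup.mem_inf.mp hh).2
  have hk : h * h ∈ H ⊓ L2 := mul_mem hh hh
  set k := h * h with hkdef
  have hkH := (Subgroup.mem_inf.mp hk).1
  have hkL := (Subgroup.mem_inf.mp hk).2
  let T : Subgroup G :=
    { carrier := {y | y ∈ Y ∧ k * y * k⁻¹ * y⁻¹ ∈ Z}
      one_mem' := ⟨one_mem _, by rw [show k * 1 * k⁻¹ * 1⁻¹ = 1 by group]; exact one_mem _⟩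
      mul_mem' := by
        rintro a b ⟨ha, ha2⟩ ⟨hb, hb2⟩
        refine ⟨mul_mem ha hb, ?_⟩
        have e : k * (a * b) * k⁻¹ * (a * b)⁻¹ =
          (k * a * k⁻¹ * a⁻¹) * (a * (k * b * k⁻¹ * b⁻¹) * a⁻¹) := by group
        rw [e]
        exact mul_mem ha2 (conj_mem (D.QZ (D.YQ ha)) hb2)
      inv_mem' := by
        rintro a ⟨ha, ha2⟩
        refine ⟨inv_mem ha, ?_⟩
        have h1 := inv_mem ha2
        have h2 := conj_mem' (D.QZ (D.YQ ha)) h1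
        rwa [show a⁻¹ * (k * a * k⁻¹ * a⁻¹)⁻¹ * a = k * a⁻¹ * k⁻¹ * a⁻¹⁻¹ by group] at h2 }
  have hT : ∀ {y}, y ∈ T ↔ y ∈ Y ∧ k * y * k⁻¹ * y⁻¹ ∈ Z := fun {y} => Iff.rfl
  have hAT : A0 ≤ Subgroup.normalizer (T : Set G) := by
    refine le_normalizer_of fun a ha x hx => ?_
    rw [mem_cj] at hx
    obtain ⟨hx1, hx2⟩ := hT.mp hx
    refine hT.mpr ⟨?_, ?_⟩
    · have := conj_mem (D.HY (D.AH ha)) hx1
      rwa [show a * (a⁻¹ * x * a) * a⁻¹ = x by group] at this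
    · have h3 := conj_mem (D.HZ (D.AH ha)) hx2
      have e : a * (k * (a⁻¹ * x * a) * k⁻¹ * (a⁻¹ * x * a)⁻¹) * a⁻¹ =
          (a * k * a⁻¹) * x * (a * k * a⁻¹)⁻¹ * x⁻¹ := by group
      rw [e, show a * k * a⁻¹ = k by rw [D.h2A ha hk]; group] at h3
      exact h3
  rcases D.irrY T (fun x hx => hT.mpr ⟨D.ZY hx,
      mul_mem (conj_mem (D.HZ hkH) hx) (inv_mem hx)⟩)
    (fun x hx => (hT.mp hx).1) hAT with h1 | h1
  · rw [← h1]; exact hT.mpr ⟨hy, hf⟩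
  · exfalso
    have h2 : ∀ y ∈ Y, k * y * k⁻¹ * y⁻¹ ∈ Z := fun y hy => (hT.mp (h1 ▸ hy)).2
    have h3 : ∀ y ∈ cj n2 Y, k * y * k⁻¹ * y⁻¹ ∈ Z := by
      intro y hy
      rw [mem_cj] at hy
      have h4 := h2 _ hy
      have h5 : n2⁻¹ * k * n2 = k⁻¹ := by
        have := D.n2h hk
        calc n2⁻¹ * k * n2 = n2⁻¹ * (k * n2 * k) * k⁻¹ := by group
          _ = k⁻¹ := by rw [this]; group
      -- use `k⁻¹`
      have h6 : k⁻¹ * (n2⁻¹ * y * n2) * k⁻¹⁻¹ * (n2⁻¹ * y * n2)⁻¹ ∈ Z := by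
        have h7 := conj_mem' (D.HZ hkH) (inv_mem h4)
        rwa [show k⁻¹ * (k * (n2⁻¹ * y * n2) * k⁻¹ * (n2⁻¹ * y * n2)⁻¹)⁻¹ * k =
          k⁻¹ * (n2⁻¹ * y * n2) * k⁻¹⁻¹ * (n2⁻¹ * y * n2)⁻¹ by group] at h7
      have h8 := conj_mem D.n2Z h6
      have e : n2 * (k⁻¹ * (n2⁻¹ * y * n2) * k⁻¹⁻¹ * (n2⁻¹ * y * n2)⁻¹) * n2⁻¹ =
          (n2 * k⁻¹ * n2⁻¹) * y * (n2 * k⁻¹ * n2⁻¹)⁻¹ * y⁻¹ := by group
      rw [e, show n2 * k⁻¹ * n2⁻¹ = k by rw [← h5]; group] at h8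
      exact h8
    have h4 : ∀ q ∈ Q, k * q * k⁻¹ * q⁻¹ ∈ Z := by
      intro q hq
      obtain ⟨y', hy', y, hy, rfl⟩ := D.exists_yy hq
      have e : k * (y' * y) * k⁻¹ * (y' * y)⁻¹ =
          (k * y' * k⁻¹ * y'⁻¹) * (y' * (k * y * k⁻¹ * y⁻¹) * y'⁻¹) := by group
      rw [e]
      exact mul_mem (h3 y' hy') (conj_mem (D.QZ (D.Y'Q hy')) (h2 y hy))
    have h5 : k ∈ Q := D.cQ k hkL fun q hq => by
      have h6 := h4 q hq
      refine comm_of_odd D.odd hkH (z := k * q * k⁻¹ * q⁻¹) (by group)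
        (D.ZL2 _ h6 k hkL).symm (D.sqV _ (D.ZV h6))
    have h6 : k = 1 := D.hQ1 hkH h5
    -- `h * h = 1`, `h` odd
    apply hh1
    obtain ⟨m, hm⟩ := D.odd
    have h7 : h ^ (2 * m + 1) = 1 := by
      rw [← hm]
      exact congrArg Subtype.val (pow_card_eq_one' (x := (⟨h, hhH⟩ : H)))
    rwa [pow_succ, pow_mul, pow_two, ← hkdef, h6, one_pow, one_mul] at h7

/-- Whatever commutes with `A0` and `H2` normalises `Y`. -/
theorem stableY {h : G} (hh : h ∈ H ⊓ L2) (hh1 : h ≠ 1) {τ : G}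
    (hQ : τ ∈ Subgroup.normalizer (Q : Set G)) (hZ : τ ∈ Subgroup.normalizer (Z : Set G))
    (hτA : ∀ a ∈ A0, τ * a = a * τ) (hτh : τ * h = h * τ) : ∀ y ∈ Y, τ * y * τ⁻¹ ∈ Y := by
  have hN : (Z.subgroupOf Q).Normal := D.normalZ
  let _ : CommGroup (Q ⧸ Z.subgroupOf Q) :=
    { QuotientGroup.Quotient.group (Z.subgroupOf Q) with
      mul_comm := by
        intro a b
        obtain ⟨x, hx, rfl⟩ := exists_mk a
        obtain ⟨y, hy, rfl⟩ := exists_mk b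
        rw [← mk_mul, ← mk_mul, mk_eq_mk]
        have h1 := D.QQ (inv_mem hy) (inv_mem hx)
        rwa [show y⁻¹ * x⁻¹ * y⁻¹⁻¹ * x⁻¹⁻¹ = (x * y)⁻¹ * (y * x) by group] at h1 }
  have hhH := (Subgroup.mem_inf.mp hh).1
  have hhL := (Subgroup.mem_inf.mp hh).2
  set M := Additive (Q ⧸ Z.subgroupOf Q) with hM
  -- operators
  let E : ∀ g : G, g ∈ Subgroup.normalizer (Q : Set G) → g ∈ Subgroup.normalizer (Z : Set G) →
      AddMonoid.End M := fun g h1 h2 => MonoidHom.toAdditive (act Q Z g h1 h2)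
  let c : ∀ a : G, a ∈ Q → M := fun a ha => Additive.ofMul (UFour.mk Q Z a ha)
  have hE : ∀ g h1 h2 a ha, E g h1 h2 (c a ha) = c (g * a * g⁻¹) (conj_mem h1 ha) :=
    fun _ _ _ _ _ => rfl
  have hc0 : ∀ a ha, c a ha = 0 ↔ a ∈ Z := fun a ha => mk_eq_one
  have hcc : ∀ a ha b hb, c a ha = c b hb ↔ a⁻¹ * b ∈ Z := fun a ha b hb => mk_eq_mk
  have hcongr : ∀ a ha b hb, a = b → c a ha = c b hb := fun a ha b hb hab => mk_congr hab
  have hcadd : ∀ a ha b hb, c (a * b) (mul_mem ha hb) = c a ha + c b hb := fun _ _ _ _ => rfl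
  have hex : ∀ m : M, ∃ a ha, m = c a ha := fun m => exists_mk m
  have hEE : ∀ g g' h1 h2 h1' h2', g * g' = g' * g →
      E g h1 h2 * E g' h1' h2' = E g' h1' h2' * E g h1 h2 := by
    intro g g' h1 h2 h1' h2' hgg
    ext m
    obtain ⟨a, ha, rfl⟩ := hex m
    show c (g * (g' * a * g'⁻¹) * g⁻¹) _ = c (g' * (g * a * g⁻¹) * g'⁻¹) _
    refine hcongr _ _ _ _ ?_
    calc g * (g' * a * g'⁻¹) * g⁻¹ = (g * g') * a * (g * g')⁻¹ := by group
      _ = (g' * g) * a * (g' * g)⁻¹ := by rw [hgg]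
      _ = g' * (g * a * g⁻¹) * g'⁻¹ := by group
  let sub : ∀ X : Subgroup G, X ≤ Q → AddSubgroup M := fun X hX =>
    { carrier := {m | ∃ (x : G) (hx : x ∈ X), m = c x (hX hx)}
      zero_mem' := ⟨1, one_mem _, ((hc0 1 _).mpr (one_mem _)).symm⟩
      add_mem' := by
        rintro _ _ ⟨x, hx, rfl⟩ ⟨y, hy, rfl⟩
        exact ⟨x * y, mul_mem hx hy, (hcadd x _ y _).symm⟩
      neg_mem' := by
        rintro _ ⟨x, hx, rfl⟩
        exact ⟨x⁻¹, inv_mem hx, rfl⟩ }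
  have hsub : ∀ X hX m, m ∈ sub X hX ↔ ∃ (x : G) (hx : x ∈ X), m = c x (hX hx) :=
    fun _ _ _ => Iff.rfl
  have hstab : ∀ (X : Subgroup G) hX g h1 h2, g ∈ Subgroup.normalizer (X : Set G) →
      ∀ m ∈ sub X hX, E g h1 h2 m ∈ sub X hX := by
    rintro X hX g h1 h2 hg m ⟨x, hx, rfl⟩
    exact ⟨g * x * g⁻¹, conj_mem hg hx, rfl⟩
  let A : Set (AddMonoid.End M) :=
    {f | ∃ (a : G) (ha : a ∈ A0), f = E a (D.HQ (D.AH ha)) (D.HZ (D.AH ha))}
  have hA' : ∀ f, f ∈ A ↔ ∃ (a : G) (ha : a ∈ A0), f = E a (D.HQ (D.AH ha)) (D.HZ (D.AH ha)) :=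
    fun _ => Iff.rfl
  have hn2n2 : n2 * n2⁻¹ = 1 := by group
  have key := Algebra.stable (sub Y D.YQ) (sub (cj n2 Y) D.Y'Q)
    (by
      rintro m ⟨x, hx, rfl⟩ ⟨x', hx', h1⟩
      rw [hc0]
      rw [hcc] at h1
      have h2 : x' ∈ Y := by
        have := mul_mem hx (D.ZY h1)
        rwa [mul_inv_cancel_left] at this
      have h3 : x' ∈ Z := by rw [← D.YY'_inf]; exact ⟨h2, hx'⟩
      have h4 := mul_mem h3 (inv_mem h1)
      rwa [show x' * (x⁻¹ * x')⁻¹ = x by group] at h4)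
    (by
      intro m
      obtain ⟨a, ha, rfl⟩ := hex m
      obtain ⟨y', hy', y, hy, rfl⟩ := D.exists_yy ha
      refine ⟨c y (D.YQ hy), ⟨y, hy, rfl⟩, c y' (D.Y'Q hy'), ⟨y', hy', rfl⟩, ?_⟩
      rw [add_comm, ← hcadd])
    A
    (by
      rintro f ⟨a, ha, rfl⟩ g ⟨b, hb, rfl⟩
      exact hEE _ _ _ _ _ _ (D.Acomm a ha b hb))
    (by
      rintro f ⟨a, ha, rfl⟩ w hw
      exact hstab _ _ _ _ _ (D.HY (D.AH ha)) w hw)
    (by
      rintro f ⟨a, ha, rfl⟩ w hw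
      exact hstab _ _ _ _ _ (D.AY' ha) w hw)
    (by
      intro T hTW hTA ⟨t, ht, ht0⟩
      let T' : Subgroup G :=
        { carrier := {x | ∃ hx : x ∈ Q, c x hx ∈ T}
          one_mem' := ⟨one_mem _, by rw [(hc0 1 _).mpr (one_mem _)]; exact zero_mem _⟩
          mul_mem' := by
            rintro a b ⟨ha, ha'⟩ ⟨hb, hb'⟩
            exact ⟨mul_mem ha hb, by rw [hcadd a ha b hb]; exact add_mem ha' hb'⟩
          inv_mem' := by
            rintro a ⟨ha, ha'⟩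
            exact ⟨inv_mem ha, neg_mem ha'⟩ }
      have hT' : ∀ {x}, x ∈ T' ↔ ∃ hx : x ∈ Q, c x hx ∈ T := fun {x} => Iff.rfl
      have hZT : Z ≤ T' := fun z hz => hT'.mpr ⟨D.ZQ hz, by
        rw [(hc0 z _).mpr hz]; exact zero_mem _⟩
      have hTY : T' ≤ Y := by
        intro x hx
        obtain ⟨hxQ, hxT⟩ := hT'.mp hx
        obtain ⟨y, hy, hxy⟩ := hTW hxT
        rw [hcc] at hxy
        have := mul_mem hy (inv_mem (D.ZY hxy))
        rwa [show y * (x⁻¹ * y)⁻¹ = x by group] at this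
      have hTn : A0 ≤ Subgroup.normalizer (T' : Set G) := by
        refine le_normalizer_of fun a ha x hx => ?_
        rw [mem_cj] at hx
        obtain ⟨hxQ, hxT⟩ := hT'.mp hx
        have h1 := hTA _ ⟨a, ha, rfl⟩ _ hxT
        have h2 : a * (a⁻¹ * x * a) * a⁻¹ = x := by group
        have h3 : x ∈ Q := by
          have := conj_mem (D.HQ (D.AH ha)) hxQ
          rwa [h2] at this
        refine hT'.mpr ⟨h3, ?_⟩
        rw [hE, hcongr _ _ x h3 h2] at h1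
        exact h1
      rcases D.irrY T' hZT hTY hTn with h | h
      · exfalso
        obtain ⟨y, hy, rfl⟩ := hTW ht
        have h1 : y ∈ T' := hT'.mpr ⟨D.YQ hy, ht⟩
        rw [h] at h1
        exact ht0 ((hc0 _ _).mpr h1)
      · rintro m ⟨y, hy, rfl⟩
        rw [← h] at hy
        exact (hT'.mp hy).2)
    (E h (D.HQ hhH) (D.HZ hhH)) (E n2 D.n2Q D.n2Z) (E τ hQ hZ)
    (by
      rintro f ⟨a, ha, rfl⟩
      exact hEE _ _ _ _ _ _ (D.h2A ha hh))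
    (by
      rintro f ⟨a, ha, rfl⟩
      exact hEE _ _ _ _ _ _ (D.n2A ha))
    (by
      rintro f ⟨a, ha, rfl⟩
      exact hEE _ _ _ _ _ _ (hτA a ha).symm)
    (hEE _ _ _ _ _ _ hτh)
    (fun w hw => hstab _ _ _ _ _ (D.HY hhH) w hw)
    (fun w hw => hstab _ _ _ _ _ (D.HY' hhH) w hw)
    (by
      rintro m ⟨x, hx, rfl⟩
      rw [mem_cj] at hx
      refine ⟨c (n2⁻¹ * x * n2) (D.YQ hx), ⟨_, hx, rfl⟩, ?_⟩
      rw [hE]
      exact hcongr _ _ _ _ (by group))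
    (by
      intro m hm
      obtain ⟨a, ha, rfl⟩ := hex m
      rw [hE, hc0] at hm
      rw [hc0]
      have := conj_mem' D.n2Z hm
      rwa [show n2⁻¹ * (n2 * a * n2⁻¹) * n2 = a by group] at this)
    (by
      intro m
      obtain ⟨a, ha, rfl⟩ := hex m
      rw [hE, hE, hE, hE]
      refine hcongr _ _ _ _ ?_
      calc h * (n2 * (h * a * h⁻¹) * n2⁻¹) * h⁻¹ = (h * n2 * h) * a * (h * n2 * h)⁻¹ := by group
        _ = n2 * a * n2⁻¹ := by rw [D.n2h hh])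
    (by
      rintro m ⟨x, hx, rfl⟩
      refine ⟨c (h⁻¹ * x * h) (D.YQ (conj_mem' (D.HY hhH) hx)), ⟨_, conj_mem' (D.HY hhH) hx, rfl⟩, ?_⟩
      rw [hE]
      exact hcongr _ _ _ _ (by group))
    (by
      rintro m ⟨x, hx, rfl⟩ hm
      rw [hE, hE, hcc] at hm
      rw [hc0]
      have h2 := inv_mem hm
      have h3 := conj_mem (D.QZ (D.YQ hx)) h2
      have e : x * ((h * (h * x * h⁻¹) * h⁻¹)⁻¹ * x)⁻¹ * x⁻¹ = h * h * x * (h * h)⁻¹ * x⁻¹ := by
        simp only [mul_inv_rev, inv_inv, mul_assoc, mul_inv_cancel_left]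
      rw [e] at h3
      exact D.free hh hh1 hx h3)
  intro y hy
  obtain ⟨y2, hy2, h1⟩ := key (c y (D.YQ hy)) ⟨y, hy, rfl⟩
  rw [hE, hcc] at h1
  have h2 := mul_mem hy2 (inv_mem (D.ZY h1))
  rwa [show y2 * ((τ * y * τ⁻¹)⁻¹ * y2)⁻¹ = τ * y * τ⁻¹ by group] at h2

/-- `τ` as above normalises `Y`. -/
theorem normY_of {h : G} (hh : h ∈ H ⊓ L2) (hh1 : h ≠ 1) {τ : G}
    (hQ : τ ∈ Subgroup.normalizer (Q : Set G)) (hZ : τ ∈ Subgroup.normalizer (Z : Set G))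
    (hτA : ∀ a ∈ A0, τ * a = a * τ) (hτh : τ * h = h * τ) :
    τ ∈ Subgroup.normalizer (Y : Set G) := by
  have h1 : cj τ Y ≤ Y := by
    intro x hx
    rw [mem_cj] at hx
    have := D.stableY hh hh1 hQ hZ hτA hτh _ hx
    rwa [show τ * (τ⁻¹ * x * τ) * τ⁻¹ = x by group] at this
  rw [mem_norm_iff]
  exact Subgroup.eq_of_le_of_card_ge h1 (le_of_eq (card_cj _ _).symm)

/-- `C_Q(A0) = Z`. -/
theorem cQA {τ : G} (hτQ : τ ∈ Q) (hτA : ∀ a ∈ A0, τ * a = a * τ) : τ ∈ Z := by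
  obtain ⟨y', hy', y, hy, he⟩ := D.exists_yy hτQ
  have hcomp : ∀ a ∈ A0, a * y * a⁻¹ * y⁻¹ ∈ Z ∧ a * y' * a⁻¹ * y'⁻¹ ∈ Z := by
    intro a ha
    have h1 : a * (y' * y) * a⁻¹ = y' * y := by
      rw [← he, ← hτA a ha]; group
    have h2 : (a * y' * a⁻¹) * (a * y * a⁻¹) = y' * y := by rw [← h1]; group
    have haY := conj_mem (D.HY (D.AH ha)) hy
    have haY' := conj_mem (D.AY' ha) hy'
    have h3 : y'⁻¹ * (a * y' * a⁻¹) = y * (a * y * a⁻¹)⁻¹ := by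
      calc y'⁻¹ * (a * y' * a⁻¹) = y'⁻¹ * ((a * y' * a⁻¹) * (a * y * a⁻¹)) * (a * y * a⁻¹)⁻¹ := by
            group
        _ = y * (a * y * a⁻¹)⁻¹ := by rw [h2]; group
    have h4 : y'⁻¹ * (a * y' * a⁻¹) ∈ Z := by
      have h5 : y'⁻¹ * (a * y' * a⁻¹) ∈ cj n2 Y := mul_mem (inv_mem hy') haY'
      have h6 : y'⁻¹ * (a * y' * a⁻¹) ∈ Y := by
        rw [h3]
        exact mul_mem hy (inv_mem haY)
      rw [← D.YY'_inf]
      exact ⟨h6, h5⟩
    constructor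
    · have h5 := h4
      rw [h3] at h5
      have h6 := inv_mem h5
      rwa [show (y * (a * y * a⁻¹)⁻¹)⁻¹ = a * y * a⁻¹ * y⁻¹ by group] at h6
    · have h5 := conj_mem (D.QZ (D.Y'Q hy')) h4
      rwa [show y' * (y'⁻¹ * (a * y' * a⁻¹)) * y'⁻¹ = a * y' * a⁻¹ * y'⁻¹ by group] at h5
  have hfix : ∀ x, (∀ a ∈ A0, a * x * a⁻¹ * x⁻¹ ∈ Z) → ∀ a ∈ A0, a * x = x * a := by
    intro x hx a ha
    exact comm_of_odd D.odd (D.AH ha) (z := a * x * a⁻¹ * x⁻¹) (by group)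
      (D.AZ a ha _ (hx a ha)) (D.sqV _ (D.ZV (hx a ha)))
  have hyZ : y ∈ Z := D.fixY y hy (hfix y fun a ha => (hcomp a ha).1)
  have hy'Z : y' ∈ Z := by
    rw [mem_cj] at hy'
    have h1 : n2⁻¹ * y' * n2 ∈ Z := by
      refine D.fixY _ hy' fun a ha => ?_
      have h2 := hfix y' (fun a ha => (hcomp a ha).2) a ha
      have h3 := D.n2A ha
      have h4 : a * n2⁻¹ = n2⁻¹ * a := by
        calc a * n2⁻¹ = n2⁻¹ * (n2 * a) * n2⁻¹ := by group
          _ = n2⁻¹ * (a * n2) * n2⁻¹ := by rw [h3]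
          _ = n2⁻¹ * a := by group
      calc a * (n2⁻¹ * y' * n2) = (a * n2⁻¹) * y' * n2 := by group
        _ = n2⁻¹ * (a * y') * n2 := by rw [h4]; group
        _ = n2⁻¹ * y' * (a * n2) := by rw [h2]; group
        _ = n2⁻¹ * y' * n2 * a := by rw [h3]; group
    have h2 := conj_mem D.n2Z h1
    rwa [show n2 * (n2⁻¹ * y' * n2) * n2⁻¹ = y' by group] at h2
  rw [he]
  exact mul_mem hy'Z hyZ

/-- (Z3): a `2`-element of `C_G(z) ∩ C_G(A0 H2)` lies in `Z`. -/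
theorem mem_Z {z : G} (hC : Core Q z) {h : G} (hh : h ∈ H ⊓ L2) (hh1 : h ≠ 1) {τ : G} {k : ℕ}
    (hk : τ ^ 2 ^ k = 1) (hz : τ * z = z * τ)
    (hτA : ∀ a ∈ A0, τ * a = a * τ) (hτh : τ * h = h * τ) : τ ∈ Z := by
  have hQ : τ ∈ Subgroup.normalizer (Q : Set G) := hC.norm τ hz
  -- everything normalising `Q` normalises `Z`
  have hQZ : ∀ g : G, g ∈ Subgroup.normalizer (Q : Set G) → cj g Z ≤ Z := by
    intro g hg x hx
    rw [mem_cj] at hx
    have h1 : x ∈ Q := by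
      have := conj_mem hg (D.ZQ hx)
      rwa [show g * (g⁻¹ * x * g) * g⁻¹ = x by group] at this
    refine D.centre h1 fun q hq => ?_
    have h2 := D.zu hx (D.QU (conj_mem' hg hq))
    calc x * q = g * ((g⁻¹ * x * g) * (g⁻¹ * q * g)) * g⁻¹ := by group
      _ = g * ((g⁻¹ * q * g) * (g⁻¹ * x * g)) * g⁻¹ := by rw [h2]
      _ = q * x := by group
  have hQZ' : Subgroup.normalizer (Q : Set G) ≤ Subgroup.normalizer (Z : Set G) :=
    le_normalizer_of fun g hg => hQZ g hg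
  have hZ := hQZ' hQ
  have hhL := (Subgroup.mem_inf.mp hh).2
  have hhH := (Subgroup.mem_inf.mp hh).1
  -- the conjugate by `n2`
  set σ := n2⁻¹ * τ * n2 with hσ
  have hσQ : σ ∈ Subgroup.normalizer (Q : Set G) :=
    mul_mem (mul_mem (inv_mem D.n2Q) hQ) D.n2Q
  have hσZ := hQZ' hσQ
  have hσA : ∀ a ∈ A0, σ * a = a * σ := by
    intro a ha
    have h1 := D.n2A ha
    have h2 := hτA a ha
    have h3 : a * n2⁻¹ = n2⁻¹ * a := by
      calc a * n2⁻¹ = n2⁻¹ * (n2 * a) * n2⁻¹ := by group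
        _ = n2⁻¹ * (a * n2) * n2⁻¹ := by rw [h1]
        _ = n2⁻¹ * a := by group
    calc σ * a = n2⁻¹ * τ * (n2 * a) := by rw [hσ]; group
      _ = n2⁻¹ * (τ * a) * n2 := by rw [← h1]; group
      _ = (n2⁻¹ * a) * τ * n2 := by rw [h2]; group
      _ = a * σ := by rw [← h3, hσ]; group
  have hσh : σ * h = h * σ := by
    have h1 := D.n2h hh
    have h2 : n2 * h = h⁻¹ * n2 := by
      calc n2 * h = h⁻¹ * (h * n2 * h) := by group
        _ = h⁻¹ * n2 := by rw [h1]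
    have h3 : h * n2⁻¹ = n2⁻¹ * h⁻¹ := by
      calc h * n2⁻¹ = (h * n2⁻¹ * h) * h⁻¹ := by group
        _ = (h⁻¹ * n2 * h⁻¹)⁻¹ * h⁻¹ := by group
        _ = n2⁻¹ * h⁻¹ := by rw [← h2]; group
    have h4 : τ * h⁻¹ = h⁻¹ * τ := by
      calc τ * h⁻¹ = h⁻¹ * (h * τ) * h⁻¹ := by group
        _ = h⁻¹ * (τ * h) * h⁻¹ := by rw [hτh]
        _ = h⁻¹ * τ := by group
    calc σ * h = n2⁻¹ * τ * (n2 * h) := by rw [hσ]; group
      _ = n2⁻¹ * (τ * h⁻¹) * n2 := by rw [h2]; group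
      _ = (n2⁻¹ * h⁻¹) * τ * n2 := by rw [h4]; group
      _ = h * σ := by rw [← h3, hσ]; group
  have hσk : σ ^ 2 ^ k = 1 := by
    have : σ = n2⁻¹ * τ * (n2⁻¹)⁻¹ := by rw [hσ, inv_inv]
    rw [this, conj_pow, hk]; group
  have hYY : ∀ y ∈ Y, ∀ y' ∈ Y, y * y' = y' * y := fun y hy y' hy' =>
    D.commV y (D.YV hy) y' (D.YV hy')
  have hsq : ∀ y ∈ Y, y * y = 1 := fun y hy => D.sqV y (D.YV hy)
  have hAZ : A0 ≤ Subgroup.normalizer (Z : Set G) := D.AH.trans D.HZ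
  have hAY : A0 ≤ Subgroup.normalizer (Y : Set G) := D.AH.trans D.HY
  have hY1 : ∀ y ∈ Y, τ * y * τ⁻¹ * y⁻¹ ∈ Z :=
    trivial_of_comm hYY hsq D.ZY hAZ hAY D.irrY k τ hk hτA hZ
      (D.normY_of hh hh1 hQ hZ hτA hτh)
  have hY2 : ∀ y ∈ Y, σ * y * σ⁻¹ * y⁻¹ ∈ Z :=
    trivial_of_comm hYY hsq D.ZY hAZ hAY D.irrY k σ hσk hσA hσZ
      (D.normY_of hh hh1 hσQ hσZ hσA hσh)
  have hY3 : ∀ y ∈ cj n2 Y, τ * y * τ⁻¹ * y⁻¹ ∈ Z := by
    intro y hy
    rw [mem_cj] at hy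
    have h1 := conj_mem D.n2Z (hY2 _ hy)
    rwa [show n2 * (σ * (n2⁻¹ * y * n2) * σ⁻¹ * (n2⁻¹ * y * n2)⁻¹) * n2⁻¹ =
      τ * y * τ⁻¹ * y⁻¹ by rw [hσ]; group] at h1
  -- the normal subgroup of `C_G(z)` centralising `Q/Z` and `Z`
  have hQZ2 : ∀ q ∈ Q, τ * q * τ⁻¹ * q⁻¹ ∈ Z := by
    intro q hq
    obtain ⟨y', hy', y, hy, rfl⟩ := D.exists_yy hq
    have e : τ * (y' * y) * τ⁻¹ * (y' * y)⁻¹ =
        (τ * y' * τ⁻¹ * y'⁻¹) * (y' * (τ * y * τ⁻¹ * y⁻¹) * y'⁻¹) := by group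
    rw [e]
    exact mul_mem (hY3 y' hy') (conj_mem (D.QZ (D.Y'Q hy')) (hY1 y hy))
  -- `Z = [Q, Q]`
  have hZQQ : Z ≤ ⁅Q, Q⁆ := by
    refine D.Zle.trans ?_
    rw [Subgroup.commutator_le]
    intro y hy u hu
    obtain ⟨q, hq, v, hv, rfl⟩ := D.exists_qv hu
    have e : y * (q * v) * y⁻¹ * (q * v)⁻¹ = y * q * (v * y⁻¹) * v⁻¹ * q⁻¹ := by group
    show y * (q * v) * y⁻¹ * (q * v)⁻¹ ∈ ⁅Q, Q⁆
    rw [e, D.commV v hv y⁻¹ (inv_mem (D.YV hy)),
      show y * q * (y⁻¹ * v) * v⁻¹ * q⁻¹ = y * q * y⁻¹ * q⁻¹ by group]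
    exact Subgroup.commutator_mem_commutator (D.YQ hy) hq
  have hcZ : ∀ g : G, (∀ q ∈ Q, g * q * g⁻¹ * q⁻¹ ∈ Z) → ∀ x ∈ Z, g * x = x * g := by
    intro g hg x hx
    have h1 : ⁅Q, Q⁆ ≤ Subgroup.centralizer {g} := by
      rw [Subgroup.commutator_le]
      intro a ha b hb
      rw [Subgroup.mem_centralizer_singleton_iff]
      have hza := hg a ha
      have hzb := hg b hb
      set z1 := g * a * g⁻¹ * a⁻¹ with hz1
      set z2 := g * b * g⁻¹ * b⁻¹ with hz2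
      have e1 : g * a * g⁻¹ = z1 * a := by rw [hz1]; group
      have e2 : g * b * g⁻¹ = z2 * b := by rw [hz2]; group
      have c1 : ∀ q ∈ Q, z1 * q = q * z1 := fun q hq => D.zu hza (D.QU hq)
      have c2 : ∀ q ∈ Q, z2 * q = q * z2 := fun q hq => D.zu hzb (D.QU hq)
      have e3 : g * (a * b * a⁻¹ * b⁻¹) * g⁻¹ = a * b * a⁻¹ * b⁻¹ := by
        calc g * (a * b * a⁻¹ * b⁻¹) * g⁻¹
            = (g * a * g⁻¹) * (g * b * g⁻¹) * (g * a * g⁻¹)⁻¹ * (g * b * g⁻¹)⁻¹ := by group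
          _ = z1 * a * (z2 * b) * (z1 * a)⁻¹ * (z2 * b)⁻¹ := by rw [e1, e2]
          _ = z1 * (a * z2) * b * a⁻¹ * z1⁻¹ * b⁻¹ * z2⁻¹ := by group
          _ = z1 * (z2 * a) * b * a⁻¹ * z1⁻¹ * b⁻¹ * z2⁻¹ := by rw [c2 a ha]
          _ = z1 * z2 * (a * b * a⁻¹) * z1⁻¹ * b⁻¹ * z2⁻¹ := by group
          _ = z2 * z1 * (a * b * a⁻¹) * z1⁻¹ * b⁻¹ * z2⁻¹ := by rw [c1 z2 (D.ZQ hzb)]
          _ = z2 * (z1 * (a * b * a⁻¹)) * z1⁻¹ * b⁻¹ * z2⁻¹ := by group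
          _ = z2 * ((a * b * a⁻¹) * z1) * z1⁻¹ * b⁻¹ * z2⁻¹ := by
              rw [c1 _ (mul_mem (mul_mem ha hb) (inv_mem ha))]
          _ = (z2 * (a * b * a⁻¹ * b⁻¹)) * z2⁻¹ := by group
          _ = ((a * b * a⁻¹ * b⁻¹) * z2) * z2⁻¹ := by
              rw [c2 _ (mul_mem (mul_mem (mul_mem ha hb) (inv_mem ha)) (inv_mem hb))]
          _ = a * b * a⁻¹ * b⁻¹ := by group
      show a * b * a⁻¹ * b⁻¹ * g = g * (a * b * a⁻¹ * b⁻¹)
      calc a * b * a⁻¹ * b⁻¹ * g = (g * (a * b * a⁻¹ * b⁻¹) * g⁻¹) * g := by rw [e3]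
        _ = g * (a * b * a⁻¹ * b⁻¹) := by group
    exact (Subgroup.mem_centralizer_singleton_iff.mp (h1 (hZQQ hx))).symm
  let K : Subgroup G :=
    { carrier := {x | x * z = z * x ∧ ∀ q ∈ Q, x * q * x⁻¹ * q⁻¹ ∈ Z}
      one_mem' := ⟨by group, fun q _ => by
        rw [show (1 : G) * q * 1⁻¹ * q⁻¹ = 1 by group]; exact one_mem _⟩
      mul_mem' := by
        rintro a b ⟨ha, ha2⟩ ⟨hb, hb2⟩
        refine ⟨by rw [mul_assoc, hb, ← mul_assoc, ha, mul_assoc], fun q hq => ?_⟩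
        have e : a * b * q * (a * b)⁻¹ * q⁻¹ =
          (a * (b * q * b⁻¹ * q⁻¹) * a⁻¹) * (a * q * a⁻¹ * q⁻¹) := by group
        rw [e]
        exact mul_mem (conj_mem (hQZ' (hC.norm a ha)) (hb2 q hq)) (ha2 q hq)
      inv_mem' := by
        rintro a ⟨ha, ha2⟩
        have ha' : a⁻¹ * z = z * a⁻¹ := by
          calc a⁻¹ * z = a⁻¹ * (z * a) * a⁻¹ := by group
            _ = a⁻¹ * (a * z) * a⁻¹ := by rw [ha]
            _ = z * a⁻¹ := by group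
        refine ⟨ha', fun q hq => ?_⟩
        have h1 := inv_mem (ha2 q hq)
        have h2 := conj_mem' (hQZ' (hC.norm a ha)) h1
        rwa [show a⁻¹ * (a * q * a⁻¹ * q⁻¹)⁻¹ * a = a⁻¹ * q * a⁻¹⁻¹ * q⁻¹ by group] at h2 }
  have hK : ∀ {x}, x ∈ K ↔ x * z = z * x ∧ ∀ q ∈ Q, x * q * x⁻¹ * q⁻¹ ∈ Z := fun {x} => Iff.rfl
  have hK2 : IsPGroup 2 K := by
    rintro ⟨x, hx⟩
    obtain ⟨hx0, hx2⟩ := hK.mp hx
    have hxZ := hcZ x hx2
    have hxx : x * x ∈ Q := by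
      refine hC.self _ (by rw [mul_assoc, hx0, ← mul_assoc, hx0, mul_assoc]) fun q hq => ?_
      set y := x * q * x⁻¹ * q⁻¹ with hy
      have hyY : y ∈ Z := hx2 q hq
      have e1 : x * q * x⁻¹ = y * q := by rw [hy]; group
      have e2 : x * x * q * x⁻¹ * x⁻¹ = q := by
        calc x * x * q * x⁻¹ * x⁻¹ = x * (x * q * x⁻¹) * x⁻¹ := by group
          _ = x * (y * q) * x⁻¹ := by rw [e1]
          _ = (x * y) * q * x⁻¹ := by group
          _ = (y * x) * q * x⁻¹ := by rw [hxZ y hyY]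
          _ = y * (x * q * x⁻¹) := by group
          _ = y * y * q := by rw [e1]; group
          _ = q := by rw [D.sqV y (D.ZV hyY), one_mul]
      calc x * x * q = (x * x * q * x⁻¹ * x⁻¹) * (x * x) := by group
        _ = q * (x * x) := by rw [e2]
    obtain ⟨k, hk⟩ := D.twoQ ⟨x * x, hxx⟩
    have hk' : (x * x) ^ 2 ^ k = 1 := congrArg Subtype.val hk
    refine ⟨k + 1, Subtype.ext ?_⟩
    show x ^ 2 ^ (k + 1) = 1
    rw [pow_succ', pow_mul, pow_two]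
    exact hk'
  have hKn : ∀ g, g * z = z * g → g ∈ Subgroup.normalizer (K : Set G) := by
    have hle : Subgroup.centralizer {z} ≤ Subgroup.normalizer (K : Set G) := by
      refine le_normalizer_of fun g hg x hx => ?_
      rw [Subgroup.mem_centralizer_singleton_iff] at hg
      rw [mem_cj] at hx
      obtain ⟨hx1, hx2⟩ := hK.mp hx
      refine hK.mpr ⟨?_, fun q hq => ?_⟩
      · have hg' : g⁻¹ * z = z * g⁻¹ := by
          calc g⁻¹ * z = g⁻¹ * (z * g) * g⁻¹ := by group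
            _ = g⁻¹ * (g * z) * g⁻¹ := by rw [hg]
            _ = z * g⁻¹ := by group
        calc x * z = g * (g⁻¹ * x * g) * (g⁻¹ * z) := by group
          _ = g * ((g⁻¹ * x * g) * z) * g⁻¹ := by rw [hg']; group
          _ = (g * z) * (g⁻¹ * x * g) * g⁻¹ := by rw [hx1]; group
          _ = z * x := by rw [hg]; group
      · have h1 := hx2 _ (conj_mem' (hC.norm g hg) hq)
        have h2 := conj_mem (hQZ' (hC.norm g hg)) h1
        rwa [show g * ((g⁻¹ * x * g) * (g⁻¹ * q * g) * (g⁻¹ * x * g)⁻¹ * (g⁻¹ * q * g)⁻¹) * g⁻¹ =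
          x * q * x⁻¹ * q⁻¹ by group] at h2
    intro g hg
    exact hle (Subgroup.mem_centralizer_singleton_iff.mpr hg)
  have hKQ : K ≤ Q := hC.max K hK2 (fun r hr => (hK.mp hr).1) hKn
  have hτQ : τ ∈ Q := hKQ (hK.mpr ⟨hz, hQZ2⟩)
  exact D.cQA hτQ hτA

end Torus

end Data

end Cfsg.Agent.RankTwoClose.UFour

end
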