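import Mathlib
import Cfsg.Agent.Mrg.RankTwoClose.UFour.Root
import Cfsg.Agent.Mrg.RankTwoClose.Braid
import Cfsg.Agent.Mrg.RankTwoClose.UFour.ModelS

section


/-!
Type `U4(q)`: the frame, (PATH), the braid relation of length `4`, the split BN-pair.
-/

set_option autoImplicit false
set_option linter.unusedSectionVars false

universe u

namespace Cfsg.Agent.RankTwoClose.UFour

open Cfsg.Agent.Omega.RootLemma

variable {G : Type u} [Group G]

namespace Data

variable {S V U Z Y L1 L2 Q H A0 : Subgroup G} {n1 n2 : G}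

section Close

variable (D : Data S V U Z Y L1 L2 Q H A0 n1 n2)
include D

/-- Elements of the Borel subgroup. -/
theorem exists_uh {b : G} (hb : b ∈ U ⊔ H) : ∃ u ∈ U, ∃ h ∈ H, b = u * h := by
  rw [sup_comm] at hb
  obtain ⟨h, hh, u, hu, rfl⟩ := mem_sup_norm D.HU hb
  exact ⟨h * u * h⁻¹, conj_mem (D.HU hh) hu, h, hh, by group⟩

theorem normB_U {b : G} (hb : b ∈ U ⊔ H) : b ∈ Subgroup.normalizer (U : Set G) := by
  have : U ⊔ H ≤ Subgroup.normalizer (U : Set G) := sup_le Subgroup.le_normalizer D.HU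
  exact this hb

/-- `2`-elements of `B` lie in `U`. -/
theorem two_mem_U {P : Subgroup G} (hP : IsPGroup 2 P) {x : G} (hx : x ∈ P) (hB : x ∈ U ⊔ H) :
    x ∈ U := by
  obtain ⟨u, hu, h, hh, rfl⟩ := D.exists_uh hB
  -- `h` is a `2`-element modulo `U`
  obtain ⟨k, hk⟩ := hP ⟨u * h, hx⟩
  have hk' : (u * h) ^ 2 ^ k = 1 := congrArg Subtype.val hk
  have key : ∀ n : ℕ, ∃ v ∈ U, (u * h) ^ n = v * h ^ n := by
    intro n
    induction n with
    | zero => exact ⟨1, one_mem _, by simp⟩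
    | succ n ih =>
      obtain ⟨v, hv, e⟩ := ih
      refine ⟨v * (h ^ n * u * (h ^ n)⁻¹), mul_mem hv (conj_mem (D.HU (pow_mem hh n)) hu), ?_⟩
      rw [pow_succ, e, pow_succ]; group
  obtain ⟨v, hv, e⟩ := key (2 ^ k)
  rw [hk'] at e
  have h1 : h ^ 2 ^ k ∈ U := by
    have : h ^ 2 ^ k = v⁻¹ := (inv_eq_of_mul_eq_one_right e.symm).symm
    rw [this]; exact inv_mem hv
  have h2 : h ^ 2 ^ k = 1 := eq_one_of_odd_two D.odd D.twoU (pow_mem hh _) h1
  have h3 : h = 1 := by
    obtain ⟨m, hm⟩ := D.odd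
    have h4 : orderOf h ∣ 2 ^ k := orderOf_dvd_of_pow_eq_one h2
    have h5 : orderOf h ∣ Nat.card H := Subgroup.orderOf_dvd_natCard H hh
    have h6 : Nat.Coprime (2 ^ k) (Nat.card H) :=
      Nat.Coprime.pow_left k (Nat.coprime_two_left.mpr D.odd)
    exact orderOf_eq_one_iff.mp (Nat.eq_one_of_dvd_coprimes h6 h4 h5)
  rw [h3, mul_one]
  exact hu

theorem inter_B {n : G} {X : Subgroup G} (hX : U ⊓ cj n U ≤ X) {x : G}
    (hx : x ∈ U) (hx' : n⁻¹ * x * n ∈ U ⊔ H) : x ∈ X := by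
  refine hX ⟨hx, mem_cj.mpr ?_⟩
  exact D.two_mem_U (P := cj n⁻¹ U) (isPGroup_cj D.twoU)
    (by rw [mem_cj, inv_inv]; rwa [show n * (n⁻¹ * x * n) * n⁻¹ = x by group]) hx'

theorem n1_not : n1 ∉ U ⊔ H := fun h => D.cj_n1_U_ne (mem_norm_iff.mp (D.normB_U h))
theorem n2_not : n2 ∉ U ⊔ H := fun h => D.cj_n2_U_ne (mem_norm_iff.mp (D.normB_U h))

/-- Bruhat decomposition of a rank one parabolic. -/
theorem memP_of {L X : Subgroup G} {n : G} (hR : RankOne L U X n) (hHL : H ≤ Subgroup.normalizer (L : Set G))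
    (hb : ∀ g ∈ L, cj g U = U → g ∈ U ⊔ H) (x : G) :
    x ∈ L ⊔ H ↔ x ∈ U ⊔ H ∨ ∃ b ∈ U ⊔ H, ∃ c ∈ U ⊔ H, x = b * n * c := by
  constructor
  · intro hx
    rw [sup_comm] at hx
    obtain ⟨h, hh, g, hg, rfl⟩ := mem_sup_norm hHL hx
    rcases hR.trans g hg with h1 | ⟨u, hu, h1⟩
    · exact Or.inl (mul_mem (Subgroup.mem_sup_right hh) (hb g hg h1))
    · right
      have h2 : cj ((u * n)⁻¹ * g) U = U := by rw [cj_mul, h1, cj_inv_cj]
      have h3 := hb _ (mul_mem (inv_mem (mul_mem (hR.UL hu) hR.nL)) hg) h2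
      exact ⟨h * u, mul_mem (Subgroup.mem_sup_right hh) (Subgroup.mem_sup_left hu), _, h3, by group⟩
  · have hB : U ⊔ H ≤ L ⊔ H := sup_le_sup_right hR.UL H
    rintro (h | ⟨b, hb, c, hc, rfl⟩)
    · exact hB h
    · exact mul_mem (mul_mem (hB hb) (Subgroup.mem_sup_left hR.nL)) (hB hc)

theorem two_of {L X : Subgroup G} {n : G} (hR : RankOne L U X n)
    (hnH : cj n H = H) (hmem : ∀ x, x ∈ L ⊔ H ↔ x ∈ U ⊔ H ∨ ∃ b ∈ U ⊔ H, ∃ c ∈ U ⊔ H, x = b * n * c)
    (hfix : ∀ u ∈ U, (∀ h ∈ H, h * u * h⁻¹ * u⁻¹ ∈ X) → u ∈ X) {g : G} (hg : g ∈ L ⊔ H)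
    (hH : ∀ h ∈ H, g⁻¹ * h * g ∈ U ⊔ H) : g ∈ U ⊔ H ∨ n⁻¹ * g ∈ U ⊔ H := by
  rcases (hmem g).mp hg with h | ⟨b, hb, c, hc, rfl⟩
  · exact Or.inl h
  · right
    obtain ⟨u, hu, t, ht, rfl⟩ := D.exists_uh hb
    have h1 : u ∈ X := by
      refine hfix u hu fun h hh => ?_
      -- `h u h⁻¹ u⁻¹ ∈ U ∩ n B n⁻¹`
      have hUh : h * u * h⁻¹ * u⁻¹ ∈ U := mul_mem (conj_mem (D.HU hh) hu) (inv_mem hu)
      refine D.inter_B hR.inter hUh ?_
      -- `(u t n c)⁻¹ h⁻¹ (u t n c) ∈ B`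
      have h2 := hH h⁻¹ (inv_mem hh)
      have h3 : n⁻¹ * t⁻¹ * (u⁻¹ * h⁻¹ * u) * t * n ∈ U ⊔ H := by
        have := mul_mem (mul_mem hc h2) (inv_mem hc)
        rwa [show c * ((u * t * n * c)⁻¹ * h⁻¹ * (u * t * n * c)) * c⁻¹ =
          n⁻¹ * t⁻¹ * (u⁻¹ * h⁻¹ * u) * t * n by group] at this
      have ht' : n⁻¹ * t * n ∈ H := conj_mem' (mem_norm_iff.mpr hnH) ht
      have hh' : n⁻¹ * h * n ∈ H := conj_mem' (mem_norm_iff.mpr hnH) hh
      have h4 := mul_mem (mul_mem (Subgroup.mem_sup_right (S := U) ht') h3)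
        (inv_mem (Subgroup.mem_sup_right (S := U) ht'))
      rw [show n⁻¹ * t * n * (n⁻¹ * t⁻¹ * (u⁻¹ * h⁻¹ * u) * t * n) * (n⁻¹ * t * n)⁻¹ =
        n⁻¹ * (u⁻¹ * h⁻¹ * u) * n by group] at h4
      -- so `n⁻¹ u n` version
      have h5 := mul_mem (Subgroup.mem_sup_right (S := U) hh') (h4)
      rw [show n⁻¹ * h * n * (n⁻¹ * (u⁻¹ * h⁻¹ * u) * n) = n⁻¹ * (h * u⁻¹ * h⁻¹ * u) * n by group] at h5
      -- `h u⁻¹ h⁻¹ u ∈ U ∩ nBn⁻¹ ≤ X`; conjugate
      have h6 : h * u⁻¹ * h⁻¹ * u ∈ X := by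
        refine D.inter_B hR.inter ?_ h5
        exact mul_mem (conj_mem (D.HU hh) (inv_mem hu)) hu
      have h7 : h * u * h⁻¹ * u⁻¹ ∈ X := by
        have h8 := conj_mem (hR.norm (hR.UL hu)) (inv_mem h6)
        have h9 := conj_mem (hR.norm (hR.UL hUh)) h8
        have e : u * (h * u⁻¹ * h⁻¹ * u)⁻¹ * u⁻¹ = h * u * h⁻¹ * u⁻¹ := by group
        rwa [e] at h8
      have h8 : n⁻¹ * (h * u * h⁻¹ * u⁻¹) * n ∈ U :=
        hR.QU (conj_mem' (hR.norm hR.nL) h7)
      exact Subgroup.mem_sup_left h8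
    have h2 : n⁻¹ * u * n ∈ U := hR.QU (conj_mem' (hR.norm hR.nL) h1)
    have h3 : n⁻¹ * t * n ∈ H := conj_mem' (mem_norm_iff.mpr hnH) ht
    have h4 := mul_mem (mul_mem (Subgroup.mem_sup_left (T := H) h2) (Subgroup.mem_sup_right h3)) hc
    rwa [show n⁻¹ * u * n * (n⁻¹ * t * n) * c = n⁻¹ * (u * t * n * c) by group] at h4

theorem fix1 : ∀ u ∈ U, (∀ h ∈ H, h * u * h⁻¹ * u⁻¹ ∈ V) → u ∈ V := D.fixU

theorem fix2' : ∀ u ∈ U, (∀ h ∈ H, h * u * h⁻¹ * u⁻¹ ∈ Q) → u ∈ Q := fun u hu h =>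
  D.fix2 u hu fun x hx => h x (Subgroup.mem_inf.mp hx).1

/-- The frame of type `U4`. -/
def frame : Frame G where
  B := U ⊔ H
  H := H
  P i := if i then L2 ⊔ H else L1 ⊔ H
  n i := if i then n2 else n1
  memP i x := by
    cases i
    · exact D.memP_of D.P1 D.HL1 D.borel1 x
    · exact D.memP_of D.P2 D.HL2 D.borel2 x
  inter := by
    have hB1 : U ⊔ H ≤ L1 ⊔ H := sup_le_sup_right D.UL1 H
    have hB2 : U ⊔ H ≤ L2 ⊔ H := sup_le_sup_right D.UL2 H
    refine le_antisymm ?_ (le_inf hB1 hB2)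
    rintro x ⟨hx1, hx2⟩
    have h1 : x ∈ L1 ⊔ H := hx1
    have h2 : x ∈ L2 ⊔ H := hx2
    rcases (D.memP_of D.P1 D.HL1 D.borel1 x).mp h1 with h | ⟨b, hb, c, hc, rfl⟩
    · exact h
    · exfalso
      -- `n1 ∈ L2 H` normalises `Q`
      have h3 : n1 ∈ L2 ⊔ H := by
        have := mul_mem (mul_mem (inv_mem (hB2 hb)) h2) (inv_mem (hB2 hc))
        rwa [show b⁻¹ * (b * n1 * c) * c⁻¹ = n1 by group] at this
      have h4 : n1 ∈ Subgroup.normalizer (Q : Set G) :=
        (sup_le D.P2.norm D.HQ) h3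
      have h5 : cj n1 Y = Y := by
        rw [← D.VQ_inf, cj_inf, mem_norm_iff.mp D.n1V, mem_norm_iff.mp h4]
      have h6 : cj n1 Z ≤ Y := by
        have := cj_mono (g := n1) D.ZY
        rwa [h5] at this
      have h7 := D.Edis
      rw [inf_eq_right.mpr h6] at h7
      exact D.E_ne h7
  H_le := le_sup_right
  n_norm i := by
    cases i
    · exact mem_norm_iff.mpr D.n1H
    · exact mem_norm_iff.mpr D.n2H
  n_not i := by
    cases i
    · exact D.n1_not
    · exact D.n2_not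
  two i g hg h := by
    cases i
    · exact D.two_of D.P1 D.n1H (D.memP_of D.P1 D.HL1 D.borel1) D.fix1 hg h
    · exact D.two_of D.P2 D.n2H (D.memP_of D.P2 D.HL2 D.borel2) D.fix2' hg h

@[simp] theorem frame_B : D.frame.B = U ⊔ H := rfl
@[simp] theorem frame_H : D.frame.H = H := rfl
@[simp] theorem frame_P0 : D.frame.P false = L1 ⊔ H := rfl
@[simp] theorem frame_P1 : D.frame.P true = L2 ⊔ H := rfl
@[simp] theorem frame_n0 : D.frame.n false = n1 := rfl
@[simp] theorem frame_n1 : D.frame.n true = n2 := rfl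

/-- `W = Y ∩ Y^n1`. -/
theorem cj_n1_W : cj n1 (Y ⊓ cj n1 Y) = Y ⊓ cj n1 Y := by
  rw [cj_inf, ← cj_mul, mem_norm_iff.mp (D.HY D.n1n1), inf_comm]

theorem HW : H ≤ Subgroup.normalizer ((Y ⊓ cj n1 Y : Subgroup G) : Set G) := fun h hh =>
  norm_inf (D.HY hh) (norm_cj (D.HY (conj_mem' (mem_norm_iff.mpr D.n1H) hh)))

theorem cj_n2_W : cj n2 (cj n2 (Y ⊓ cj n1 Y)) = Y ⊓ cj n1 Y := by
  rw [← cj_mul, mem_norm_iff.mp (D.HW D.n2n2)]

theorem WV_sup [Finite G] : cj n2 (Y ⊓ cj n1 Y) ⊔ V = U := by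
  refine le_antisymm (sup_le (le_trans (cj_mono inf_le_left) D.Y'leU) D.VU) ?_
  rw [← D.VY'_sup]
  refine sup_le le_sup_right ?_
  have h1 := cj_mono (g := n2) D.Ydec
  rw [cj_sup, D.cj_Z_of_L2 D.P2.nL] at h1
  exact h1.trans (sup_le (D.ZV.trans le_sup_right) le_sup_left)

variable [Finite G]

theorem WB : Y ⊓ cj n1 Y ≤ U ⊔ H := inf_le_left.trans (D.YleU.trans le_sup_left)
theorem W'B : cj n2 (Y ⊓ cj n1 Y) ≤ U ⊔ H :=
  le_trans (cj_mono inf_le_left) (D.Y'leU.trans le_sup_left)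
theorem EB : cj n1 Z ≤ U ⊔ H := D.EU.trans le_sup_left
theorem ZB : Z ≤ U ⊔ H := D.ZleU.trans le_sup_left

/-- (PATH). -/
theorem pathTo {k : ℕ} (hk : k < 4) : D.frame.PathTo k := by
  refine D.frame.pathTo_of_root
    (fun i => if i then (cj n1 Z : Set G) else (cj n2 (Y ⊓ cj n1 Y) : Set G)) ?_ ?_
  · intro i b hb
    obtain ⟨u, hu, h, hh, rfl⟩ := D.exists_uh hb
    cases i
    · rw [← D.WV_sup] at hu
      obtain ⟨x, hx, v, hv, rfl⟩ := mem_sup_norm
        ((le_trans (cj_mono inf_le_left) D.Y'leU).trans D.UV) hu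
      refine ⟨x, hx, v * h, mul_mem (Subgroup.mem_sup_left (D.VU hv)) (Subgroup.mem_sup_right hh),
        by group, ?_⟩
      show n1⁻¹ * (v * h) * n1 ∈ U ⊔ H
      rw [show n1⁻¹ * (v * h) * n1 = (n1⁻¹ * v * n1) * (n1⁻¹ * h * n1) by group]
      exact mul_mem (Subgroup.mem_sup_left (D.VU (conj_mem' D.n1V hv)))
        (Subgroup.mem_sup_right (conj_mem' (mem_norm_iff.mpr D.n1H) hh))
    · rw [← D.QE_sup, sup_comm] at hu
      obtain ⟨x, hx, v, hv, rfl⟩ := mem_sup_norm (D.EU.trans (D.UL2.trans D.P2.norm)) hu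
      refine ⟨x, hx, v * h, mul_mem (Subgroup.mem_sup_left (D.QU hv)) (Subgroup.mem_sup_right hh),
        by group, ?_⟩
      show n2⁻¹ * (v * h) * n2 ∈ U ⊔ H
      rw [show n2⁻¹ * (v * h) * n2 = (n2⁻¹ * v * n2) * (n2⁻¹ * h * n2) by group]
      exact mul_mem (Subgroup.mem_sup_left (D.QU (conj_mem' D.n2Q hv)))
        (Subgroup.mem_sup_right (conj_mem' (mem_norm_iff.mpr D.n2H) hh))
  · -- the words
    have key : ∀ (w : G) (X : Subgroup G), cj w X ≤ U ⊔ H → ∀ x ∈ X, w * x * w⁻¹ ∈ U ⊔ H :=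
      fun w X h x hx => h (conj_mem_cj hx)
    intro i x hx
    show alt D.frame.n i k * x * (alt D.frame.n i k)⁻¹ ∈ U ⊔ H
    interval_cases k
    · cases i
      · exact key 1 (cj n2 (Y ⊓ cj n1 Y)) (by rw [cj_one]; exact D.W'B) x hx
      · exact key 1 (cj n1 Z) (by rw [cj_one]; exact D.EB) x hx
    · cases i
      · refine key (n1 * 1) (cj n1 Z) ?_ x hx
        rw [mul_one, D.cj_n1_Z']; exact D.ZB
      · refine key (n2 * 1) (cj n2 (Y ⊓ cj n1 Y)) ?_ x hx
        rw [mul_one, D.cj_n2_W]; exact D.WB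
    · cases i
      · refine key (n1 * (n2 * 1)) (cj n2 (Y ⊓ cj n1 Y)) ?_ x hx
        rw [mul_one, cj_mul, D.cj_n2_W, D.cj_n1_W]; exact D.WB
      · refine key (n2 * (n1 * 1)) (cj n1 Z) ?_ x hx
        rw [mul_one, cj_mul, D.cj_n1_Z', D.cj_Z_of_L2 D.P2.nL]; exact D.ZB
    · cases i
      · refine key (n1 * (n2 * (n1 * 1))) (cj n1 Z) ?_ x hx
        rw [mul_one, cj_mul, cj_mul, D.cj_n1_Z', D.cj_Z_of_L2 D.P2.nL]; exact D.EB
      · refine key (n2 * (n1 * (n2 * 1))) (cj n2 (Y ⊓ cj n1 Y)) ?_ x hx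
        rw [mul_one, cj_mul, cj_mul, D.cj_n2_W, D.cj_n1_W]; exact D.W'B

/-- The braid relation of length `4`. -/
theorem braid (hB : Bender.{u}) (hC : ∀ z ∈ Z, z ≠ 1 → Core Q z) : D.frame.Braid 4 := by
  refine D.frame.braid_of_root (m := 3) (i := true) hB (D.root hC) D.n2L ?_ ?_ (by decide) ?_
  · show n2⁻¹ * n2 ∈ D.frame.H₁
    rw [inv_mul_cancel]; exact one_mem _
  · show _ ≤ L2 ⊔ H
    exact D.LL2.trans le_sup_left
  · intro a ha
    show (n1 * (n2 * (n1 * 1)))⁻¹ * a * (n1 * (n2 * (n1 * 1))) ∈ _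
    have h1 : cj (n1 * (n2 * (n1 * 1))) (cj n1 (A0 ⊔ (H ⊓ L2))) = cj n1 (A0 ⊔ (H ⊓ L2)) := by
      rw [mul_one, cj_mul, cj_mul, ← cj_mul n1 n1, mem_norm_iff.mp (D.HA' D.n1n1), D.n2A']
    rw [← mem_cj, h1]
    exact ha

/-- **Type `U4(q)`: the closing theorem.**  `⟨L1, L2⟩H` has a split BN-pair of rank two. -/
theorem exists_split (hB : Bender.{u}) (hC : ∀ z ∈ Z, z ≠ 1 → Core Q z) {X : Subgroup G}
    (hX : (L1 ⊔ H) ⊔ (L2 ⊔ H) = X) :
    ∃ P : Cfsg.BNPair X, P.rank = 2 ∧ P.IsSplit ∧ P.B = (U ⊔ H).subgroupOf X ∧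
      (∀ x : X, x ∈ P.N ↔ (x : G) ∈ D.frame.N) := by
  refine D.frame.exists_split_sup (D.braid hB hC) (by norm_num) (fun k hk => D.pathTo hk) ?_
    U le_sup_left (fun b hb u hu => conj_mem (D.normB_U hb) hu) ?_ ?_ hX
  · have key : ∀ n : G, cj n U ≠ U → ∃ b ∈ U ⊔ H, n * b * n⁻¹ ∉ U ⊔ H := by
      intro n hn
      by_contra hcon
      push Not at hcon
      apply hn
      refine Subgroup.eq_of_le_of_card_ge (fun x hx => ?_) (le_of_eq (card_cj _ _).symm)
      refine D.two_mem_U (isPGroup_cj D.twoU) hx ?_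
      rw [mem_cj] at hx
      have := hcon _ (Subgroup.mem_sup_left hx)
      rwa [show n * (n⁻¹ * x * n) * n⁻¹ = x by group] at this
    intro i
    cases i
    · exact key n1 D.cj_n1_U_ne
    · exact key n2 D.cj_n2_U_ne
  · have : Fact (Nat.Prime 2) := ⟨Nat.prime_two⟩
    exact D.twoU.isNilpotent
  · intro b hb
    obtain ⟨u, hu, h, hh, rfl⟩ := D.exists_uh hb
    refine ⟨u, hu, ?_⟩
    rw [inv_mul_cancel_left]
    exact Subgroup.le_normalizer hh

/-- The hypothesis on `C_G(z)` from one involution of `Z(S)`. -/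
theorem core_forall {z0 : G} (hz0 : z0 ∈ Z) (hz1 : z0 ≠ 1)
    (hS : ∀ P : Subgroup G, IsPGroup 2 P → S ≤ P → P ≤ S) (hSz : ∀ s ∈ S, s * z0 = z0 * s)
    (hR : ∃ R : Subgroup G, IsPGroup 2 R ∧ Core R z0) : ∀ z ∈ Z, z ≠ 1 → Core Q z :=
  fun _ hz hzz => D.core_all hz0 hz1 (D.core_of hz0 hS hSz hR) hz hzz

end Close

end Data

end Cfsg.Agent.RankTwoClose.UFour

end

section


/-!
# Field involutions and abelian subgroups of `U`

(1) an element of order two of the automorphism group of a finite field is unique;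
(2) an involution which acts as `s` on the torus centralises `Z` and `Z^{n1}`;
(3) Hilbert 90: the involutions of `U g` modulo `V`;
(4) an abelian subgroup of `U` which is not contained in `V` has order at most `q^3`.
-/

set_option autoImplicit false
set_option linter.unusedSectionVars false
set_option linter.unusedSimpArgs false

namespace Cfsg.Agent.RankTwoClose.UFour

namespace MField

variable {K : Type*} [Field K] [CharP K 2] {s : K ≃+* K}

/-- The automorphism group of a finite field has only one involution. -/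
theorem eq_of_involutions [Finite K] (hs : ∀ k, s (s k) = k) (hne : s ≠ RingEquiv.refl K)
    {θ : K ≃+* K} (hθ : ∀ k, θ (θ k) = k) (hθne : θ ≠ RingEquiv.refl K) : θ = s := by
  classical
  let _ : Algebra (ZMod 2) K := ZMod.algebra K 2
  have hcom : ∀ (f : K ≃+* K) (r : ZMod 2), f (algebraMap (ZMod 2) K r) = algebraMap (ZMod 2) K r := by
    intro f r
    have h1 : (f : K →+* K).comp (algebraMap (ZMod 2) K) = algebraMap (ZMod 2) K :=
      Subsingleton.elim _ _
    exact RingHom.congr_fun h1 r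
  let S : K ≃ₐ[ZMod 2] K := AlgEquiv.ofRingEquiv (f := s) (hcom s)
  let T : K ≃ₐ[ZMod 2] K := AlgEquiv.ofRingEquiv (f := θ) (hcom θ)
  have : Fintype (K ≃ₐ[ZMod 2] K) := Fintype.ofFinite _
  have : IsCyclic (K ≃ₐ[ZMod 2] K) := inferInstanceAs (IsCyclic Gal(K/ZMod 2))
  have hcard := IsCyclic.card_pow_eq_one_le (α := K ≃ₐ[ZMod 2] K) (n := 2) (by norm_num)
  by_contra hne'
  have hS : S ^ 2 = 1 := by
    rw [pow_two]
    ext k
    exact hs k
  have hT : T ^ 2 = 1 := by
    rw [pow_two]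
    ext k
    exact hθ k
  have hS1 : S ≠ 1 := by
    intro h
    apply hne
    ext k
    exact AlgEquiv.congr_fun h k
  have hT1 : T ≠ 1 := by
    intro h
    apply hθne
    ext k
    exact AlgEquiv.congr_fun h k
  have hTS : T ≠ S := by
    intro h
    apply hne'
    ext k
    exact AlgEquiv.congr_fun h k
  have hsub : ({1, S, T} : Finset (K ≃ₐ[ZMod 2] K)) ⊆
      Finset.univ.filter (fun a => a ^ 2 = 1) := by
    intro x hx
    rw [Finset.mem_filter]
    refine ⟨Finset.mem_univ _, ?_⟩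
    simp only [Finset.mem_insert, Finset.mem_singleton] at hx
    rcases hx with rfl | rfl | rfl
    · exact one_pow _
    · exact hS
    · exact hT
  have h3 : ({1, S, T} : Finset (K ≃ₐ[ZMod 2] K)).card = 3 := by
    rw [Finset.card_insert_of_notMem, Finset.card_insert_of_notMem, Finset.card_singleton]
    · rw [Finset.mem_singleton]
      exact fun h => hTS h.symm
    · rw [Finset.mem_insert, Finset.mem_singleton]
      rintro (h | h)
      · exact hS1 h.symm
      · exact hT1 h.symm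
  have h4 := Finset.card_le_card hsub
  rw [h3] at h4
  omega

/-- The fixed elements. -/
def fix (s : K ≃+* K) : AddSubgroup K where
  carrier := {k | s k = k}
  add_mem' {a b} ha hb := by
    show s (a + b) = a + b
    rw [map_add, show s a = a from ha, show s b = b from hb]
  zero_mem' := map_zero s
  neg_mem' {a} ha := by
    show s (-a) = -a
    rw [map_neg, show s a = a from ha]

theorem mem_fix {k : K} : k ∈ fix s ↔ s k = k := Iff.rfl

theorem card_fix [Finite K] (hs : ∀ k, s (s k) = k) (hne : s ≠ RingEquiv.refl K) :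
    Nat.card (fix s) * Nat.card (fix s) = Nat.card K := by
  let T : K →+ K :=
    { toFun := fun k => k + s k
      map_zero' := by rw [map_zero, add_zero]
      map_add' := fun a b => by rw [map_add]; ring }
  have hk : T.ker = fix s := by
    ext k
    rw [AddMonoidHom.mem_ker, mem_fix]
    constructor
    · intro h
      exact (eq_of_add_eq_zero (show k + s k = 0 from h)).symm
    · intro h
      show k + s k = 0
      rw [h, add_self]
  have hr : T.range = fix s := by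
    ext k
    rw [AddMonoidHom.mem_range, mem_fix]
    constructor
    · rintro ⟨y, rfl⟩
      show s (y + s y) = y + s y
      rw [map_add, hs, add_comm]
    · intro h
      obtain ⟨y, hy⟩ := exists_trace hs hne h
      exact ⟨y, hy⟩
  have h1 := AddSubgroup.card_eq_card_quotient_mul_card_addSubgroup T.ker
  have h2 : Nat.card (K ⧸ T.ker) = Nat.card T.range :=
    Nat.card_congr (QuotientAddGroup.quotientKerEquivRange T).toEquiv
  rw [h2, hk, hr] at h1
  exact h1.symm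

end MField

open MField

namespace Model

variable {G : Type*} [Group G] {K : Type*} [Field K] [CharP K 2] {s : K ≃+* K}
  {V L : Subgroup G} {m : Model K s V L} {H1 : Subgroup G}

section Inv

variable [Finite K] {ζ : Kˣ} {h : L} (S : Std m H1 ζ h)
  (hs : ∀ k, s (s k) = k) (hne : s ≠ RingEquiv.refl K)

include hs hne in
/-- Either trivial or `s`, for a field automorphism of order at most two. -/
theorem aut_eq_one_or {g : m.NS H1} (h2 : aut S g * aut S g = 1) :
    aut S g = 1 ∨ aut S g = s := by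
  by_cases h1 : aut S g = 1
  · exact Or.inl h1
  · right
    refine eq_of_involutions hs hne ?_ h1
    intro k
    exact RingEquiv.congr_fun h2 k

/-! ### The action on `V` -/

/-- Conjugation on `V`. -/
def cv {g : G} (hg : g ∈ m.NS H1) (v : V) : V := ⟨g * v * g⁻¹, conj_mem (NS.nV hg) v.2⟩

theorem coe_cv {g : G} (hg : g ∈ m.NS H1) (v : V) : (cv hg v : G) = g * v * g⁻¹ := rfl

theorem cv_cg {g : G} (hg : g ∈ m.NS H1) (x : L) (v : V) :
    cv hg (m.cg x v) = m.cg (gc (NS.nL hg) x) (cv hg v) := by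
  apply Subtype.ext
  show g * ((x : G) * v * (x : G)⁻¹) * g⁻¹ =
    (g * x * g⁻¹) * (g * v * g⁻¹) * (g * x * g⁻¹)⁻¹
  group

include hs hne in
theorem normZ {g : G} (hg : g ∈ m.NS H1) {z : G} (hz : z ∈ m.Z) : g * z * g⁻¹ ∈ m.Z := by
  rw [m.memZ hs hne] at hz ⊢
  refine ⟨conj_mem (NS.nV hg) hz.1, fun u hu => ?_⟩
  have h1 := hz.2 _ (conj_mem' (NS.nU hg) hu)
  calc g * z * g⁻¹ * u = g * (z * (g⁻¹ * u * g)) * g⁻¹ := by group
    _ = g * ((g⁻¹ * u * g) * z) * g⁻¹ := by rw [h1]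
    _ = u * (g * z * g⁻¹) := by group

include S hs hne in
/-- An involution acting as `s` centralises `Z`. -/
theorem cent_Z {g : G} (hg : g ∈ m.NS H1) {c : K} (hA : IsAut m H1 g s c) (hgg : g * g = 1) :
    ∀ z ∈ m.Z, g * z = z * g := by
  obtain ⟨v1, a1, b1, c1⟩ := m.exists_v hs 0 (map_one s) (map_zero s)
  have hz1 : (v1 : G) ∈ m.Z := m.coe_mem_Z.2 ⟨b1, c1⟩
  set γ := m.a (cv hg v1) with hγ
  have key : ∀ v : V, (v : G) ∈ m.Z → m.a (cv hg v) = m.a v * γ := by
    intro v hv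
    obtain ⟨hb, hc⟩ := m.coe_mem_Z.1 hv
    by_cases ha : m.a v = 0
    · have : v = 1 := m.eq_one ha hb hc
      have h1 : cv hg v = 1 := by
        apply Subtype.ext
        rw [coe_cv, this]
        show g * 1 * g⁻¹ = 1
        group
      rw [h1, ha, m.a_one, zero_mul]
    · obtain ⟨t, ht⟩ := exists_norm (m.s_a v)
      have ht0 : t ≠ 0 := by
        intro h0
        rw [h0, zero_mul] at ht
        exact ha ht.symm
      obtain ⟨x, hx, hxT⟩ := S.onto t ht0
      have hv1 : v = m.cg x v1 := by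
        obtain ⟨e1, e2, e3⟩ := hxT.act v1
        exact m.ext' (by rw [e1, a1, mul_one, ht]) (by rw [e2, b1, mul_zero, hb])
          (by rw [e3, c1, mul_zero, hc])
      rw [hv1, cv_cg]
      have hgT := hA.torus x hx t hxT (gc (NS.nL hg) x) rfl
      rw [(hgT.act (cv hg v1)).1, hs, ← hv1, ← ht, mul_comm (s t) t]
  have hγ1 : γ = 1 := by
    have h1 : (cv hg v1 : G) ∈ m.Z := normZ hs hne hg hz1
    have h2 := key _ h1
    have h3 : cv hg (cv hg v1) = v1 := by
      apply Subtype.ext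
      rw [coe_cv, coe_cv]
      have : g⁻¹ = g := inv_eq_of_mul_eq_one_right hgg
      rw [this]
      calc g * (g * v1 * g) * g = (g * g) * v1 * (g * g) := by group
        _ = v1 := by rw [hgg, one_mul, mul_one]
    rw [h3, a1, ← hγ] at h2
    exact mul_self_inj (by rw [mul_one]; exact h2.symm)
  intro z hz
  have hzV := m.ZV hz
  lift z to V using hzV
  have h1 : (cv hg z : G) ∈ m.Z := normZ hs hne hg hz
  have h2 : cv hg z = z := by
    obtain ⟨b2, c2⟩ := m.coe_mem_Z.1 h1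
    obtain ⟨b3, c3⟩ := m.coe_mem_Z.1 hz
    exact m.ext' (by rw [key z hz, hγ1, mul_one]) (by rw [b2, b3]) (by rw [c2, c3])
  have h3 : g * (z : G) * g⁻¹ = z := congrArg Subtype.val h2
  calc g * (z : G) = g * (z : G) * g⁻¹ * g := by group
    _ = z * g := by rw [h3]

/-! ### The reflection -/

include S in
theorem zpow_conj {g : G} (hg : g ∈ m.NS H1) : ∃ k : ℤ, (h : G) = (g * h * g⁻¹) ^ k := by
  obtain ⟨k, hk⟩ := S.gen _ (conj_mem' (NS.nH hg) S.mem)
  refine ⟨k, ?_⟩
  have h1 : (g * (h : G) * g⁻¹) ^ k = g * (h : G) ^ k * g⁻¹ := by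
    have := map_zpow (MulAut.conj g) (h : G) k
    simpa using this.symm
  rw [h1, ← hk]
  group

include S hne in
/-- An element inverting the torus is antidiagonal. -/
theorem isN_of_inv {y : L} (hy : y * h * y⁻¹ = h⁻¹) : m.IsN (m.P y 0 1) y := by
  have h1 : y * h = h⁻¹ * y := by rw [← hy]; group
  obtain ⟨h0, t1, t2, t3, t4⟩ := S.T
  obtain ⟨-, r1, r2, r3, r4⟩ := S.T.inv
  have hζ : (ζ : K) + (ζ : K)⁻¹ ≠ 0 := by
    intro h2
    have h3 := eq_of_add_eq_zero h2
    have h4 : (ζ : K) * ζ = 1 * 1 := by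
      nth_rewrite 2 [h3]
      rw [mul_inv_cancel₀ h0, mul_one]
    exact S.ζ_one hne (mul_self_inj h4)
  have e00 : m.P y 0 0 = 0 := by
    have h2 : m.P (y * h) 0 0 = m.P (h⁻¹ * y) 0 0 := by rw [h1]
    rw [m.P_mul, m.P_mul, t1, t3, r1, r2] at h2
    have h3 : m.P y 0 0 * ((ζ : K) + (ζ : K)⁻¹) = 0 := by
      have h4 : m.P y 0 0 * ((ζ : K) + (ζ : K)⁻¹) =
          (m.P y 0 0 * ζ + m.P y 0 1 * 0) + ((ζ : K)⁻¹ * m.P y 0 0 + 0 * m.P y 1 0) := by ring
      rw [h4, h2, add_self]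
    exact (mul_eq_zero.mp h3).resolve_right hζ
  have e11 : m.P y 1 1 = 0 := by
    have h2 : m.P (y * h) 1 1 = m.P (h⁻¹ * y) 1 1 := by rw [h1]
    rw [m.P_mul, m.P_mul, t2, t4, r3, r4, inv_inv] at h2
    have h3 : m.P y 1 1 * ((ζ : K) + (ζ : K)⁻¹) = 0 := by
      have h4 : m.P y 1 1 * ((ζ : K) + (ζ : K)⁻¹) =
          (m.P y 1 0 * 0 + m.P y 1 1 * (ζ : K)⁻¹) + (0 * m.P y 0 1 + ζ * m.P y 1 1) := by ring
      rw [h4, h2, add_self]
    exact (mul_eq_zero.mp h3).resolve_right hζ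
  have hd := m.P_det y
  rw [e00, zero_mul, zero_add] at hd
  refine ⟨left_ne_zero_of_mul_eq_one hd, e00, rfl, ?_, e11⟩
  exact eq_inv_of_mul_eq_one_right hd

include S hs hne in
/-- `g` normalises `Z^{n1}`. -/
theorem normE {g : G} (hg : g ∈ m.NS H1) {n : L} (hn : n * h * n⁻¹ = h⁻¹) {v : V}
    (hv : (v : G) ∈ cj (n : G) m.Z) : (cv hg v : G) ∈ cj (n : G) m.Z := by
  have hN := isN_of_inv S hne hn
  obtain ⟨k, hk⟩ := zpow_conj S hg
  have hgn : gc (NS.nL hg) n * h * (gc (NS.nL hg) n)⁻¹ = h⁻¹ := by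
    have e1 : h = (gc (NS.nL hg) h) ^ k := by
      apply Subtype.ext
      rw [Subgroup.coe_zpow]
      exact hk
    have e2 : gc (NS.nL hg) n * gc (NS.nL hg) h * (gc (NS.nL hg) n)⁻¹ = (gc (NS.nL hg) h)⁻¹ := by
      rw [← map_inv, ← map_mul, ← map_mul, hn, map_inv]
    have e3 : gc (NS.nL hg) n * (gc (NS.nL hg) h) ^ k * (gc (NS.nL hg) n)⁻¹ =
        (gc (NS.nL hg) n * gc (NS.nL hg) h * (gc (NS.nL hg) n)⁻¹) ^ k := by
      have := map_zpow (MulAut.conj (gc (NS.nL hg) n)) (gc (NS.nL hg) h) k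
      simpa using this
    calc gc (NS.nL hg) n * h * (gc (NS.nL hg) n)⁻¹
        = gc (NS.nL hg) n * (gc (NS.nL hg) h) ^ k * (gc (NS.nL hg) n)⁻¹ := by rw [← e1]
      _ = ((gc (NS.nL hg) h) ^ k)⁻¹ := by rw [e3, e2, inv_zpow]
      _ = h⁻¹ := by rw [← e1]
  have hgN := isN_of_inv S hne hgn
  rw [mem_cjZ hN]
  rw [← mem_cjZ hgN]
  rw [UFour.mem_cj] at hv ⊢
  have h1 := normZ hs hne hg hv
  have h2 : ((gc (NS.nL hg) n : L) : G)⁻¹ * (cv hg v : G) * ((gc (NS.nL hg) n : L) : G) =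
      g * ((n : G)⁻¹ * v * n) * g⁻¹ := by
    rw [coe_gc, coe_cv]
    group
  rw [h2]
  exact h1

include S hs hne in
/-- An involution acting as `s` centralises `Z^{n1}`. -/
theorem cent_E {g : G} (hg : g ∈ m.NS H1) {c : K} (hA : IsAut m H1 g s c) (hgg : g * g = 1)
    {n : L} (hn : n * h * n⁻¹ = h⁻¹) : ∀ z ∈ cj (n : G) m.Z, g * z = z * g := by
  have hN := isN_of_inv S hne hn
  obtain ⟨v1, a1, b1, c1⟩ := m.exists_v hs 0 (map_zero s) (map_one s)
  have hz1 : (v1 : G) ∈ cj (n : G) m.Z := (mem_cjZ hN).2 ⟨a1, b1⟩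
  set γ := m.c (cv hg v1) with hγ
  have key : ∀ v : V, (v : G) ∈ cj (n : G) m.Z → m.c (cv hg v) = m.c v * γ := by
    intro v hv
    obtain ⟨ha, hb⟩ := (mem_cjZ hN).1 hv
    by_cases hc : m.c v = 0
    · have : v = 1 := m.eq_one ha hb hc
      have h1 : cv hg v = 1 := by
        apply Subtype.ext
        rw [coe_cv, this]
        show g * 1 * g⁻¹ = 1
        group
      rw [h1, hc, m.c_one, zero_mul]
    · obtain ⟨t, ht⟩ := exists_norm (m.s_c v)
      have ht0 : t ≠ 0 := by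
        intro h0
        rw [h0, zero_mul] at ht
        exact hc ht.symm
      have hst0 : s t ≠ 0 := fun h0 => ht0 (s.injective (by rw [h0, map_zero]))
      obtain ⟨x, hx, hxT⟩ := S.onto t⁻¹ (inv_ne_zero ht0)
      have hv1 : v = m.cg x v1 := by
        obtain ⟨e1, e2, e3⟩ := hxT.act v1
        refine m.ext' (by rw [e1, a1, mul_zero, ha]) (by rw [e2, b1, mul_zero, hb]) ?_
        rw [e3, c1, mul_one, map_inv₀, inv_inv, inv_inv, ht]
      rw [hv1, cv_cg]
      have hgT := hA.torus x hx _ hxT (gc (NS.nL hg) x) rfl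
      rw [(hgT.act (cv hg v1)).2.2, hs, ← hv1, ← ht, map_inv₀, inv_inv, inv_inv, mul_comm (s t) t]
  have hγ1 : γ = 1 := by
    have h1 : (cv hg v1 : G) ∈ cj (n : G) m.Z := normE S hs hne hg hn hz1
    have h2 := key _ h1
    have h3 : cv hg (cv hg v1) = v1 := by
      apply Subtype.ext
      rw [coe_cv, coe_cv]
      have : g⁻¹ = g := inv_eq_of_mul_eq_one_right hgg
      rw [this]
      calc g * (g * v1 * g) * g = (g * g) * v1 * (g * g) := by group
        _ = v1 := by rw [hgg, one_mul, mul_one]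
    rw [h3, c1, ← hγ] at h2
    exact mul_self_inj (by rw [mul_one]; exact h2.symm)
  intro z hz
  have hzV : z ∈ V := by
    rw [UFour.mem_cj] at hz
    have h1 := m.ZV hz
    have h2 := conj_mem (m.norm n.2) h1
    have h3 : (n : G) * ((n : G)⁻¹ * z * n) * (n : G)⁻¹ = z := by group
    rwa [h3] at h2
  lift z to V using hzV
  have h1 : (cv hg z : G) ∈ cj (n : G) m.Z := normE S hs hne hg hn hz
  have h2 : cv hg z = z := by
    obtain ⟨b2, c2⟩ := (mem_cjZ hN).1 h1
    obtain ⟨b3, c3⟩ := (mem_cjZ hN).1 hz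
    exact m.ext' (by rw [b2, b3]) (by rw [c2, c3]) (by rw [key z hz, hγ1, mul_one])
  have h3 : g * (z : G) * g⁻¹ = z := congrArg Subtype.val h2
  calc g * (z : G) = g * (z : G) * g⁻¹ * g := by group
    _ = z * g := by rw [h3]

/-! ### Hilbert 90 -/

include hs hne in
/-- **Hilbert 90**: an element of `U g` with square in `V` is conjugate to `g` modulo `V`. -/
theorem exists_conj_mod {g : G} (hg : g ∈ m.NS H1) {c : K} (hA : IsAut m H1 g s c)
    (hgg : g * g = 1) {r : G} (hr : ∃ u ∈ m.U, r = u * g) (hrr : r * r ∈ V) :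
    ∃ u ∈ m.U, ∃ v ∈ V, r = v * (u * g * u⁻¹) := by
  have hginv : g⁻¹ = g := inv_eq_of_mul_eq_one_right hgg
  -- `c s(c) = 1`
  have hcc : c * s c = 1 := by
    have h1 := hA.mul hg hA
    have h2 : IsAut m H1 (g * g) (RingEquiv.refl K) 1 := by rw [hgg]; exact isAut_one
    exact (h1.unique (mul_mem hg hg) h2).2
  have hc0 : c ≠ 0 := hA.ne
  obtain ⟨_, ⟨u1, rfl, hu1⟩, hr'⟩ := hr
  set b := m.P u1 0 1 with hb
  -- `b = c s(b)`
  have hbc : b = c * s b := by
    obtain ⟨e1, e2⟩ := hA.unip u1 hu1 (gc (NS.nL hg) u1) rfl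
    have h1 : ((u1 * gc (NS.nL hg) u1 : L) : G) ∈ V := by
      have h2 : ((u1 * gc (NS.nL hg) u1 : L) : G) = r * r := by
        rw [hr', Subgroup.coe_mul, coe_gc]
        calc (u1 : G) * (g * u1 * g⁻¹) = (u1 : G) * (g * u1 * g) := by rw [hginv]
          _ = (u1 : G) * g * (u1 * g) := by group
      rw [h2]
      exact hrr
    have h3 := (hu1.mul e1).mem_V.1 h1
    rw [hu1.P_mul e1, e2] at h3
    exact eq_of_add_eq_zero h3
  -- `e` with `c s(e) = e`
  obtain ⟨e, he0, he⟩ : ∃ e : K, e ≠ 0 ∧ c * s e = e := by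
    have hall : ∀ k, c * s (k + c * s k) = k + c * s k := by
      intro k
      rw [map_add, map_mul, hs, mul_add, ← mul_assoc, hcc, one_mul, add_comm]
    by_contra hno
    push Not at hno
    have h1 : ∀ k, k + c * s k = 0 := fun k => by
      by_contra h0
      exact hno _ h0 (hall k)
    have h2 : c = 1 := by
      have := h1 1
      rw [map_one, mul_one] at this
      exact (eq_of_add_eq_zero this).symm
    obtain ⟨k, hk⟩ := exists_moved hne
    have h3 := eq_of_add_eq_zero (h1 k)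
    rw [h2, one_mul] at h3
    exact hk h3.symm
  have hse0 : s e ≠ 0 := fun h0 => he0 (s.injective (by rw [h0, map_zero]))
  have hfix : s (b * e⁻¹) = b * e⁻¹ := by
    rw [map_mul, map_inv₀]
    have h1 : b * e⁻¹ = (c * s b) * (c * s e)⁻¹ := by rw [he, ← hbc]
    rw [h1, mul_inv]
    field_simp
  obtain ⟨y, hy⟩ := exists_trace hs hne hfix
  obtain ⟨u, hu, huw⟩ := m.exists_U (e * y)
  refine ⟨u, m.mem_U.2 hu, r * (u * g * (u : G)⁻¹)⁻¹, ?_, by group⟩
  obtain ⟨f1, f2⟩ := hu.inv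
  obtain ⟨e1, e2⟩ := hA.unip u⁻¹ f1 (gc (NS.nL hg) u⁻¹) rfl
  have h1 : r * ((u : G) * g * (u : G)⁻¹)⁻¹ =
      ((u1 * (gc (NS.nL hg) u⁻¹)⁻¹ * u⁻¹ : L) : G) := by
    rw [hr', Subgroup.coe_mul, Subgroup.coe_mul, Subgroup.coe_inv, coe_gc, Subgroup.coe_inv]
    group
  rw [h1]
  obtain ⟨g1, g2⟩ := e1.inv
  rw [((hu1.mul g1).mul f1).mem_V, (hu1.mul g1).P_mul f1, hu1.P_mul g1, g2, e2, f2, huw, ← hb]
  have h4 : b = e * (y + s y) := by
    rw [hy]
    field_simp
  have h5 : c * s (e * y) = e * s y := by rw [map_mul, ← mul_assoc, he]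
  rw [h5, h4]
  have h6 : e * (y + s y) + e * s y + e * y = (e * y + e * y) + (e * s y + e * s y) := by ring
  rw [h6, add_self, add_self, add_zero]

end Inv

end Model

end Cfsg.Agent.RankTwoClose.UFour

end

section


/-!
# Orders of abelian subgroups of `U`

With `|K| = q^2`: `|V| = q^4`, `|Z| = q`, and an abelian subgroup of `U` which is not contained in `V`
has order at most `q^3`.
-/

set_option autoImplicit false
set_option linter.unusedSectionVars false

namespace Cfsg.Agent.RankTwoClose.UFour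

open MField

namespace Model

variable {G : Type*} [Group G] {K : Type*} [Field K] [CharP K 2] {s : K ≃+* K}
  {V L : Subgroup G} (m : Model K s V L)

section Card

variable [Finite K] (hs : ∀ k, s (s k) = k) (hne : s ≠ RingEquiv.refl K) {q : ℕ}
  (hq : Nat.card K = q ^ 2)

include hs hne hq in
theorem card_fix_eq : Nat.card (fix s) = q := by
  have h1 := card_fix hs hne
  rw [hq, ← pow_two] at h1
  exact Nat.pow_left_injective (n := 2) (by norm_num) h1

include m hs in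
/-- The order of `V`. -/
theorem card_V' : Nat.card V = Nat.card (fix s) * (Nat.card K * Nat.card (fix s)) := by
  have e : V ≃ fix s × (K × fix s) :=
    { toFun := fun v => (⟨m.a v, m.s_a v⟩, (m.b v, ⟨m.c v, m.s_c v⟩))
      invFun := fun x => Classical.choose (m.exists_v hs x.2.1 x.1.2 x.2.2.2)
      left_inv := fun v => by
        obtain ⟨h1, h2, h3⟩ := Classical.choose_spec (m.exists_v hs (m.b v) (m.s_a v) (m.s_c v))
        exact m.ext' h1 h2 h3
      right_inv := fun x => by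
        obtain ⟨h1, h2, h3⟩ := Classical.choose_spec (m.exists_v hs x.2.1 x.1.2 x.2.2.2)
        exact Prod.ext (Subtype.ext h1) (Prod.ext h2 (Subtype.ext h3)) }
  rw [Nat.card_congr e, Nat.card_prod, Nat.card_prod]

include m hs hne hq in
theorem card_V : Nat.card V = q ^ 4 := by
  rw [m.card_V' hs, card_fix_eq hs hne hq, hq]
  ring

include m hs in
theorem finite_V : Finite V := by
  apply Nat.finite_of_card_ne_zero
  rw [m.card_V' hs]
  have h1 : Nat.card (fix s) ≠ 0 := Nat.card_pos.ne'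
  have h2 : Nat.card K ≠ 0 := Nat.card_pos.ne'
  exact mul_ne_zero h1 (mul_ne_zero h2 h1)

include hs hne hq in
theorem card_Z : Nat.card m.Z = q := by
  rw [← card_fix_eq hs hne hq]
  have e : m.Z ≃ fix s :=
    { toFun := fun v => ⟨m.a ⟨v, m.ZV v.2⟩, m.s_a _⟩
      invFun := fun x => ⟨(Classical.choose (m.exists_v hs 0 x.2 (map_zero s)) : V), by
        obtain ⟨h1, h2, h3⟩ := Classical.choose_spec (m.exists_v hs 0 x.2 (map_zero s))
        exact m.coe_mem_Z.2 ⟨h2, h3⟩⟩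
      left_inv := fun v => by
        have hv := m.ZV v.2
        obtain ⟨h1, h2, h3⟩ := Classical.choose_spec
          (m.exists_v hs 0 (m.s_a ⟨v, hv⟩) (map_zero s))
        obtain ⟨g2, g3⟩ := (m.coe_mem_Z (v := ⟨v, hv⟩)).1 v.2
        have := m.ext' (v := Classical.choose (m.exists_v hs 0 (m.s_a ⟨v, hv⟩) (map_zero s)))
          (w := ⟨v, hv⟩) h1 (by rw [h2, g2]) (by rw [h3, g3])
        exact Subtype.ext (congrArg (fun x : V => (x : G)) this)
      right_inv := fun x => by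
        obtain ⟨h1, h2, h3⟩ := Classical.choose_spec (m.exists_v hs 0 x.2 (map_zero s))
        exact Subtype.ext h1 }
  exact Nat.card_congr e

variable {m}

/-- The centraliser in `V` of an element of `U`. -/
theorem IsU.comm_iff {u : L} (hu : m.IsU u) (h0 : m.P u 0 1 ≠ 0) (v : V) :
    (v : G) * u = u * v ↔ m.c v = 0 ∧ s (m.b v * (m.P u 0 1)⁻¹) = m.b v * (m.P u 0 1)⁻¹ := by
  rw [m.comm_iff]
  obtain ⟨h1, h2, h3⟩ := hu.act v
  set w := m.P u 0 1 with hw
  have hsw : s w ≠ 0 := fun h => h0 (s.injective (by rw [h, map_zero]))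
  constructor
  · intro h
    rw [h] at h1 h2
    have hc : m.c v = 0 := by
      have := left_eq_add.mp h2
      exact (mul_eq_zero.mp this).resolve_left h0
    refine ⟨hc, ?_⟩
    rw [hc, mul_zero, add_zero] at h1
    have h4 := eq_of_add_eq_zero (left_eq_add.mp h1)
    rw [map_mul, map_inv₀]
    field_simp
    rw [mul_comm (s (m.b v)), ← h4, mul_comm]
  · rintro ⟨hc, hb⟩
    refine m.ext' ?_ ?_ h3
    · rw [h1, hc, mul_zero, add_zero]
      have h4 : s w * m.b v = w * s (m.b v) := by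
        rw [map_mul, map_inv₀] at hb
        field_simp at hb
        rw [mul_comm w]
        exact hb.symm
      rw [h4, add_self, add_zero]
    · rw [h2, hc, mul_zero, add_zero]

variable (m)

include hs hne hq in
/-- **An abelian subgroup of `U` not contained in `V` has order at most `q^3`.** -/
theorem card_le {A : Subgroup G} (hAU : A ≤ m.U) (hA : ∀ a ∈ A, ∀ b ∈ A, a * b = b * a)
    (hAV : ¬ A ≤ V) : Nat.card A ≤ q ^ 3 := by
  classical
  have := m.finite_V hs
  have hqpos : 0 < q := by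
    rw [← card_fix_eq hs hne hq]
    exact Nat.card_pos
  -- the homomorphism into `K`
  let p : A →* Multiplicative K :=
    { toFun := fun x => Multiplicative.ofAdd (m.P ⟨x, m.UL (hAU x.2)⟩ 0 1)
      map_one' := by
        have : (⟨((1 : A) : G), m.UL (hAU (1 : A).2)⟩ : L) = 1 := rfl
        rw [this, m.P_one]
        rfl
      map_mul' := fun x y => by
        have hx : m.IsU ⟨x, m.UL (hAU x.2)⟩ := m.mem_U.1 (hAU x.2)
        have hy : m.IsU ⟨y, m.UL (hAU y.2)⟩ := m.mem_U.1 (hAU y.2)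
        have : (⟨((x * y : A) : G), m.UL (hAU (x * y).2)⟩ : L) =
          ⟨x, m.UL (hAU x.2)⟩ * ⟨y, m.UL (hAU y.2)⟩ := rfl
        rw [this, hx.P_mul hy]
        rfl }
  have hp : ∀ x : A, p x = Multiplicative.ofAdd (m.P ⟨x, m.UL (hAU x.2)⟩ 0 1) := fun x => rfl
  have hker : ∀ x : A, x ∈ p.ker ↔ (x : G) ∈ V := by
    intro x
    have hx : m.IsU ⟨x, m.UL (hAU x.2)⟩ := m.mem_U.1 (hAU x.2)
    rw [MonoidHom.mem_ker, hp, ofAdd_eq_one]
    exact hx.mem_V.symm
  have hcard : Nat.card A = Nat.card p.range * Nat.card p.ker := by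
    rw [Subgroup.card_eq_card_quotient_mul_card_subgroup p.ker,
      Nat.card_congr (QuotientGroup.quotientKerEquivRange p).toEquiv]
  -- an element outside `V`
  obtain ⟨a0, ha0, ha0V⟩ : ∃ a ∈ A, a ∉ V := by
    by_contra hno
    push Not at hno
    exact hAV hno
  have hU0 : m.IsU ⟨a0, m.UL (hAU ha0)⟩ := m.mem_U.1 (hAU ha0)
  set w0 := m.P ⟨a0, m.UL (hAU ha0)⟩ 0 1 with hw0
  have hw00 : w0 ≠ 0 := fun h => ha0V (hU0.mem_V.2 h)
  -- centralisers
  have hcent : ∀ (a : G) (ha : a ∈ A) (x : A) (hx : (x : G) ∈ V),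
      m.P ⟨a, m.UL (hAU ha)⟩ 0 1 ≠ 0 → m.c ⟨x, hx⟩ = 0 ∧
        s (m.b ⟨x, hx⟩ * (m.P ⟨a, m.UL (hAU ha)⟩ 0 1)⁻¹) =
          m.b ⟨x, hx⟩ * (m.P ⟨a, m.UL (hAU ha)⟩ 0 1)⁻¹ := by
    intro a ha x hx h0
    have hU : m.IsU ⟨a, m.UL (hAU ha)⟩ := m.mem_U.1 (hAU ha)
    exact (hU.comm_iff h0 ⟨x, hx⟩).1 (hA _ x.2 _ ha)
  by_cases hF : ∀ x : A, s (Multiplicative.toAdd (p x) * w0⁻¹) = Multiplicative.toAdd (p x) * w0⁻¹
  · -- `|A V / V| ≤ q`
    have h1 : Nat.card p.range ≤ q := by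
      rw [← card_fix_eq hs hne hq]
      let f : p.range → fix s := fun y => ⟨Multiplicative.toAdd (y : Multiplicative K) * w0⁻¹, by
        obtain ⟨x, hx⟩ := y.2
        rw [mem_fix, ← hx]
        exact hF x⟩
      refine Nat.card_le_card_of_injective f ?_
      intro y y' hyy
      have h2 : Multiplicative.toAdd (y : Multiplicative K) * w0⁻¹ =
        Multiplicative.toAdd (y' : Multiplicative K) * w0⁻¹ := congrArg Subtype.val hyy
      have h3 := mul_right_cancel₀ (inv_ne_zero hw00) h2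
      exact Subtype.ext (Multiplicative.toAdd.injective h3)
    have h2 : Nat.card p.ker ≤ q ^ 2 := by
      let f : p.ker → fix s × fix s := fun x =>
        (⟨m.a ⟨x, (hker x).1 x.2⟩, m.s_a _⟩,
          ⟨m.b ⟨x, (hker x).1 x.2⟩ * w0⁻¹, (hcent a0 ha0 x ((hker x).1 x.2) hw00).2⟩)
      have hf : Function.Injective f := by
        intro x y hxy
        have e1 : m.a ⟨x, (hker x).1 x.2⟩ = m.a ⟨y, (hker y).1 y.2⟩ :=
          congrArg Subtype.val (congrArg Prod.fst hxy)
        have e2 : m.b ⟨x, (hker x).1 x.2⟩ * w0⁻¹ = m.b ⟨y, (hker y).1 y.2⟩ * w0⁻¹ :=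
          congrArg Subtype.val (congrArg Prod.snd hxy)
        have e3 := mul_right_cancel₀ (inv_ne_zero hw00) e2
        have c1 := (hcent a0 ha0 x ((hker x).1 x.2) hw00).1
        have c2 := (hcent a0 ha0 y ((hker y).1 y.2) hw00).1
        have e4 := m.ext' e1 e3 (by rw [c1, c2])
        have e5 : ((x : A) : G) = y := congrArg (fun v : V => (v : G)) e4
        exact Subtype.ext (Subtype.ext e5)
      have h3 := Nat.card_le_card_of_injective f hf
      rw [Nat.card_prod, card_fix_eq hs hne hq, ← pow_two] at h3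
      exact h3
    rw [hcard]
    calc Nat.card p.range * Nat.card p.ker ≤ q * q ^ 2 := Nat.mul_le_mul h1 h2
      _ = q ^ 3 := by ring
  · push Not at hF
    obtain ⟨x1, hx1⟩ := hF
    set w1 := m.P ⟨x1, m.UL (hAU x1.2)⟩ 0 1 with hw1
    have hpx : Multiplicative.toAdd (p x1) = w1 := rfl
    rw [hpx] at hx1
    have hw10 : w1 ≠ 0 := by
      intro h
      apply hx1
      rw [h, zero_mul, map_zero]
    have h1 : Nat.card p.range ≤ q ^ 2 := by
      rw [← hq]
      exact Nat.card_le_card_of_injective (fun y : p.range => Multiplicative.toAdd (y : Multiplicative K))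
        (fun y y' h => Subtype.ext (Multiplicative.toAdd.injective h))
    have h2 : Nat.card p.ker ≤ q := by
      rw [← card_fix_eq hs hne hq]
      -- `b = 0`
      have hb : ∀ (x : A) (hx : (x : G) ∈ V), m.b ⟨x, hx⟩ = 0 := by
        intro x hx
        by_contra hb
        have e1 := (hcent a0 ha0 x hx hw00).2
        have e2 := (hcent x1 x1.2 x hx hw10).2
        apply hx1
        have e3 : w1 * w0⁻¹ = (m.b ⟨x, hx⟩ * w0⁻¹) * (m.b ⟨x, hx⟩ * w1⁻¹)⁻¹ := by
          rw [mul_inv, inv_inv]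
          field_simp
        rw [e3, map_mul, map_inv₀]
        exact congrArg₂ (fun a b => a * b⁻¹) e1 e2
      refine Nat.card_le_card_of_injective
        (fun x : p.ker => (⟨m.a ⟨x, (hker x).1 x.2⟩, m.s_a _⟩ : fix s)) ?_
      intro x y hxy
      have e1 : m.a ⟨x, (hker x).1 x.2⟩ = m.a ⟨y, (hker y).1 y.2⟩ := congrArg Subtype.val hxy
      have c1 := (hcent a0 ha0 x ((hker x).1 x.2) hw00).1
      have c2 := (hcent a0 ha0 y ((hker y).1 y.2) hw00).1
      have e4 := m.ext' e1 (by rw [hb, hb]) (by rw [c1, c2])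
      have e5 : ((x : A) : G) = y := congrArg (fun v : V => (v : G)) e4
      exact Subtype.ext (Subtype.ext e5)
    rw [hcard]
    calc Nat.card p.range * Nat.card p.ker ≤ q ^ 2 * q := Nat.mul_le_mul h1 h2
      _ = q ^ 3 := by ring

include hs hne hq in
/-- An abelian subgroup of `U` of order at least `q^4` is `V`. -/
theorem eq_V_of_card {A : Subgroup G} (hAU : A ≤ m.U) (hA : ∀ a ∈ A, ∀ b ∈ A, a * b = b * a)
    (hcard : q ^ 4 ≤ Nat.card A) : A = V := by
  have := m.finite_V hs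
  have hq2 : 2 ≤ q := by
    have h1 : 1 < Nat.card K := Finite.one_lt_card
    rw [hq] at h1
    by_contra h
    have : q = 0 ∨ q = 1 := by omega
    rcases this with h | h <;> rw [h] at h1 <;> norm_num at h1
  have hAV : A ≤ V := by
    by_contra h
    have h1 := m.card_le hs hne hq hAU hA h
    have h2 : q ^ 3 < q ^ 4 := Nat.pow_lt_pow_right hq2 (by norm_num)
    omega
  exact Subgroup.eq_of_le_of_card_ge hAV (by rw [m.card_V hs hne hq]; exact hcard)

end Card

end Model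

end Cfsg.Agent.RankTwoClose.UFour

end

section


/-!
# Further facts on the natural `O4^-(q)`-module

`[Y, u] = Z` for `u ∈ U - V`, `|Y| = q^3`, and `|C_V(g)| ≤ q^3` for an involution `g` acting as `s` on the
torus.
-/

set_option autoImplicit false
set_option linter.unusedSectionVars false

namespace Cfsg.Agent.RankTwoClose.UFour

open MField

namespace Model

variable {G : Type*} [Group G] {K : Type*} [Field K] [CharP K 2] {s : K ≃+* K}
  {V L : Subgroup G} (m : Model K s V L)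

section Ext

variable (hs : ∀ k, s (s k) = k) (hne : s ≠ RingEquiv.refl K)

include hs hne in
/-- `[Y, u] = Z`. -/
theorem yz : ∀ u ∈ m.U, u ∉ V → ∀ z ∈ m.Z, ∃ y ∈ m.Y, y * u * y⁻¹ * u⁻¹ = z := by
  rintro _ ⟨u, rfl, hu⟩ huV z hz
  have hw : m.P u 0 1 ≠ 0 := fun h => huV (hu.mem_V.2 h)
  have hsw : s (m.P u 0 1) ≠ 0 := fun h => hw (s.injective (by rw [h, map_zero]))
  obtain ⟨z, rfl, hb, hc⟩ := hz
  obtain ⟨k, hk⟩ := exists_trace hs hne (m.s_a z)
  obtain ⟨v, v1, v2, v3⟩ := m.exists_v hs (k * (s (m.P u 0 1))⁻¹) (map_zero s) (map_zero s)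
  refine ⟨v, m.coe_mem_Y.2 v3, ?_⟩
  rw [m.comm_eq]
  congr 1
  obtain ⟨h1, h2, h3⟩ := hu.act v
  refine m.ext' ?_ ?_ ?_
  · rw [m.a_mul, h1, v1, v2, v3, ← hk, map_mul, map_inv₀, hs]
    field_simp
    ring
  · rw [m.b_mul, h2, v3, mul_zero, add_zero, add_self, hb]
  · rw [m.c_mul, h3, v3, add_zero, hc]

variable [Finite K] {q : ℕ} (hq : Nat.card K = q ^ 2)

include hs hne hq in
theorem card_Y : Nat.card m.Y = q ^ 3 := by
  have e : m.Y ≃ fix s × K :=
    { toFun := fun v => (⟨m.a ⟨v, m.YV v.2⟩, m.s_a _⟩, m.b ⟨v, m.YV v.2⟩)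
      invFun := fun x => ⟨(Classical.choose (m.exists_v hs x.2 x.1.2 (map_zero s)) : V), by
        obtain ⟨h1, h2, h3⟩ := Classical.choose_spec (m.exists_v hs x.2 x.1.2 (map_zero s))
        exact m.coe_mem_Y.2 h3⟩
      left_inv := fun v => by
        have hv := m.YV v.2
        obtain ⟨h1, h2, h3⟩ := Classical.choose_spec
          (m.exists_v hs (m.b ⟨v, hv⟩) (m.s_a ⟨v, hv⟩) (map_zero s))
        have g3 := (m.coe_mem_Y (v := ⟨v, hv⟩)).1 v.2
        have := m.ext' (w := ⟨v, hv⟩) h1 h2 (by rw [h3, g3])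
        exact Subtype.ext (congrArg (fun x : V => (x : G)) this)
      right_inv := fun x => by
        obtain ⟨h1, h2, h3⟩ := Classical.choose_spec (m.exists_v hs x.2 x.1.2 (map_zero s))
        exact Prod.ext (Subtype.ext h1) h2 }
  rw [Nat.card_congr e, Nat.card_prod, card_fix_eq hs hne hq, hq]
  ring

include hs hne hq in
theorem card_Y_le : Nat.card m.Y ≤ Nat.card m.Z ^ 3 := by
  rw [m.card_Y hs hne hq, m.card_Z hs hne hq]

variable {m} {H1 : Subgroup G} {ζ : Kˣ} {h : L} (S : Std m H1 ζ h)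

include S hs hne hq in
/-- The fixed points on `V` of an involution acting as `s`. -/
theorem card_centralizer_le {g : G} (hg : g ∈ m.NS H1) {c : K} (hA : IsAut m H1 g s c)
    (hgg : g * g = 1) : Nat.card (V ⊓ Subgroup.centralizer {g} : Subgroup G) ≤ q ^ 3 := by
  classical
  have := m.finite_V hs
  have hcZ := cent_Z S hs hne hg hA hgg
  set C : Subgroup G := V ⊓ Subgroup.centralizer {g} with hC
  have hCV : C ≤ V := inf_le_left
  have hCg : ∀ v ∈ C, g * v = v * g := fun v hv =>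
    Subgroup.mem_centralizer_iff.1 (Subgroup.mem_inf.1 hv).2 g (Set.mem_singleton g)
  -- the `b`-coordinate of the fixed points in `Y`
  have hb : ∀ v : V, (v : G) ∈ C → m.c v = 0 → s (m.b v) = s c * m.b v := by
    intro v hv hc
    have key : ∀ w : K, s w * (c * s (m.b v) + m.b v) + w * s (c * s (m.b v) + m.b v) = 0 := by
      intro w
      obtain ⟨u, hu, huw⟩ := m.exists_U w
      obtain ⟨e1, e2⟩ := hA.unip u hu (gc (NS.nL hg) u) rfl
      rw [huw] at e2
      obtain ⟨h1, h2, h3⟩ := hu.act v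
      obtain ⟨k1, k2, k3⟩ := e1.act v
      -- the commutators agree
      have hz : ((v * m.cg u v : V) : G) ∈ m.Z := m.coe_mem_Z.2
        ⟨by rw [m.b_mul, h2, hc, mul_zero, add_zero, add_self], by rw [m.c_mul, h3, hc, add_zero]⟩
      have h4 : g * ((v * m.cg u v : V) : G) * g⁻¹ = ((v * m.cg u v : V) : G) := by
        rw [hcZ _ hz, mul_inv_cancel_right]
      have h5 : g * ((v * m.cg u v : V) : G) * g⁻¹ = ((v * m.cg (gc (NS.nL hg) u) v : V) : G) := by
        have hv' : g * (v : G) * g⁻¹ = v := by rw [hCg _ hv, mul_inv_cancel_right]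
        show g * ((v : G) * ((u : G) * v * (u : G)⁻¹)) * g⁻¹ =
          (v : G) * ((g * u * g⁻¹) * v * (g * u * g⁻¹)⁻¹)
        calc g * ((v : G) * ((u : G) * v * (u : G)⁻¹)) * g⁻¹
            = (g * (v : G) * g⁻¹) * ((g * u * g⁻¹) * (g * (v : G) * g⁻¹) * (g * u * g⁻¹)⁻¹) := by
              group
          _ = _ := by rw [hv']
      have h6 : m.a (v * m.cg (gc (NS.nL hg) u) v) = m.a (v * m.cg u v) := by
        congr 1
        exact Subtype.ext (h5.symm.trans h4)
      rw [m.a_mul, m.a_mul, h1, k1, hc, e2, huw] at h6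
      simp only [map_mul, hs, mul_zero, add_zero] at h6
      have h7 := add_left_cancel (add_left_cancel h6)
      -- `h7 : s c * w * b + c * s w * s b = s w * b + w * s b`
      have h8 : s w * (c * s (m.b v) + m.b v) + w * s (c * s (m.b v) + m.b v) =
          (s c * w * m.b v + c * s w * s (m.b v)) + (s w * m.b v + w * s (m.b v)) := by
        rw [map_add, map_mul, hs]
        ring
      rw [h8, h7, add_self]
    have h1 := eq_of_add_eq_zero (trace_nondeg hs hne key)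
    have h2 := congrArg s h1
    rw [map_mul, hs] at h2
    exact h2.symm
  -- the homomorphism
  let p : C →* Multiplicative K :=
    { toFun := fun x => Multiplicative.ofAdd (m.c ⟨x, hCV x.2⟩)
      map_one' := by
        have : (⟨((1 : C) : G), hCV (1 : C).2⟩ : V) = 1 := rfl
        rw [this, m.c_one]
        rfl
      map_mul' := fun x y => by
        have : (⟨((x * y : C) : G), hCV (x * y).2⟩ : V) = ⟨x, hCV x.2⟩ * ⟨y, hCV y.2⟩ := rfl
        rw [this, m.c_mul]
        rfl }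
  have hker : ∀ x : p.ker, m.c ⟨x, hCV (x : C).2⟩ = 0 := fun x =>
    Multiplicative.ofAdd.injective (MonoidHom.mem_ker.1 x.2)
  have hcard : Nat.card C = Nat.card p.range * Nat.card p.ker := by
    rw [Subgroup.card_eq_card_quotient_mul_card_subgroup p.ker,
      Nat.card_congr (QuotientGroup.quotientKerEquivRange p).toEquiv]
  have h1 : Nat.card p.range ≤ q := by
    rw [← card_fix_eq hs hne hq]
    refine Nat.card_le_card_of_injective
      (fun y : p.range => (⟨Multiplicative.toAdd (y : Multiplicative K), ?_⟩ : fix s)) ?_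
    · obtain ⟨x, hx⟩ := y.2
      rw [mem_fix, ← hx]
      exact m.s_c _
    · intro y y' hyy
      exact Subtype.ext (Multiplicative.toAdd.injective
        (congrArg (fun x : fix s => (x : K)) hyy))
  have h2 : Nat.card p.ker ≤ q ^ 2 := by
    by_cases hall : ∀ x : p.ker, m.b ⟨x, hCV (x : C).2⟩ = 0
    · have h3 : Nat.card p.ker ≤ q := by
        rw [← card_fix_eq hs hne hq]
        refine Nat.card_le_card_of_injective
          (fun x : p.ker => (⟨m.a ⟨x, hCV (x : C).2⟩, m.s_a _⟩ : fix s)) ?_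
        intro x y hxy
        have e1 : m.a ⟨x, hCV (x : C).2⟩ = m.a ⟨y, hCV (y : C).2⟩ := congrArg Subtype.val hxy
        have e4 := m.ext' e1 (by rw [hall x, hall y]) (by rw [hker x, hker y])
        have e5 : ((x : C) : G) = y := congrArg (fun v : V => (v : G)) e4
        exact Subtype.ext (Subtype.ext e5)
      refine h3.trans ?_
      rw [pow_two]
      exact Nat.le_mul_self q
    · push Not at hall
      obtain ⟨x0, hx0⟩ := hall
      have hb0 := hb ⟨x0, hCV (x0 : C).2⟩ (x0 : C).2 (hker x0)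
      set b0 := m.b ⟨x0, hCV (x0 : C).2⟩ with hb0d
      have hfix : ∀ x : p.ker, s (m.b ⟨x, hCV (x : C).2⟩ * b0⁻¹) = m.b ⟨x, hCV (x : C).2⟩ * b0⁻¹ := by
        intro x
        rw [map_mul, map_inv₀, hb0, hb ⟨x, hCV (x : C).2⟩ (x : C).2 (hker x)]
        have hsc : s c ≠ 0 := fun h => hA.ne (s.injective (by rw [h, map_zero]))
        field_simp
      have h3 := Nat.card_le_card_of_injective
        (fun x : p.ker => ((⟨m.a ⟨x, hCV (x : C).2⟩, m.s_a _⟩ : fix s),
          (⟨m.b ⟨x, hCV (x : C).2⟩ * b0⁻¹, hfix x⟩ : fix s))) (by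
        intro x y hxy
        have e1 : m.a ⟨x, hCV (x : C).2⟩ = m.a ⟨y, hCV (y : C).2⟩ :=
          congrArg Subtype.val (congrArg Prod.fst hxy)
        have e2 : m.b ⟨x, hCV (x : C).2⟩ * b0⁻¹ = m.b ⟨y, hCV (y : C).2⟩ * b0⁻¹ :=
          congrArg Subtype.val (congrArg Prod.snd hxy)
        have e3 := mul_right_cancel₀ (inv_ne_zero hx0) e2
        have e4 := m.ext' e1 e3 (by rw [hker x, hker y])
        have e5 : ((x : C) : G) = y := congrArg (fun v : V => (v : G)) e4
        exact Subtype.ext (Subtype.ext e5))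
      rw [Nat.card_prod, card_fix_eq hs hne hq, ← pow_two] at h3
      exact h3
  rw [hcard]
  calc Nat.card p.range * Nat.card p.ker ≤ q * q ^ 2 := Nat.mul_le_mul h1 h2
    _ = q ^ 3 := by ring

end Ext

end Model

end Cfsg.Agent.RankTwoClose.UFour

end
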