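import Mathlib
import Cfsg.Agent.Mrg.RankTwoClose.UFour.All
import Cfsg.Agent.Mrg.RankTwoClose.RankOneOf
import Cfsg.Agent.Mrg.RankTwoClose.UFour.Close

section


/-!
# Type `U4(q)`: the facts `Ext` on `S` and `V`

`S = U N_S(H)`, and elements of `N_S(H)` centralising `H ∩ L1` are trivial.
-/

set_option autoImplicit false
set_option linter.unusedSectionVars false

namespace Cfsg.Agent.RankTwoClose.UFour.Data

universe u

variable {G : Type u} [Group G] {S V U Z Y L1 L2 Q H A0 H1 : Subgroup G} {n1 n2 : G}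

/-- `S = U N_S(H)`. -/
theorem exists_norm_H [Finite G] (D : Data S V U Z Y L1 L2 Q H A0 n1 n2)
    (hH : H ≤ (L1 ⊓ Subgroup.normalizer (U : Set G)) ⊔ (L2 ⊓ Subgroup.normalizer (U : Set G)))
    {s : G} (hs : s ∈ S) : ∃ u ∈ U, u * s ∈ Subgroup.normalizer (H : Set G) := by
  have : Fact (Nat.Prime 2) := ⟨Nat.prime_two⟩
  have hU2 : (Nat.card H).Coprime (Nat.card U) := by
    obtain ⟨k, hk⟩ := (IsPGroup.iff_card (p := 2)).mp D.twoU
    rw [hk]
    exact Nat.Coprime.pow_right k (Nat.coprime_two_right.mpr D.odd)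
  have hUs : Group.IsSolvable U := by
    have := D.twoU.isNilpotent
    infer_instance
  set B := (L1 ⊓ Subgroup.normalizer (U : Set G)) ⊔ (L2 ⊓ Subgroup.normalizer (U : Set G)) with hB
  have hBUH : B ≤ H ⊔ U := by
    rw [sup_comm]
    refine sup_le ?_ ?_
    · exact fun g hg => D.borel1 g hg.1 (mem_norm_iff.mp hg.2)
    · exact fun g hg => D.borel2 g hg.1 (mem_norm_iff.mp hg.2)
  have hsU : cj s (Subgroup.normalizer (U : Set G)) = Subgroup.normalizer (U : Set G) :=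
    cj_eq_of_mem (D.SU hs)
  have hsB : cj s B = B := by
    rw [hB, cj_sup, cj_inf, cj_inf, mem_norm_iff.mp (D.SL1 hs), mem_norm_iff.mp (D.SL2 hs), hsU]
  have h1 : cj s H ≤ H ⊔ U := by
    have := cj_mono (g := s) hH
    rw [hsB] at this
    exact this.trans hBUH
  obtain ⟨u, hu, hu1⟩ := Solvable.Glauberman.exists_conj_of_le_sup H U D.HU hU2 (Or.inr hUs)
    (cj s H) h1 (card_cj _ _)
  have hu2 : cj u H = cj s H := hu1
  refine ⟨u⁻¹, inv_mem hu, mem_norm_iff.mpr ?_⟩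
  rw [cj_mul, ← hu2, cj_inv_cj]

/-- An element of `S` centralising `H1 = H ∩ L1` is trivial. -/
theorem eq_one_of_cent [Finite G] (D : Data S V U Z Y L1 L2 Q H A0 n1 n2)
    (P : PartOne V U Z Y L1 H1 A0 n1) {g : G} (hg : g ∈ S) (h : ∀ a ∈ H1, a * g = g * a) :
    g = 1 := by
  have hgS : Subgroup.zpowers g ≤ S := by rw [Subgroup.zpowers_le]; exact hg
  have hA : A0 ≤ Subgroup.normalizer ((Subgroup.zpowers g : Subgroup G) : Set G) := by
    intro a ha
    rw [Subgroup.mem_normalizer_iff]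
    have key : ∀ b : G, b * g = g * b → ∀ x ∈ Subgroup.zpowers g, b * x * b⁻¹ ∈ Subgroup.zpowers g := by
      intro b hb x hx
      obtain ⟨k, rfl⟩ := Subgroup.mem_zpowers_iff.mp hx
      have : b * g ^ k = g ^ k * b := (Commute.zpow_right (h := (hb : Commute b g)) k)
      rw [this, mul_inv_cancel_right]; exact hx
    intro x
    refine ⟨key a (h a (P.AH ha)) x, fun hx => ?_⟩
    have h1 : a⁻¹ * g = g * a⁻¹ := h a⁻¹ (inv_mem (P.AH ha))
    have := key a⁻¹ h1 _ hx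
    rwa [show a⁻¹ * (a * x * a⁻¹) * a⁻¹⁻¹ = x by group] at this
  have h1 := trivial_of_irr (R := Subgroup.zpowers g) D.twoS D.US D.VU D.SV D.SU D.UnV hgS hA
    (D.AH.trans D.HV) (D.AH.trans D.HU) D.irrU
  -- a nontrivial element of `Z` centralised by `S`
  have hZS : Z ≤ S := D.ZleU.trans D.US
  obtain ⟨z0, hz0, hz01, hz0S⟩ : ∃ z0 ∈ Z, z0 ≠ 1 ∧ ∀ s ∈ S, s * z0 = z0 * s := by
    have hbot : S ≤ Subgroup.normalizer ((⊥ : Subgroup G) : Set G) := fun s _ =>
      mem_norm_iff.mpr (Subgroup.map_bot _)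
    obtain ⟨z, hz, hz1, hc⟩ := exists_central_mod D.twoS hZS bot_le hbot D.SZ
      (fun h => D.Z_ne (le_bot_iff.mp h))
    refine ⟨z, hz, fun h => hz1 (Subgroup.mem_bot.mpr h), fun s hs => ?_⟩
    have h2 := Subgroup.mem_bot.mp (hc s hs)
    calc s * z = (s * z * s⁻¹ * z⁻¹) * (z * s) := by group
      _ = z * s := by rw [h2, one_mul]
  have hZ : ∀ z ∈ Z, g * z = z * g := by
    intro z hz
    by_cases hz1 : z = 1
    · rw [hz1]; group
    · obtain ⟨a, ha, rfl⟩ := P.transZ z0 hz0 z hz hz01 hz1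
      have h2 := h a ha
      have h3 := hz0S g hg
      have h4 : a⁻¹ * g = g * a⁻¹ := h a⁻¹ (inv_mem ha)
      calc g * (a * z0 * a⁻¹) = (g * a) * z0 * a⁻¹ := by group
        _ = a * (g * z0) * a⁻¹ := by rw [← h2]; group
        _ = a * z0 * (g * a⁻¹) := by rw [h3]; group
        _ = _ := by rw [← h4]; group
  have h2 : g ∈ U := D.mem_U_of hg (fun u hu => h1 g (Subgroup.mem_zpowers g) u hu) hZ
  exact P.cent_U h2 h

/-- An element of `U ∩ N(H)` is trivial. -/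
theorem eq_one_of_norm [Finite G] (D : Data S V U Z Y L1 L2 Q H A0 n1 n2)
    (P : PartOne V U Z Y L1 H1 A0 n1) (hH1 : H1 ≤ H) {u : G} (hu : u ∈ U)
    (hn : u ∈ Subgroup.normalizer (H : Set G)) : u = 1 := by
  refine P.cent_U hu fun a ha => ?_
  have haH := hH1 ha
  have h1 : u * a * u⁻¹ * a⁻¹ ∈ H := mul_mem (conj_mem hn haH) (inv_mem haH)
  have h2 : u * a * u⁻¹ * a⁻¹ ∈ U := by
    rw [show u * a * u⁻¹ * a⁻¹ = u * (a * u⁻¹ * a⁻¹) by group]
    exact mul_mem hu (conj_mem (D.HU haH) (inv_mem hu))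
  have h3 := eq_one_of_odd_two D.odd D.twoU h1 h2
  calc a * u = (u * a * u⁻¹ * a⁻¹)⁻¹ * (u * a) := by group
    _ = u * a := by rw [h3]; group

/-- The elements of `N_S(H)` acting as the involution of the field on `L1/V`. -/
structure Frob (V U Z L1 H1 : Subgroup G) (n1 : G) (F : G → Prop) : Prop where
  dich : ∀ g, g ∈ Subgroup.normalizer (V : Set G) → g ∈ Subgroup.normalizer (L1 : Set G) →
    g ∈ Subgroup.normalizer (U : Set G) → g ∈ Subgroup.normalizer (H1 : Set G) → g * g = 1 →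
    (∀ a ∈ H1, a * g = g * a) ∨ F g
  mul : ∀ g g', F g → F g' → ∀ a ∈ H1, a * (g * g') = (g * g') * a
  fixZ : ∀ g, F g → ∀ z ∈ Z, g * z = z * g
  fixE : ∀ g, F g → ∀ z ∈ cj n1 Z, g * z = z * g
  coset : ∀ g, F g → g * g = 1 → ∀ u ∈ U, (u * g) * (u * g) = 1 →
    ∃ w ∈ U, ∃ v ∈ V, u * g = v * (w * g * w⁻¹)
  card : ∀ g, F g → g * g = 1 →
    4 * Nat.card ↥(V ⊓ Subgroup.centralizer {g}) ≤ Nat.card V
  abel : ∀ A : Subgroup G, A ≤ U → (∀ a ∈ A, a * a = 1) → (∀ a ∈ A, ∀ b ∈ A, a * b = b * a) →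
    ¬ A ≤ V → 2 * Nat.card A < Nat.card V

section Ext

variable [Finite G] (D : Data S V U Z Y L1 L2 Q H A0 n1 n2) (P : PartOne V U Z Y L1 H1 A0 n1)
  (hH1 : H1 = H ⊓ L1)
  (hH : H ≤ (L1 ⊓ Subgroup.normalizer (U : Set G)) ⊔ (L2 ⊓ Subgroup.normalizer (U : Set G)))
  {F : G → Prop} (Fr : Frob V U Z L1 H1 n1 F)
include D P hH1 hH Fr

theorem exists_frob {x : G} (hx : x ∈ S) (hx2 : x * x = 1) (hxU : x ∉ U) :
    ∃ u ∈ U, F (u * x) ∧ (u * x) * (u * x) = 1 := by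
  obtain ⟨u, hu, hg⟩ := D.exists_norm_H hH hx
  have hxn := D.SU hx
  have hgS : u * x ∈ S := mul_mem (D.US hu) hx
  have h1 : (u * x) * (u * x) ∈ U := by
    have e : (u * x) * (u * x) = u * (x * u * x⁻¹) * (x * x) := by group
    rw [e, hx2, mul_one]
    exact mul_mem hu (conj_mem hxn hu)
  have h2 : (u * x) * (u * x) = 1 := D.eq_one_of_norm P (hH1 ▸ inf_le_left) h1 (mul_mem hg hg)
  refine ⟨u, hu, ?_, h2⟩
  rcases Fr.dich (u * x) (D.SV hgS) (D.SL1 hgS) (D.SU hgS)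
    (hH1 ▸ norm_inf hg (D.SL1 hgS)) h2 with h3 | h3
  · exfalso
    apply hxU
    have h4 := D.eq_one_of_cent P hgS h3
    have h5 : x = u⁻¹ := (inv_eq_of_mul_eq_one_right h4).symm
    rw [h5]; exact inv_mem hu
  · exact h3

theorem ext_two {x y : G} (hx : x ∈ S) (hy : y ∈ S) (hx2 : x * x = 1) (hy2 : y * y = 1) :
    x ∈ U ∨ y ∈ U ∨ x * y ∈ U := by
  by_cases hxU : x ∈ U
  · exact Or.inl hxU
  by_cases hyU : y ∈ U
  · exact Or.inr (Or.inl hyU)
  right; right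
  obtain ⟨u, hu, h1, -⟩ := D.exists_frob P hH1 hH Fr hx hx2 hxU
  obtain ⟨w, hw, h2, -⟩ := D.exists_frob P hH1 hH Fr hy hy2 hyU
  have h3 := D.eq_one_of_cent P (mul_mem (mul_mem (D.US hu) hx) (mul_mem (D.US hw) hy))
    (Fr.mul _ _ h1 h2)
  have e : u * x * (w * y) = u * (x * w * x⁻¹) * (x * y) := by group
  rw [e] at h3
  have h4 : x * y = (u * (x * w * x⁻¹))⁻¹ := (inv_eq_of_mul_eq_one_right h3).symm
  rw [h4]
  exact inv_mem (mul_mem hu (conj_mem (D.SU hx) hw))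

theorem ext_coset {r : G} (hr : r ∈ S) (hr2 : r * r = 1) (hrU : r ∉ U) :
    ∃ g, F g ∧ g * g = 1 ∧ ∃ w ∈ U, ∃ v ∈ V, r = v * (w * g * w⁻¹) := by
  obtain ⟨u, hu, h1, h2⟩ := D.exists_frob P hH1 hH Fr hr hr2 hrU
  have e : r = u⁻¹ * (u * r) := by group
  obtain ⟨w, hw, v, hv, h3⟩ := Fr.coset _ h1 h2 u⁻¹ (inv_mem hu) (by rw [← e]; exact hr2)
  exact ⟨u * r, h1, h2, w, hw, v, hv, e.trans h3⟩

theorem ext_inv {r : G} (hr : r ∈ S) (hrU : r ∉ U) (hr2 : r * r = 1) :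
    (∀ z ∈ Z, r * z = z * r) ∧ ∃ u ∈ U, ∀ z ∈ cj (u * n1) Z, r * z = z * r := by
  obtain ⟨g, hg, hg2, w, hw, v, hv, rfl⟩ := D.ext_coset P hH1 hH Fr hr hr2 hrU
  have key : ∀ z ∈ V, g * (w⁻¹ * z * w) = (w⁻¹ * z * w) * g →
      v * (w * g * w⁻¹) * z = z * (v * (w * g * w⁻¹)) := by
    intro z hz h
    calc v * (w * g * w⁻¹) * z = v * w * (g * (w⁻¹ * z * w)) * w⁻¹ := by group
      _ = (v * z) * w * g * w⁻¹ := by rw [h]; group
      _ = z * (v * (w * g * w⁻¹)) := by rw [D.commV v hv z hz]; group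
  refine ⟨fun z hz => key z (D.ZV hz) ?_, w, hw, fun z hz => key z ?_ ?_⟩
  · have : w⁻¹ * z * w = z := by
      rw [mul_assoc, D.zu hz hw]; group
    rw [this]
    exact Fr.fixZ g hg z hz
  · rw [cj_mul, mem_cj] at hz
    have := conj_mem (D.UV hw) (D.EV hz)
    rwa [show w * (w⁻¹ * z * w) * w⁻¹ = z by group] at this
  · rw [cj_mul, mem_cj] at hz
    exact Fr.fixE g hg _ hz

theorem ext_wc {g : G} (h : cj g V ≤ S) : cj g V = V := by
  classical
  set A := cj g V with hA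
  have hcard : Nat.card A = Nat.card V := card_cj _ _
  have hsq : ∀ a ∈ A, a * a = 1 := by
    intro a ha
    rw [hA, mem_cj] at ha
    have := D.sqV _ ha
    calc a * a = g * ((g⁻¹ * a * g) * (g⁻¹ * a * g)) * g⁻¹ := by group
      _ = 1 := by rw [this]; group
  have hcomm : ∀ a ∈ A, ∀ b ∈ A, a * b = b * a := by
    intro a ha b hb
    rw [hA, mem_cj] at ha hb
    have := D.commV _ ha _ hb
    calc a * b = g * ((g⁻¹ * a * g) * (g⁻¹ * b * g)) * g⁻¹ := by group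
      _ = g * ((g⁻¹ * b * g) * (g⁻¹ * a * g)) * g⁻¹ := by rw [this]
      _ = _ := by group
  by_contra hne
  by_cases hAU : A ≤ U
  · by_cases hAV : A ≤ V
    · exact hne (Subgroup.eq_of_le_of_card_ge hAV hcard.ge)
    · have := Fr.abel A hAU hsq hcomm hAV
      omega
  · obtain ⟨r, hrA, hrU⟩ := SetLike.not_le_iff_exists.mp hAU
    -- `|A| ≤ 2 |A ∩ U|`
    have h1 : Nat.card A ≤ 2 * Nat.card ↥(A ⊓ U) := by
      let f : A → ↥(A ⊓ U) × Bool := fun x =>
        if hx : (x : G) ∈ U then (⟨x, Subgroup.mem_inf.mpr ⟨x.2, hx⟩⟩, true)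
        else (⟨x * r, Subgroup.mem_inf.mpr ⟨mul_mem x.2 hrA,
          ((D.ext_two P hH1 hH Fr (h x.2) (h hrA) (hsq _ x.2) (hsq _ hrA)).resolve_left
            hx).resolve_left hrU⟩⟩, false)
      have hf : Function.Injective f := by
        intro x y hxy
        by_cases hx : (x : G) ∈ U <;> by_cases hy : (y : G) ∈ U
        · simp only [f, hx, hy, dif_pos, Prod.mk.injEq, Subtype.mk.injEq, and_true] at hxy
          exact Subtype.ext hxy
        · simp only [f, hx, hy, dif_pos, dif_neg, not_false_eq_true, Prod.mk.injEq] at hxy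
          exact absurd hxy.2 (by decide)
        · simp only [f, hx, hy, dif_pos, dif_neg, not_false_eq_true, Prod.mk.injEq] at hxy
          exact absurd hxy.2 (by decide)
        · simp only [f, hx, hy, dif_neg, not_false_eq_true, Prod.mk.injEq, Subtype.mk.injEq,
            and_true] at hxy
          exact Subtype.ext (mul_right_cancel hxy)
      have := Nat.card_le_card_of_injective f hf
      rw [Nat.card_prod, Nat.card_eq_fintype_card (α := Bool), Fintype.card_bool] at this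
      omega
    by_cases hAV : A ⊓ U ≤ V
    · obtain ⟨g', hg', hg2, w, hw, v, hv, e⟩ := D.ext_coset P hH1 hH Fr (h hrA) (hsq _ hrA) hrU
      have h2 : cj w⁻¹ (A ⊓ U) ≤ V ⊓ Subgroup.centralizer {g'} := by
        intro x hx
        rw [mem_cj, inv_inv] at hx
        have hxV := hAV hx
        have h3 := hcomm _ (Subgroup.mem_inf.mp hx).1 _ hrA
        have h4 : x ∈ V := by
          have := conj_mem' (D.UV hw) hxV
          rwa [show w⁻¹ * (w * x * w⁻¹) * w = x by group] at this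
        refine Subgroup.mem_inf.mpr ⟨h4, Subgroup.mem_centralizer_singleton_iff.mpr ?_⟩
        rw [e] at h3
        have h5 := D.commV _ hxV v hv
        have h6 : v * ((w * x * w⁻¹) * (w * g' * w⁻¹)) = v * ((w * g' * w⁻¹) * (w * x * w⁻¹)) := by
          calc v * ((w * x * w⁻¹) * (w * g' * w⁻¹)) = (v * (w * x * w⁻¹)) * (w * g' * w⁻¹) := by
                group
            _ = (w * x * w⁻¹) * (v * (w * g' * w⁻¹)) := by rw [← h5]; group
            _ = v * (w * g' * w⁻¹) * (w * x * w⁻¹) := h3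
            _ = _ := by group
        have h7 := mul_left_cancel h6
        calc x * g' = w⁻¹ * ((w * x * w⁻¹) * (w * g' * w⁻¹)) * w := by group
          _ = w⁻¹ * ((w * g' * w⁻¹) * (w * x * w⁻¹)) * w := by rw [h7]
          _ = g' * x := by group
      have h3 := Subgroup.card_le_of_le h2
      rw [card_cj] at h3
      have h4 := Fr.card g' hg' hg2
      have h5 : 0 < Nat.card ↥(A ⊓ U) := Nat.card_pos
      omega
    · have := Fr.abel (A ⊓ U) inf_le_right (fun a ha => hsq a (Subgroup.mem_inf.mp ha).1)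
        (fun a ha b hb => hcomm a (Subgroup.mem_inf.mp ha).1 b (Subgroup.mem_inf.mp hb).1) hAV
      omega

/-- **`Ext` from the model.** -/
theorem ext (yz : ∀ u ∈ U, u ∉ V → ∀ z ∈ Z, ∃ y ∈ Y, y * u * y⁻¹ * u⁻¹ = z)
    (cardY : Nat.card Y ≤ Nat.card Z ^ 3)
    (NV : Subgroup.normalizer (V : Set G) ≤ Subgroup.normalizer (L1 : Set G))
    (NZ : Subgroup.normalizer (Z : Set G) ≤ Subgroup.normalizer (L2 : Set G)) :
    Ext S V U Z Y L1 L2 n1 where
  two x hx y hy hx2 hy2 _ := D.ext_two P hH1 hH Fr hx hy hx2 hy2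
  inv r hr hrU hr2 := D.ext_inv P hH1 hH Fr hr hrU hr2
  wc g hg := D.ext_wc P hH1 hH Fr hg
  yz := yz
  cardY := cardY
  NV := NV
  NZ := NZ

end Ext

end Cfsg.Agent.RankTwoClose.UFour.Data

end

section


/-!
# `Frob` and `Ext` from the natural `O4^-(q)`-module
-/

set_option autoImplicit false
set_option linter.unusedSectionVars false

namespace Cfsg.Agent.RankTwoClose.UFour

open MField

/-- The order of the fixed field. -/
theorem MField.exists_q {K : Type*} [Field K] [CharP K 2] [Finite K] {s : K ≃+* K}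
    (hs : ∀ k, s (s k) = k) (hne : s ≠ RingEquiv.refl K) (hK : 4 < Nat.card K) :
    ∃ q, Nat.card K = q ^ 2 ∧ 4 ≤ q := by
  classical
  have h1 := card_fix hs hne
  refine ⟨Nat.card (fix s), by rw [pow_two, h1], ?_⟩
  set q := Nat.card (fix s) with hq
  by_contra h
  have h2 : q ≤ 3 := by omega
  have h3 : q = 3 := by
    by_contra h3
    have h4 : q ≤ 2 := by omega
    have : q * q ≤ 2 * 2 := Nat.mul_le_mul h4 h4
    omega
  have : Fintype K := Fintype.ofFinite K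
  obtain ⟨n, -, hn⟩ := FiniteField.card K 2
  rw [← Nat.card_eq_fintype_card, ← h1, h3] at hn
  have h5 : (2 : ℕ) ∣ 2 ^ (n : ℕ) := dvd_pow_self 2 n.ne_zero
  rw [← hn] at h5
  omega

namespace Model

variable {G : Type*} [Group G] {K : Type*} [Field K] [CharP K 2] {s : K ≃+* K}
  {V L : Subgroup G} (m : Model K s V L)

/-- **`Frob` from the model.** -/
theorem frob [Finite K] (hs : ∀ k, s (s k) = k) (hne : s ≠ RingEquiv.refl K)
    (hK : 4 < Nat.card K) {H1 : Subgroup G} (hL : H1 ≤ L)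
    (hU : H1 ≤ Subgroup.normalizer (m.U : Set G)) (hodd : Odd (Nat.card H1))
    (hcov : ∀ g ∈ L, cj g m.U = m.U → g ∈ m.U ⊔ H1) {n1 : G} (hn1 : n1 ∈ L)
    (hinv : ∀ a ∈ H1, n1 * a * n1⁻¹ = a⁻¹) :
    ∃ F, Data.Frob V m.U m.Z L H1 n1 F := by
  obtain ⟨q, hq, hq4⟩ := MField.exists_q hs hne hK
  obtain ⟨f, hf, hf0, hf1⟩ := exists_fix hs hne hK
  obtain ⟨m', ζ, h, hm', S⟩ := m.conj_diag hs hL hU hodd hcov ⟨f, hf0, hf1⟩
  have eU : m'.U = m.U := by
    ext x
    constructor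
    · rintro ⟨y, rfl, hy⟩
      exact m.mem_U.2 ((hm' y).1 hy)
    · rintro ⟨y, rfl, hy⟩
      exact m'.mem_U.2 ((hm' y).2 hy)
  have eZ : m'.Z = m.Z := by
    ext x
    rw [m'.memZ hs hne, m.memZ hs hne, eU]
  rw [← eU, ← eZ]
  have hn : (⟨n1, hn1⟩ : L) * h * (⟨n1, hn1⟩ : L)⁻¹ = h⁻¹ := Subtype.ext (hinv h S.mem)
  have hcV := m'.card_V hs hne hq
  refine ⟨fun g => ∃ hg : g ∈ m'.NS H1, g * g = 1 ∧ aut S ⟨g, hg⟩ = s, ?_, ?_, ?_, ?_, ?_, ?_, ?_⟩
  · intro g gV gL gU gH gg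
    have hg : g ∈ m'.NS H1 := ⟨⟨⟨gV, gL⟩, gU⟩, gH⟩
    have h2 : aut S ⟨g, hg⟩ * aut S ⟨g, hg⟩ = 1 := by
      rw [← map_mul]
      have : (⟨g, hg⟩ : m'.NS H1) * ⟨g, hg⟩ = 1 := Subtype.ext gg
      rw [this, map_one]
    rcases aut_eq_one_or S hs hne h2 with h1 | h1
    · left
      intro a ha
      exact (centralizes_of_aut_one S hodd h1 a ha).symm
    · exact Or.inr ⟨hg, gg, h1⟩
  · rintro g g' ⟨hg, -, h1⟩ ⟨hg', -, h1'⟩ a ha
    have h2 : aut S (⟨g, hg⟩ * ⟨g', hg'⟩) = 1 := by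
      rw [map_mul, h1, h1']
      ext k
      exact hs k
    exact (centralizes_of_aut_one S hodd h2 a ha).symm
  · rintro g ⟨hg, gg, h1⟩ z hz
    obtain ⟨c, hc⟩ := aut_spec S ⟨g, hg⟩
    rw [h1] at hc
    exact cent_Z S hs hne hg hc gg z hz
  · rintro g ⟨hg, gg, h1⟩ z hz
    obtain ⟨c, hc⟩ := aut_spec S ⟨g, hg⟩
    rw [h1] at hc
    exact cent_E S hs hne hg hc gg hn z hz
  · rintro g ⟨hg, -, h1⟩ gg u hu hr
    obtain ⟨c, hc⟩ := aut_spec S ⟨g, hg⟩
    rw [h1] at hc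
    exact exists_conj_mod hs hne hg hc gg ⟨u, hu, rfl⟩ (by rw [hr]; exact one_mem V)
  · rintro g ⟨hg, -, h1⟩ gg
    obtain ⟨c, hc⟩ := aut_spec S ⟨g, hg⟩
    rw [h1] at hc
    have h2 := card_centralizer_le hs hne hq S hg hc gg
    rw [hcV]
    calc 4 * Nat.card ↥(V ⊓ Subgroup.centralizer {g}) ≤ q * q ^ 3 := Nat.mul_le_mul hq4 h2
      _ = q ^ 4 := by ring
  · intro A hA _ hA2 hAV
    have h2 := m'.card_le hs hne hq hA hA2 hAV
    rw [hcV]
    have h3 : 0 < q ^ 3 := by positivity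
    calc 2 * Nat.card A ≤ 2 * q ^ 3 := Nat.mul_le_mul_left 2 h2
      _ < 4 * q ^ 3 := by omega
      _ ≤ q * q ^ 3 := Nat.mul_le_mul_right _ hq4
      _ = q ^ 4 := by ring

/-- **The P1 block with `Frob`.** -/
theorem partOne' [Finite K] [Finite V] (hs : ∀ k, s (s k) = k) (hne : s ≠ RingEquiv.refl K)
    (hK : 4 < Nat.card K) {H1 : Subgroup G} (hL : H1 ≤ L)
    (hU : H1 ≤ Subgroup.normalizer (m.U : Set G)) (hodd : Odd (Nat.card H1))
    (hcov : ∀ g ∈ L, cj g m.U = m.U → g ∈ m.U ⊔ H1) :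
    ∃ n1 ∈ L, PartOne V m.U m.Z m.Y L H1 (H1 ⊓ Subgroup.centralizer (m.Z : Set G)) n1 ∧
      ∃ F, Data.Frob V m.U m.Z L H1 n1 F := by
  obtain ⟨n1, hn1, P⟩ := m.partOne hs hne hK hL hU hodd hcov
  exact ⟨n1, hn1, P, m.frob hs hne hK hL hU hodd hcov hn1 P.n1inv⟩

/-- **`Ext` from the model and the data.** -/
theorem ext_of {G : Type*} [Group G] [Finite G] {K : Type*} [Field K] [CharP K 2] [Finite K]
    {s : K ≃+* K} {S V L1 L2 Q H A0 H1 : Subgroup G} {n1 n2 : G} (m : Model K s V L1)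
    (hs : ∀ k, s (s k) = k) (hne : s ≠ RingEquiv.refl K) (hK : 4 < Nat.card K)
    (D : Data S V m.U m.Z m.Y L1 L2 Q H A0 n1 n2) (P : PartOne V m.U m.Z m.Y L1 H1 A0 n1)
    (hH1 : H1 = H ⊓ L1)
    (hH : H ≤ (L1 ⊓ Subgroup.normalizer (m.U : Set G)) ⊔
      (L2 ⊓ Subgroup.normalizer (m.U : Set G)))
    (NV : Subgroup.normalizer (V : Set G) ≤ Subgroup.normalizer (L1 : Set G))
    (NZ : Subgroup.normalizer (m.Z : Set G) ≤ Subgroup.normalizer (L2 : Set G)) :
    Ext S V m.U m.Z m.Y L1 L2 n1 := by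
  obtain ⟨q, hq, -⟩ := MField.exists_q hs hne hK
  have hH1H : H1 ≤ H := hH1 ▸ inf_le_left
  have hodd : Odd (Nat.card H1) := D.odd.of_dvd_nat (Subgroup.card_dvd_of_le hH1H)
  obtain ⟨F, Fr⟩ := m.frob hs hne hK (H1 := H1) (hH1 ▸ inf_le_right) (hH1H.trans D.HU) hodd
    P.borel1 P.P1.nL P.n1inv
  exact D.ext P hH1 hH Fr (m.yz hs hne) (m.card_Y_le hs hne hq) NV NZ

end Model

end Cfsg.Agent.RankTwoClose.UFour

end

section


/-!
# Type `U4(q)`, `q ≥ 4`: the main theorem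

`L1/V = SL(2, q²)` on the natural `O4^-(q)`-module `V`; `L2/Q = SL(2, F)`; `U = S ∩ L1 = S ∩ L2`;
`N_G(V) ≤ N_G(L1)`, `N_G(Z) ≤ N_G(L2)`, where `Z = C_V(U)`.
-/

set_option autoImplicit false
set_option linter.unusedSectionVars false

namespace Cfsg.Agent.RankTwoClose.UFour

open Subgroup Cfsg Cfsg.Agent.Omega.Frame SLTwo

universe u

section

variable {G : Type u} [Group G] [Finite G]

/-- A Sylow subgroup `S` of `G` normalising `L` meets `L` in a Sylow subgroup of `L`. -/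
theorem le_of_inf_le (S : Sylow 2 G) {U L : Subgroup G} (hSL : (S : Subgroup G) ≤ normalizer (L : Set G))
    (hU : (S : Subgroup G) ⊓ L ≤ U) {R : Subgroup G} (hR : IsPGroup 2 R) (hUR : U ≤ R)
    (hRL : R ≤ L) : R ≤ U := by
  have : Fact (Nat.Prime 2) := ⟨Nat.prime_two⟩
  set N := normalizer (L : Set G)
  have hLN : L ≤ N := le_normalizer
  let S' : Sylow 2 N := S.subtype hSL
  have hS' : (S' : Subgroup N) = (S : Subgroup G).subgroupOf N := rfl
  have hR' : IsPGroup 2 (R.subgroupOf N) := hR.of_injective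
    (Subgroup.subgroupOfEquivOfLe (hRL.trans hLN)).toMonoidHom
    (Subgroup.subgroupOfEquivOfLe (hRL.trans hLN)).injective
  obtain ⟨T, hT⟩ := hR'.exists_le_sylow
  obtain ⟨g, hg⟩ := MulAction.exists_smul_eq N T S'
  have h1 : cj (g : G) R ≤ (S : Subgroup G) ⊓ L := by
    intro x hx
    rw [mem_cj] at hx
    have hxL : (g : G)⁻¹ * x * g ∈ L := hRL hx
    have hxL' : x ∈ L := by
      have := conj_mem g.2 hxL
      rwa [show (g : G) * ((g : G)⁻¹ * x * g) * (g : G)⁻¹ = x by group] at this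
    refine mem_inf.mpr ⟨?_, hxL'⟩
    have h2 : (⟨(g : G)⁻¹ * x * g, hLN hxL⟩ : N) ∈ T := hT (mem_subgroupOf.mpr hx)
    have h3 : g * (⟨(g : G)⁻¹ * x * g, hLN hxL⟩ : N) * g⁻¹ ∈ g • T :=
      Subgroup.smul_mem_pointwise_smul _ (MulAut.conj g) _ h2
    rw [hg] at h3
    have h4 := mem_subgroupOf.mp (show _ ∈ (S : Subgroup G).subgroupOf N from h3)
    have e : ((g * (⟨(g : G)⁻¹ * x * g, hLN hxL⟩ : N) * g⁻¹ : N) : G) = x := by
      show (g : G) * ((g : G)⁻¹ * x * g) * (g : G)⁻¹ = x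
      group
    rwa [e] at h4
  have h2 : Nat.card R ≤ Nat.card U := by
    rw [← card_cj (g : G) R]
    exact card_le_of_le (h1.trans hU)
  exact (eq_of_le_of_card_ge hUR h2).ge

variable {S : Sylow 2 G} {V L1 L2 Q : Subgroup G} {K F : Type*} [Field K] [Finite K] [CharP K 2]
  [Field F] [Finite F] [CharP F 2] {s : K ≃+* K} (hs : ∀ k, s (s k) = k)
  (hne : s ≠ RingEquiv.refl K) (hK : 4 < Nat.card K) (hF : 2 < Nat.card F) (m : Model K s V L1)
  (π2 : L2 →* SL F) (surj2 : Function.Surjective π2) (ker2 : ∀ x : L2, π2 x = 1 ↔ (x : G) ∈ Q)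
  (QU : Q ≤ m.U) (UL2 : m.U ≤ L2) (US : m.U ≤ S) (SL2 : (S : Subgroup G) ⊓ L2 ≤ m.U)
  (SV : (S : Subgroup G) ≤ normalizer (V : Set G))
  (SZ : (S : Subgroup G) ≤ normalizer (m.Z : Set G))
  (cSV : ∀ s ∈ S, (∀ v ∈ V, s * v = v * s) → s ∈ V)
  (NV : normalizer (V : Set G) ≤ normalizer (L1 : Set G))
  (NZ : normalizer (m.Z : Set G) ≤ normalizer (L2 : Set G))
  (ZL2 : ∀ z ∈ m.Z, ∀ x ∈ L2, z * x = x * z)
  (cQ : ∀ x ∈ L2, (∀ q ∈ Q, x * q = q * x) → x ∈ Q) (ne : Q ≠ V)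

include hs hne hK hF surj2 ker2 QU UL2 US SL2 SV SZ cSV NV NZ ZL2 cQ ne in
/-- `Data` and `Ext` from the two parabolics. -/
theorem exists_data_ext : ∃ (H A0 : Subgroup G) (n1 n2 : G),
    Data (S : Subgroup G) V m.U m.Z m.Y L1 L2 Q H A0 n1 n2 ∧
    Ext (S : Subgroup G) V m.U m.Z m.Y L1 L2 n1 := by
  have hSp : IsPGroup 2 (S : Subgroup G) := S.isPGroup'
  have twoU : IsPGroup 2 m.U := hSp.to_le US
  have D1 : SLPre L1 m.U V m.π := m.toPre twoU
  have hSL1 : (S : Subgroup G) ≤ normalizer (L1 : Set G) := SV.trans NV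
  have hSL2 : (S : Subgroup G) ≤ normalizer (L2 : Set G) := SZ.trans NZ
  have hSU1 : (S : Subgroup G) ⊓ L1 = m.U := le_antisymm
    (D1.sylow (hSp.to_le inf_le_left) (le_inf US D1.UL) inf_le_right) (le_inf US D1.UL)
  have SU : (S : Subgroup G) ≤ normalizer (m.U : Set G) := by
    intro g hg
    rw [← hSU1]
    exact norm_inf (le_normalizer hg) (hSL1 hg)
  obtain ⟨g0, D2⟩ := exists_pre π2 surj2 ker2 QU UL2 twoU
    fun R hR hUR hRL => le_of_inf_le S hSL2 SL2 hR hUR hRL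
  have hF' : ∃ t : Fˣ, t ≠ 1 := by
    by_contra hcon
    push Not at hcon
    have h1 : Nat.card Fˣ = 1 := by
      have : Subsingleton Fˣ := ⟨fun a b => (hcon a).trans (hcon b).symm⟩
      exact Nat.card_unique
    have h2 := Nat.card_units F
    omega
  obtain ⟨q, hq, -⟩ := MField.exists_q hs hne hK
  have VU : V ≤ m.U := D1.QU
  have hmemZ := m.memZ hs hne
  -- `N_{L1}(U) ≤ N(L2)`
  have N1 : ∀ g ∈ L1, cj g m.U = m.U → g ∈ normalizer (L2 : Set G) := by
    intro g hg hgU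
    refine NZ (mem_norm_iff.mpr (eq_of_le_of_card_ge ?_ (card_cj _ _).ge))
    intro z hz
    rw [mem_cj] at hz
    obtain ⟨h1, h2⟩ := (hmemZ _).mp hz
    refine (hmemZ _).mpr ⟨?_, fun u hu => ?_⟩
    · have := conj_mem (D1.LQ hg) h1
      rwa [show g * (g⁻¹ * z * g) * g⁻¹ = z by group] at this
    · have h3 := h2 _ (conj_mem' (mem_norm_iff.mpr hgU) hu)
      have h4 := congrArg (fun y => g * y * g⁻¹) h3
      simpa [mul_assoc] using h4
  -- `N_{L2}(U) ≤ N(L1)`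
  have N2 : ∀ g ∈ L2, cj g m.U = m.U → g ∈ normalizer (L1 : Set G) := by
    intro g _ hgU
    refine NV (mem_norm_iff.mpr ?_)
    refine m.eq_V_of_card hs hne hq ?_ ?_ ?_
    · rw [← hgU]
      exact cj_mono VU
    · intro a ha b hb
      rw [mem_cj] at ha hb
      have := m.commV _ ha _ hb
      calc a * b = g * ((g⁻¹ * a * g) * (g⁻¹ * b * g)) * g⁻¹ := by group
        _ = g * ((g⁻¹ * b * g) * (g⁻¹ * a * g)) * g⁻¹ := by rw [this]
        _ = _ := by group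
    · rw [card_cj, m.card_V hs hne hq]
  obtain ⟨H, A0, n1, n2, hH, D, P, -⟩ := exists_data' hs hne hK hF' m D2 hSp US SU hSL1 hSL2 cSV
    N1 N2 ZL2 cQ ne (X := fun _ _ => True) (fun H1 hL hU hodd hcov => by
      obtain ⟨n1, hn1, P⟩ := m.partOne hs hne hK (H1 := H1) hL hU hodd hcov
      exact ⟨n1, hn1, P, trivial⟩)
  exact ⟨H, A0, n1, n2, D, m.ext_of hs hne hK D P rfl hH NV NZ⟩

include hs hne hK hF surj2 ker2 QU UL2 US SL2 SV SZ cSV NV NZ ZL2 cQ ne in
/-- **Type `U4(q)`, `q ≥ 4`.** -/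
theorem known_of_model (hB : Omega.RootLemma.Bender.{u}) (h1144 : Omega.Exits.St1144.{u})
    (c : Ctx G) (hfull : Full (S : Subgroup G)) : IsKnownSimple' G := by
  obtain ⟨H, A0, n1, n2, D, E⟩ := exists_data_ext hs hne hK hF m π2 surj2 ker2 QU UL2 US SL2 SV SZ
    cSV NV NZ ZL2 cQ ne
  exact D.known E hB h1144 c hfull

end

end Cfsg.Agent.RankTwoClose.UFour

end

section


/-!
# `Φ = 0` (type `U₄(q)`): the end

* `known_zero` : `GIn + Fld + Out + Ext`, `Φ = 0`, `Full S` give `IsKnownSimple' G`.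
-/

set_option autoImplicit false
set_option linter.unusedSectionVars false

open Subgroup

namespace Cfsg.Agent.Omega.NOne.SU

open RankTwoClose RankTwoClose.SLTwo RankTwoClose.UFour

universe u

variable {G : Type u} [Group G]
variable {k F : Type*} [Field k] [Field F] [Algebra k F] [CharP k 2]
variable {T : Quad k F} {S : Sylow 2 G} {V R Q Q' : Subgroup G} {v : k → F → k → G} {p p' : G → F}

namespace Out

variable {Φ : Type*} [AddCommGroup Φ] [Module F Φ] {φ χ : G → Φ} {hm : Φ → Φ → F}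
    {W : Type*} [AddCommGroup W] [Module F W] {w : G → W} {g : W → W → F} {f₀ : W}
    {ι : Φ →ₗ[F] W} (D : Out T V R Q Q' v p φ χ hm w g f₀ ι) (I : GIn T S V R Q Q' v p p')
  [Subsingleton Φ]

include D I

theorem matAct_smul {x : G} {A : SL k} (h : D.MatAct x A) (s : F) (m : W) :
    D.rho x (s • m) = s • D.rho x m := by
  apply D.ext₂
  · rw [(h.2 _).1, D.g_smul, D.g_smul, D.g_smul, (h.2 m).1]; ring
  · rw [(h.2 _).2, D.g_smul, D.g_smul, D.g_smul, (h.2 m).2]; ring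

/-- `N_G(R) = LL (N_G(R) ∩ N_G(V))` -/
theorem exists_LL {c : G} (hc : c ∈ normalizer (R : Set G)) :
    ∃ l ∈ LL V R Q, l⁻¹ * c ∈ normalizer (V : Set G) := by
  obtain ⟨m, h0, h1, h2⟩ := D.pt c hc
  obtain ⟨t, ht⟩ := h2 1
  rw [← D.rho_e I hc] at ht
  -- a matrix with first column proportional to `m`
  have key : ∃ A : SL k, ∃ s : F, algebraMap k F (A.1 0 0) = s * g m f₀ ∧
      algebraMap k F (A.1 1 0) = s * g m (w (v 0 1 0)) ∧ s ≠ 0 := by
    have hm := D.decomp₀ m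
    set α := g m f₀ with hα
    set β := g m (w (v 0 1 0)) with hβ
    by_cases hb : β = 0
    · have ha : α ≠ 0 := by
        intro ha
        apply h0
        rw [hm, ha, hb, zero_smul, zero_smul, add_zero]
      refine ⟨1, α⁻¹, ?_, ?_, inv_ne_zero ha⟩
      · rw [one_00, map_one, inv_mul_cancel₀ ha]
      · rw [one_10, map_zero, hb, mul_zero]
    · have h3 : α * T.sg β + β * T.sg α = 0 := by
        have e : g m m = β * T.sg α + α * T.sg β := by
          nth_rewrite 2 [hm]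
          rw [D.g_add_right, D.g_smul_right, D.g_smul_right, ← hα, ← hβ]; ring
        rw [h1] at e
        rw [add_comm]; exact e.symm
      have hbs := T.sg_ne β hb
      have h4 : T.sg (α * β⁻¹) = α * β⁻¹ := by
        rw [map_mul, map_inv₀, ← div_eq_mul_inv, ← div_eq_mul_inv, div_eq_div_iff hbs hb]
        have := T.two_F (α * T.sg β)
        linear_combination h3 - this
      obtain ⟨a, ha⟩ := T.fix _ h4
      refine ⟨⟨!![a, 1; 1, 0], by
        rw [Matrix.det_fin_two]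
        show a * 0 - 1 * 1 = 1
        have : (2 : k) = 0 := CharTwo.two_eq_zero
        linear_combination -this⟩, β⁻¹, ?_, ?_, inv_ne_zero hb⟩
      · show algebraMap k F a = _
        rw [ha]; ring
      · show algebraMap k F 1 = _
        rw [map_one, inv_mul_cancel₀ hb]
  obtain ⟨A, s, hA0, hA1, hs⟩ := key
  obtain ⟨l, hl⟩ := D.piL_surj I A
  have hlA := D.matAct_piL I l
  rw [hl] at hlA
  have hlN := I.CR_NR hlA.1
  have hcc : (l : G)⁻¹ * c ∈ normalizer (R : Set G) := mul_mem (inv_mem hlN) hc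
  refine ⟨l, l.2, D.stab _ hcc ⟨t * s⁻¹, ?_⟩⟩
  have h5 : D.rho l (w (v 0 1 0)) = s • m := by
    apply D.ext₂
    · rw [(hlA.2 _).1, D.g_ef, D.g_ee, hA0, D.g_smul]; ring
    · rw [(hlA.2 _).2, D.g_ef, D.g_ee, hA1, D.g_smul]; ring
  rw [← D.rho_e I hcc, D.rho_mul I (inv_mem hlN) hc, ht]
  have h6 : t • m = (t * s⁻¹) • D.rho l (w (v 0 1 0)) := by
    rw [h5, smul_smul, mul_assoc, inv_mul_cancel₀ hs, mul_one]
  rw [h6, ← D.matAct_smul I hlA, D.rho_inv_left I hlN]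

/-- `N_G(R) ∩ N_G(V)` normalises both parabolics -/
theorem norm_both (E : Ext V R Q Q' p') {c : G} (h1 : c ∈ normalizer (R : Set G))
    (h2 : c ∈ normalizer (V : Set G)) :
    c ∈ normalizer ((Q ⊔ Q' : Subgroup G) : Set G) ∧ c ∈ normalizer (LL V R Q : Set G) :=
  ⟨I.NV_NX E h2, NR_LL I.nor h1⟩

variable [CharP F 2]

omit D in
theorem U_eq (E : Ext V R Q Q' p') (hC : centralizer (V : Set G) ≤ V) {x : G} :
    x ∈ (I.model E hC).U ↔ ∃ y ∈ Q, ∃ d, x = y * v 0 0 d := by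
  constructor
  · rintro ⟨z, rfl, hz⟩
    have h1 : I.pi z = up ((I.pi z).1 0 1) := by
      rw [ext_iff']
      exact ⟨hz.1, rfl, hz.2.1, hz.2.2⟩
    obtain ⟨y, hy, hp⟩ := I.p_surj ((I.pi z).1 0 1)
    have h2 : I.pi (⟨y, mem_sup_left hy⟩⁻¹ * z) = 1 := by
      rw [map_mul, map_inv, I.pi_Q hy, h1, hp]
      simp
    have h3 := hC ((I.pi_eq_one _).1 h2)
    obtain ⟨a, b, d, h4⟩ := I.v_surj _ h3
    refine ⟨y * v a b 0, mul_mem hy (I.E_le _ _), d, ?_⟩
    have h5 : v a b 0 * v 0 0 d = v a b d := by rw [I.v_mul, add_zero, add_zero, zero_add]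
    rw [mul_assoc, h5, h4]
    show (z : G) = y * (y⁻¹ * z)
    group
  · rintro ⟨y, hy, d, rfl⟩
    have hv : v 0 0 d ∈ Q ⊔ Q' := I.V_X (I.v_mem _ _ _)
    refine ⟨⟨y, mem_sup_left hy⟩ * ⟨v 0 0 d, hv⟩, rfl, ?_⟩
    have h1 : I.pi (⟨y, mem_sup_left hy⟩ * ⟨v 0 0 d, hv⟩) = up (p y) := by
      rw [map_mul, I.pi_Q hy, (I.pi_eq_one _).2 (I.V_CV (I.v_mem _ _ _)), mul_one]
    refine ⟨?_, ?_, ?_⟩
    · show (I.pi _).1 0 0 = 1
      rw [h1]; rfl
    · show (I.pi _).1 1 0 = 0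
      rw [h1]; rfl
    · show (I.pi _).1 1 1 = 1
      rw [h1]; rfl

/-- `LL/Q = SL(2, k)`, `U = S ∩ LL` -/
theorem slPre (E : Ext V R Q Q' p') (hC : centralizer (V : Set G) ≤ V) (h2 : IsPGroup 2 (I.model E hC).U) :
    SLPre (LL V R Q) (I.model E hC).U Q (D.piL I) where
  surj := D.piL_surj I
  ker := D.piL_ker I
  QL := Q_LL V R Q
  UL := by
    intro x hx
    obtain ⟨y, hy, d, rfl⟩ := (U_eq I E hC).1 hx
    exact mul_mem (Q_LL V R Q hy) (V_LL V R Q (I.v_mem _ _ _))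
  memU x := by
    constructor
    · intro hx
      obtain ⟨y, hy, d, hxy⟩ := (U_eq I E hC).1 hx
      have h1 : D.piL I x = up d := by
        apply D.piL_eq I
        rw [hxy]
        have h3 := D.matAct_mul I (D.matAct_Q I hy) (D.matAct_V I 0 0 d)
        rwa [one_mul] at h3
      rw [h1]
      exact ⟨rfl, rfl⟩
    · rintro ⟨h00, h10⟩
      have h1 : D.piL I x = up ((D.piL I x).1 0 1) := SLTwo.eq_up h00 h10
      set d := (D.piL I x).1 0 1 with hd
      have hv : v 0 0 d ∈ LL V R Q := V_LL V R Q (I.v_mem _ _ _)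
      have h3 : D.piL I (x * ⟨v 0 0 d, hv⟩⁻¹) = 1 := by
        rw [map_mul, map_inv, D.piL_eq I (x := ⟨v 0 0 d, hv⟩) (D.matAct_V I 0 0 d), h1, mul_inv_cancel]
      have h4 := (D.piL_ker I _).1 h3
      refine (U_eq I E hC).2 ⟨(x : G) * (v 0 0 d)⁻¹, h4, d, ?_⟩
      rw [inv_mul_cancel_right]
  two := h2

omit D [Subsingleton Φ] in
/-- `Q ≤ S`, `V ≤ S` -/
theorem le_S [Finite G] : Q ≤ S ∧ V ≤ S := by
  have hV2 : IsPGroup 2 V := by
    rintro ⟨x, hx⟩
    obtain ⟨a, b, d, rfl⟩ := I.v_surj x hx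
    refine ⟨1, Subtype.ext ?_⟩
    show v a b d ^ (2 ^ 1) = 1
    rw [pow_one, pow_two, I.v_sq]
  have key : ∀ X : Subgroup G, IsPGroup 2 X → (S : Subgroup G) ≤ normalizer (X : Set G) → X ≤ S := by
    intro X hX hSX
    have h1 : IsPGroup 2 ((S : Subgroup G) ⊔ X : Subgroup G) :=
      S.isPGroup'.to_sup_of_normal_right' hX hSX
    have h3 := S.is_maximal' h1 le_sup_left
    exact le_sup_right.trans h3.le
  refine ⟨key Q I.Q_two ?_, key V hV2 I.S_V⟩
  have hN : normalizer (R : Set G) ≤ normalizer (Q : Set G) := by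
    intro c hc
    rw [mem_normalizer_iff]
    intro x
    refine ⟨I.nor c hc x, fun h => ?_⟩
    have := I.nor c⁻¹ (inv_mem hc) _ h
    simpa [mul_assoc] using this
  exact I.S_R.trans hN

variable [Finite G]

omit [Subsingleton Φ] D in
theorem Z_eq (E : Ext V R Q Q' p') (hC : centralizer (V : Set G) ≤ V) : (I.model E hC).Z = R := by
  ext x
  constructor
  · rintro ⟨y, rfl, hb, hc⟩
    obtain ⟨a, b, d, h⟩ := I.v_surj y y.2
    have h1 := I.hV_v h.symm
    have hb' : (hM T a b d) 0 1 = 0 := by rw [← h1]; exact hb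
    have hc' : (hM T a b d) 1 1 = 0 := by rw [← h1]; exact hc
    have hb'' : b = 0 := hb'
    have hc'' : algebraMap k F d = 0 := hc'
    have hd : d = 0 := (map_eq_zero _).1 hc''
    rw [← h, hb'', hd]
    exact I.v_R a
  · intro hx
    obtain ⟨a, rfl⟩ := I.mem_R.1 hx
    refine ⟨⟨v a 0 0, I.v_mem _ _ _⟩, rfl, ?_, ?_⟩
    · show (I.hV _) 0 1 = 0
      rw [I.hV_v rfl]
      rfl
    · show (I.hV _) 1 1 = 0
      rw [I.hV_v rfl]
      show algebraMap k F 0 = 0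
      rw [map_zero]

end Out

variable {Φ : Type*} [AddCommGroup Φ] [Module F Φ] {φ χ : G → Φ} {hm : Φ → Φ → F}
    {W : Type*} [AddCommGroup W] [Module F W] {w : G → W} {g : W → W → F} {f₀ : W}
    {ι : Φ →ₗ[F] W}

open Cfsg Cfsg.Agent.Omega.Frame in
/-- **The end of type (β) for `Φ = 0`: `U₄(q)`.** -/
theorem known_zero [Finite G] [Subsingleton Φ] (hB : Omega.RootLemma.Bender.{u})
    (h1144 : Omega.Exits.St1144.{u}) (c : Ctx G) (hfull : Full (S : Subgroup G))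
    (I : GIn T S V R Q Q' v p p') (f : Fld T V R Q Q' v p φ χ) (D : Out T V R Q Q' v p φ χ hm w g f₀ ι)
    (E : Ext V R Q Q' p') : IsKnownSimple' G := by
  have hC := D.CV_le I f
  have := T.finite_F
  have := T.finite_k
  have hF2 : CharP F 2 := charP_of_injective_algebraMap (algebraMap k F).injective 2
  obtain ⟨hQS, hVS⟩ := Out.le_S I
  have hUS : (I.model E hC).U ≤ S := by
    intro x hx
    obtain ⟨y, hy, d, rfl⟩ := (Out.U_eq I E hC).1 hx
    exact mul_mem (hQS hy) (hVS (I.v_mem _ _ _))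
  have h2U : IsPGroup 2 (I.model E hC).U := S.isPGroup'.to_le hUS
  have D2 := D.slPre I E hC h2U
  have hRN : normalizer (R : Set G) ≤ normalizer (LL V R Q : Set G) := NR_LL I.nor
  refine known_of_model (S := S) (K := F) (F := k) (s := (T.sg : F ≃+* F)) (L2 := LL V R Q) (Q := Q)
    (fun x => T.sg_sg x) ?_ ?_ ?_ (I.model E hC) (D.piL I) (D.piL_surj I) (D.piL_ker I) ?_ D2.UL hUS ?_ I.S_V
    ?_ ?_ (I.NV_NX E) ?_ ?_ ?_ ?_ hB h1144 c hfull
  · intro h
    obtain ⟨θ, hθ⟩ := T.exists_theta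
    have h1 : T.sg θ = θ := congrArg (fun r : F ≃+* F => r θ) h
    obtain ⟨a, ha⟩ := T.fix θ h1
    exact hθ a ha
  · rw [T.card]
    have := T.four
    nlinarith
  · have := T.four
    omega
  · intro x hx
    exact (Out.U_eq I E hC).2 ⟨x, hx, 0, by rw [I.v_zero, mul_one]⟩
  · exact D2.sylow (S.isPGroup'.to_le inf_le_left) (le_inf hUS D2.UL) inf_le_right
  · rw [Out.Z_eq I E hC]
    exact I.S_R
  · intro s _ hs
    apply hC
    rw [mem_centralizer_iff]
    exact fun x hx => (hs x hx).symm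
  · rw [Out.Z_eq I E hC]
    exact hRN
  · rw [Out.Z_eq I E hC]
    intro z hz x hx
    have h1 := (D.LL_matGrp I hx).choose_spec.1
    exact mem_centralizer_iff.1 h1 z hz
  · intro x _ hq
    apply I.char2
    rw [mem_centralizer_iff]
    exact fun y hy => (hq y hy).symm
  · intro h
    have h1 : v 0 0 1 ∈ Q := by rw [h]; exact I.v_mem _ _ _
    exact one_ne_zero (I.V_Q 0 0 1 h1)

end Cfsg.Agent.Omega.NOne.SU

end
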